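import Mathlib.AlgebraicGeometry.Morphisms.Preimmersion
import Mathlib.AlgebraicGeometry.Morphisms.Flat
import Mathlib.AlgebraicGeometry.Morphisms.UniversallyClosed

/-! Closed morphisms which become isomorphisms over all local rings of an affine base. -/

set_option autoImplicit false
universe u

open CategoryTheory CategoryTheory.Limits AlgebraicGeometry

namespace Groth.Agent.Tors37

theorem isIso_stalkMap_of_flat_preimmersion {X Y : Scheme.{u}} (f : X ⟶ Y) [IsPreimmersion f] [Flat f]
    (x : X) : IsIso (f.stalkMap x) := by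
  rw [ConcreteCategory.isIso_iff_bijective]
  refine ⟨?_, f.stalkMap_surjective x⟩
  algebraize [(f.stalkMap x).hom]
  have : Module.FaithfullyFlat (Y.presheaf.stalk (f x)) (X.presheaf.stalk x) :=
    @Module.FaithfullyFlat.of_flat_of_isLocalHom _ _ _ _ _ _ _
      (Flat.stalkMap f x) (f.toLRSHom.prop x)
  exact ‹RingHom.FaithfullyFlat _›.injective

/-- `Spec R_p ⟶ Spec R`. -/
noncomputable abbrev localPt (R : Type u) [CommRing R] (p : PrimeSpectrum R) :
    Spec (CommRingCat.of (Localization.AtPrime p.asIdeal)) ⟶ Spec (CommRingCat.of R) :=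
  Spec.map (CommRingCat.ofHom (algebraMap R (Localization.AtPrime p.asIdeal)))

theorem isIso_of_forall_localPt {R : Type u} [CommRing R] {Z P : Scheme.{u}} (q : Z ⟶ P)
    [UniversallyClosed q] (ph : P ⟶ Spec (CommRingCat.of R))
    (H : ∀ p : PrimeSpectrum R, IsIso (pullback.snd q (pullback.fst ph (localPt R p)))) : IsIso q := by
  have inst : ∀ p : PrimeSpectrum R, IsPreimmersion (localPt R p) ∧ Flat (localPt R p) := fun p => by
    refine ⟨IsPreimmersion.of_isLocalization p.asIdeal.primeCompl, ?_⟩
    rw [HasRingHomProperty.Spec_iff (P := @Flat), CommRingCat.hom_ofHom, RingHom.flat_algebraMap_iff]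
    exact IsLocalization.flat _ p.asIdeal.primeCompl
  have hsurj : ∀ x : P, ∃ y : ↑(pullback ph (localPt R (ph x))), pullback.fst ph (localPt R (ph x)) y = x := by
    intro x
    obtain ⟨y, hy, -⟩ := Scheme.Pullback.exists_preimage_pullback (f := ph) (g := localPt R (ph x)) x
      (IsLocalRing.closedPoint _) (PrimeSpectrum.ext
        (IsLocalization.AtPrime.under_maximalIdeal (Localization.AtPrime (ph x).asIdeal) (ph x).asIdeal).symm)
    exact ⟨y, hy⟩
  have hbij : Function.Bijective q := by
    refine ⟨fun z₁ z₂ e => ?_, fun x => ?_⟩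
    · obtain ⟨y, hy⟩ := hsurj (q z₁)
      obtain ⟨w₁, h1, h1'⟩ := Scheme.Pullback.exists_preimage_pullback (f := q) z₁ y hy.symm
      obtain ⟨w₂, h2, h2'⟩ := Scheme.Pullback.exists_preimage_pullback (f := q) z₂ y (e.symm.trans hy.symm)
      have := H (ph (q z₁))
      have hw : w₁ = w₂ :=
        (pullback.snd q (pullback.fst ph (localPt R (ph (q z₁))))).isOpenEmbedding.injective (h1'.trans h2'.symm)
      rw [← h1, ← h2, hw]
    · obtain ⟨y, hy⟩ := hsurj x
      have := H (ph x)
      refine ⟨pullback.fst q _ ((inv (pullback.snd q (pullback.fst ph (localPt R (ph x))))) y), ?_⟩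
      rw [← Scheme.Hom.comp_apply, ← Scheme.Hom.comp_apply, pullback.condition, IsIso.inv_hom_id_assoc, hy]
  rw [isIso_iff_isIso_stalkMap]
  refine ⟨?_, fun z => ?_⟩
  · exact (TopCat.isIso_iff_isHomeomorph _).mpr
      (isHomeomorph_iff_continuous_isClosedMap_bijective.mpr ⟨q.continuous, q.isClosedMap, hbij⟩)
  · let p := ph (q z)
    obtain ⟨y, hy⟩ := hsurj (q z)
    obtain ⟨w, hw, -⟩ := Scheme.Pullback.exists_preimage_pullback (f := q) z y hy.symm
    have := H p
    have := (inst p).1
    have := (inst p).2
    have : IsPreimmersion (pullback.fst q (pullback.fst ph (localPt R p))) := inferInstance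
    have : Flat (pullback.fst ph (localPt R p)) := MorphismProperty.pullback_fst _ _ (inst p).2
    have : Flat (pullback.fst q (pullback.fst ph (localPt R p))) := MorphismProperty.pullback_fst _ _ ‹Flat (pullback.fst ph _)›
    let f := pullback.fst q (pullback.fst ph (localPt R p))
    let g := pullback.snd q (pullback.fst ph (localPt R p))
    have e : IsIso ((f ≫ q).stalkMap w) := by
      rw [Scheme.Hom.stalkMap_congr_hom (f ≫ q) (g ≫ pullback.fst ph (localPt R p)) pullback.condition,
        Scheme.Hom.stalkMap_comp]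
      have := isIso_stalkMap_of_flat_preimmersion (pullback.fst ph (localPt R p)) (g w)
      have : IsIso g := H p
      exact IsIso.comp_isIso' (Iso.isIso_hom _)
        (IsIso.comp_isIso' (isIso_stalkMap_of_flat_preimmersion _ (g w))
          (((isIso_iff_isIso_stalkMap g).mp ‹_›).2 w))
    rw [Scheme.Hom.stalkMap_comp] at e
    have := isIso_stalkMap_of_flat_preimmersion f w
    have : IsIso (q.stalkMap (f w)) := @IsIso.of_isIso_comp_right _ _ _ _ _ _ _ this e
    rw [← hw]
    exact this

end Groth.Agent.Tors37
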