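import Groth.Prelude.Def_NonAbH2
import Groth.Prelude.Def_ChGrp
import Mathlib.AlgebraicGeometry.Morphisms.FlatRank

/-! Pseudo-torsors: criterion on points, rank over a field. -/

set_option autoImplicit false
set_option backward.isDefEq.respectTransparency.types false
universe u

open CategoryTheory CategoryTheory.Limits MonoidalCategory CartesianMonoidalCategory AlgebraicGeometry

namespace Groth.Agent.Tors37

theorem isPseudoTorsorSch_of_existsUnique {S : Scheme.{u}} {G X : Over S} [GrpObj G] (a : AlgGrp.Action G X)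
    (key : ∀ {Z : Over S} (p q : Z ⟶ X), ∃! g : Z ⟶ G, lift g p ≫ a.act = q) :
    NonAbH1.IsPseudoTorsorSch a := by
  obtain ⟨ξ, hξ, -⟩ := key (snd X X) (fst X X)
  refine ⟨⟨lift ξ (snd X X), ?_, ?_⟩⟩
  · rw [comp_lift, lift_snd]
    obtain ⟨ξ', -, hu'⟩ := key (snd G X) a.act
    have e1 : lift a.act (snd G X) ≫ ξ = ξ' := hu' _ (by
      have := congrArg (lift a.act (snd G X) ≫ ·) hξ
      simp only [comp_lift_assoc, lift_snd, lift_fst] at this
      exact this)
    have e2 : fst G X = ξ' := hu' _ (by beta_reduce; rw [lift_fst_snd, Category.id_comp])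
    rw [e1, ← e2, lift_fst_snd]
  · rw [comp_lift, lift_snd, hξ, lift_fst_snd]

theorem finrank_eq_of_pseudo {K : Type u} [Field K] {G X : Over (Spec (CommRingCat.of K))} [GrpObj G]
    [IsFinite G.hom] [IsFinite X.hom] (a : AlgGrp.Action G X) (ha : NonAbH1.IsPseudoTorsorSch a) (x : X.left) :
    X.hom.finrank (IsLocalRing.closedPoint K) = G.hom.finrank (IsLocalRing.closedPoint K) := by
  have : IsIso (lift a.act (snd G X)) := ha
  have : IsIso (lift a.act (snd G X)).left :=
    inferInstanceAs (IsIso ((Over.forget _).map (lift a.act (snd G X))))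
  have e : (lift a.act (snd G X)).left ≫ pullback.snd X.hom X.hom = pullback.snd G.hom X.hom :=
    congrArg (fun t => t.left) (lift_snd a.act (snd G X))
  have hx : X.hom x = IsLocalRing.closedPoint K := Subsingleton.elim (α := Spec (CommRingCat.of K)) _ _
  calc X.hom.finrank (IsLocalRing.closedPoint K) = (pullback.snd X.hom X.hom).finrank x := by
        rw [Scheme.Hom.finrank_pullback_snd, hx]
    _ = (pullback.snd G.hom X.hom).finrank x := by rw [← e, Scheme.Hom.finrank_comp_left_of_isIso]
    _ = G.hom.finrank (IsLocalRing.closedPoint K) := by rw [Scheme.Hom.finrank_pullback_snd, hx]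

end Groth.Agent.Tors37
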