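import Groth.Prelude.Def_ActBC
import Mathlib.AlgebraicGeometry.ValuativeCriterion

/-! Restriction and base change of actions: composition, transport of equivariant isomorphisms. -/

set_option autoImplicit false
universe u

open CategoryTheory CategoryTheory.Limits MonoidalCategory CartesianMonoidalCategory MonObj AlgebraicGeometry

namespace Groth.Agent.Tors37

variable {S : Scheme.{u}} {G H K X Y : Over S} [GrpObj G] [GrpObj H] [GrpObj K]

theorem restrict_restrict (φ : H ⟶ G) [IsMonHom φ] (ψ : K ⟶ H) [IsMonHom ψ] (θ : K ⟶ G) [IsMonHom θ]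
    (h : ψ ≫ φ = θ) (a : AlgGrp.Action G X) : (a.restrict φ).restrict ψ = a.restrict θ :=
  AlgGrp.Action.ext' (by simp [← h])

/-- An equivariant isomorphism stays equivariant after restricting both actions. -/
def restrictIso {a : AlgGrp.Action G X} {a' : AlgGrp.Action G Y} (e : NonAbH1.EquivIso a a') (φ : H ⟶ G)
    [IsMonHom φ] : NonAbH1.EquivIso (a.restrict φ) (a'.restrict φ) where
  iso := e.iso
  comm := by
    simp only [AlgGrp.Action.restrict_act, Category.assoc]
    rw [e.comm, ← whisker_exchange_assoc]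

theorem isTorsorFor_restrict {K₀ : Precoverage Scheme.{u}} (φ : H ⟶ G) [IsMonHom φ] [IsIso φ]
    {a : AlgGrp.Action G X} (h : NonAbH1.IsTorsorFor K₀ a) : NonAbH1.IsTorsorFor K₀ (a.restrict φ) := by
  refine ⟨?_, h.2⟩
  have : IsIso (lift a.act (snd G X)) := h.1
  show IsIso (lift ((φ ▷ X) ≫ a.act) (snd H X))
  have e : lift ((φ ▷ X) ≫ a.act) (snd H X) = (φ ▷ X) ≫ lift a.act (snd G X) := by
    rw [comp_lift, whiskerRight_snd]
  rw [e]
  infer_instance

end Groth.Agent.Tors37
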