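import Groth.Prelude.Def_ActBC
import Groth.Agent.Sga84.TorsorAff
import Groth.Agent.AlgGrp79.Act

/-! An action over `T` seen on points with values in schemes over `S`. -/

set_option autoImplicit false
universe u

open CategoryTheory CategoryTheory.Limits MonoidalCategory CartesianMonoidalCategory MonObj AlgebraicGeometry

namespace Groth.Agent.Tors37

theorem homEquiv_fst {S T : Scheme.{u}} (h : T ⟶ S) {W : Over T} {G : Over S} (g : (Over.map h).obj W ⟶ G) :
    ((Over.mapPullbackAdj h).homEquiv W G g).left ≫ pullback.fst G.hom h = g.left := by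
  simp [Adjunction.homEquiv_unit]
  rw [pullback.lift_fst, pullback.lift_fst_assoc, Category.id_comp]

variable {S T : Scheme.{u}} {h : T ⟶ S} {G : Over S} [GrpObj G] {X : Over T}

/-- The base of a point, as a scheme over `T`. -/
noncomputable abbrev baseObj {Z : Over S} (x : Z ⟶ (Over.map h).obj X) : Over T := Over.mk (x.left ≫ X.hom)

/-- A scheme with a point, over `S`. -/
noncomputable def baseIso {Z : Over S} (x : Z ⟶ (Over.map h).obj X) : Z ≅ (Over.map h).obj (baseObj x) :=
  Over.isoMk (Iso.refl Z.left) (by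
    show 𝟙 Z.left ≫ (x.left ≫ X.hom) ≫ h = Z.hom
    rw [Category.id_comp, Category.assoc]; exact Over.w x)

/-- The action of points of `G` on points of `X` lying over arbitrary points of `T`. -/
noncomputable def gact (a : AlgGrp.Action (Red.bc h G) X) {Z : Over S} (g : Z ⟶ G)
    (x : Z ⟶ (Over.map h).obj X) : Z ⟶ (Over.map h).obj X :=
  (baseIso x).hom ≫ (Over.map h).map (Sga84.actPt a
    ((Over.mapPullbackAdj h).homEquiv (baseObj x) G ((baseIso x).inv ≫ g))
    (Over.homMk x.left rfl : baseObj x ⟶ X))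

variable (a : AlgGrp.Action (Red.bc h G) X)

theorem gact_transpose {Z : Over S} {W : Over T} (k : Z ⟶ (Over.map h).obj W) (ξ : (Over.map h).obj W ⟶ G)
    (x' : W ⟶ X) :
    gact a (k ≫ ξ) (k ≫ (Over.map h).map x') =
      k ≫ (Over.map h).map (Sga84.actPt a ((Over.mapPullbackAdj h).homEquiv W G ξ) x') := by
  let u : baseObj (k ≫ (Over.map h).map x') ⟶ W := Over.homMk k.left (by
    show k.left ≫ W.hom = (k.left ≫ x'.left) ≫ X.hom
    rw [Category.assoc, Over.w x'])
  have hu : (baseIso (k ≫ (Over.map h).map x')).hom ≫ (Over.map h).map u = k :=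
    Over.OverMorphism.ext (Category.id_comp _)
  have hu' : (baseIso (k ≫ (Over.map h).map x')).inv ≫ k = (Over.map h).map u := by
    rw [Iso.inv_comp_eq, hu]
  have hx : (Over.homMk (k ≫ (Over.map h).map x').left rfl : baseObj (k ≫ (Over.map h).map x') ⟶ X) = u ≫ x' :=
    Over.OverMorphism.ext rfl
  rw [gact, hx, ← Category.assoc, hu', Adjunction.homEquiv_naturality_left, ← Sga84.comp_actPt, Functor.map_comp,
    ← Category.assoc, hu]

/-- On points over `T` this is the action. -/
theorem gact_map {W : Over T} (g : (Over.map h).obj W ⟶ G) (x : W ⟶ X) :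
    gact a g ((Over.map h).map x) =
      (Over.map h).map (Sga84.actPt a ((Over.mapPullbackAdj h).homEquiv W G g) x) := by
  simpa only [Category.id_comp] using gact_transpose a (𝟙 _) g x

theorem exists_transpose {Z : Over S} (x : Z ⟶ (Over.map h).obj X) :
    ∃ (W : Over T) (l : Z ≅ (Over.map h).obj W) (x' : W ⟶ X), x = l.hom ≫ (Over.map h).map x' :=
  ⟨baseObj x, baseIso x, Over.homMk x.left rfl, Over.OverMorphism.ext (Category.id_comp _).symm⟩

theorem comp_gact {Z Z' : Over S} (k : Z' ⟶ Z) (g : Z ⟶ G) (x : Z ⟶ (Over.map h).obj X) :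
    k ≫ gact a g x = gact a (k ≫ g) (k ≫ x) := by
  obtain ⟨W, l, x', rfl⟩ := exists_transpose x
  rw [show g = l.hom ≫ l.inv ≫ g by simp, gact_transpose, ← Category.assoc, ← Category.assoc, ← Category.assoc,
    ← Category.assoc k]
  rw [Category.assoc (k ≫ l.hom), gact_transpose]

theorem gact_base {Z : Over S} (g : Z ⟶ G) (x : Z ⟶ (Over.map h).obj X) :
    (gact a g x).left ≫ X.hom = x.left ≫ X.hom := by
  obtain ⟨W, l, x', rfl⟩ := exists_transpose x
  rw [show g = l.hom ≫ l.inv ≫ g by simp, gact_transpose]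
  simp only [Over.comp_left, Over.map_map_left, Category.assoc, Over.w]

theorem gact_one {Z : Over S} (x : Z ⟶ (Over.map h).obj X) : gact a 1 x = x := by
  obtain ⟨W, l, x', rfl⟩ := exists_transpose x
  have : (Over.mapPullbackAdj h).homEquiv W G 1 = (1 : W ⟶ Red.bc h G) := by
    refine mul_left_cancel (a := (Over.mapPullbackAdj h).homEquiv W G 1) ?_
    rw [← AlgGrp.Action.homEquiv_mul, _root_.one_mul, _root_.mul_one]
  rw [show (1 : Z ⟶ G) = l.hom ≫ 1 from (MonObj.comp_one _).symm, gact_transpose, this]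
  congr 2
  exact AlgGrp79.one_act' a x'

theorem gact_mul {Z : Over S} (g g' : Z ⟶ G) (x : Z ⟶ (Over.map h).obj X) :
    gact a (g * g') x = gact a g (gact a g' x) := by
  obtain ⟨W, l, x', rfl⟩ := exists_transpose x
  rw [show g = l.hom ≫ l.inv ≫ g by simp, show g' = l.hom ≫ l.inv ≫ g' by simp, ← MonObj.comp_mul, gact_transpose,
    gact_transpose, gact_transpose, AlgGrp.Action.homEquiv_mul, Sga84.actPt_mul]

theorem existsUnique_gact (ha : NonAbH1.IsPseudoTorsorSch a) {Z : Over S} (x y : Z ⟶ (Over.map h).obj X)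
    (e : x.left ≫ X.hom = y.left ≫ X.hom) : ∃! g : Z ⟶ G, gact a g x = y := by
  obtain ⟨W, l, x', rfl⟩ := exists_transpose x
  have hl : l.hom.left ≫ l.inv.left = 𝟙 _ := by rw [← Over.comp_left, l.hom_inv_id]; rfl
  let y' : W ⟶ X := Over.homMk (l.inv.left ≫ y.left) (by
    rw [Category.assoc, ← e]
    simp only [Over.comp_left, Over.map_map_left, Category.assoc, Over.w x']
    rw [← Category.assoc, ← Over.comp_left, l.inv_hom_id]
    exact Category.id_comp _)
  have hy : y = l.hom ≫ (Over.map h).map y' := by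
    refine Over.OverMorphism.ext ?_
    simp [y', reassoc_of% hl]
  obtain ⟨ξ, hξ, hu⟩ := Sga84.existsUnique_actPt a ha x' y'
  refine ⟨l.hom ≫ ((Over.mapPullbackAdj h).homEquiv W G).symm ξ, ?_, fun g hg => ?_⟩
  · dsimp only
    rw [gact_transpose, Equiv.apply_symm_apply, hξ, hy]
  · rw [hy, show g = l.hom ≫ l.inv ≫ g by simp, gact_transpose, cancel_epi] at hg
    have : Sga84.actPt a ((Over.mapPullbackAdj h).homEquiv W G (l.inv ≫ g)) x' = y' :=
      Over.OverMorphism.ext (by simpa using congrArg CommaMorphism.left hg)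
    rw [← hu _ this]
    simp

theorem gact_inj (ha : NonAbH1.IsPseudoTorsorSch a) {Z : Over S} {g g' : Z ⟶ G} {x : Z ⟶ (Over.map h).obj X}
    (e : gact a g x = gact a g' x) : g = g' :=
  (existsUnique_gact a ha x (gact a g x) (gact_base a g x).symm).unique rfl e.symm

theorem gact_equivariant {Y : Over T} {a' : AlgGrp.Action (Red.bc h G) Y} {f : X ⟶ Y}
    (hf : AlgGrp.Action.IsEquivariant a a' f) {Z : Over S} (g : Z ⟶ G) (x : Z ⟶ (Over.map h).obj X) :
    gact a g x ≫ (Over.map h).map f = gact a' g (x ≫ (Over.map h).map f) := by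
  obtain ⟨W, l, x', rfl⟩ := exists_transpose x
  rw [show g = l.hom ≫ l.inv ≫ g by simp, gact_transpose, Category.assoc, Category.assoc, ← Functor.map_comp,
    ← Functor.map_comp, gact_transpose]
  congr 2
  rw [Sga84.actPt, Sga84.actPt, Category.assoc, hf, lift_whiskerLeft_assoc]

section Pull

variable {T' : Scheme.{u}} (w : T' ⟶ T) {k : T' ⟶ S} (hw : w ≫ h = k)

/-- The projection of a base change, over `S`. -/
noncomputable def pullPr (X : Over T) : (Over.map k).obj (Red.bc w X) ⟶ (Over.map h).obj X :=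
  Over.homMk (pullback.fst X.hom w) (by
    show pullback.fst X.hom w ≫ X.hom ≫ h = pullback.snd X.hom w ≫ k
    rw [pullback.condition_assoc, hw])

/-- The point of a base change given by a point and a lift of its base. -/
noncomputable def pullLift {Z : Over S} (x : Z ⟶ (Over.map h).obj X) (b : Z.left ⟶ T')
    (hb : x.left ≫ X.hom = b ≫ w) : Z ⟶ (Over.map k).obj (Red.bc w X) :=
  Over.homMk (pullback.lift x.left b hb) (by
    show _ ≫ pullback.snd X.hom w ≫ k = Z.hom
    rw [pullback.lift_snd_assoc, ← hw, ← reassoc_of% hb]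
    exact Over.w x)

theorem pullLift_pullPr {Z : Over S} (x : Z ⟶ (Over.map h).obj X) (b : Z.left ⟶ T')
    (hb : x.left ≫ X.hom = b ≫ w) : pullLift w hw x b hb ≫ pullPr w hw X = x :=
  Over.OverMorphism.ext (pullback.lift_fst _ _ _)

theorem pullLift_base {Z : Over S} (x : Z ⟶ (Over.map h).obj X) (b : Z.left ⟶ T')
    (hb : x.left ≫ X.hom = b ≫ w) : (pullLift w hw x b hb).left ≫ (Red.bc w X).hom = b :=
  pullback.lift_snd _ _ _

theorem pullPr_base {Z : Over S} (x : Z ⟶ (Over.map k).obj (Red.bc w X)) :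
    (x ≫ pullPr w hw X).left ≫ X.hom = (x.left ≫ (Red.bc w X).hom) ≫ w := by
  show (x.left ≫ pullback.fst X.hom w) ≫ X.hom = (x.left ≫ pullback.snd X.hom w) ≫ w
  rw [Category.assoc, Category.assoc, pullback.condition]

theorem pull_ext {Z : Over S} {x y : Z ⟶ (Over.map k).obj (Red.bc w X)}
    (h₁ : x ≫ pullPr w hw X = y ≫ pullPr w hw X)
    (h₂ : x.left ≫ (Red.bc w X).hom = y.left ≫ (Red.bc w X).hom) : x = y :=
  Over.OverMorphism.ext (pullback.hom_ext (congrArg CommaMorphism.left h₁) h₂)

/-- Base change of an action, read on points. -/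
theorem gact_pullPr {Z : Over S} (g : Z ⟶ G) (x : Z ⟶ (Over.map k).obj (Red.bc w X)) :
    gact ((a.bc w).restrict (ActBC.bcCompIso w h G hw).inv) g x ≫ pullPr w hw X =
      gact a g (x ≫ pullPr w hw X) := by
  obtain ⟨V, l, x', rfl⟩ := exists_transpose x
  let c : (Over.map k).obj V ≅ (Over.map h).obj ((Over.map w).obj V) := Over.isoMk (Iso.refl V.left) (by
    show 𝟙 _ ≫ (V.hom ≫ w) ≫ h = V.hom ≫ k
    rw [Category.id_comp, Category.assoc, hw])
  have hpr : ∀ y : V ⟶ Red.bc w X, (Over.map k).map y ≫ pullPr w hw X =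
      c.hom ≫ (Over.map h).map (((Over.mapPullbackAdj w).homEquiv V X).symm y) := by
    intro y
    refine Over.OverMorphism.ext ?_
    show y.left ≫ pullback.fst X.hom w = 𝟙 V.left ≫ (((Over.mapPullbackAdj w).homEquiv V X).symm y).left
    rw [Category.id_comp, ← homEquiv_fst w (((Over.mapPullbackAdj w).homEquiv V X).symm y), Equiv.apply_symm_apply]
  have hG : ∀ ξ : (Over.map k).obj V ⟶ G, (Over.mapPullbackAdj k).homEquiv V G ξ ≫ (ActBC.bcCompIso w h G hw).inv =
      (Over.mapPullbackAdj w).homEquiv V (Red.bc h G)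
        ((Over.mapPullbackAdj h).homEquiv ((Over.map w).obj V) G (c.inv ≫ ξ)) := by
    intro ξ
    rw [Iso.comp_inv_eq]
    refine Over.OverMorphism.ext (pullback.hom_ext ?_ ?_)
    · rw [homEquiv_fst, Over.comp_left, Category.assoc]
      erw [ActBC.bcCompIso_hom_left_fst, ← Category.assoc, homEquiv_fst, homEquiv_fst]
      exact (Category.id_comp _).symm
    · exact (Over.w _).trans (Over.w _).symm
  have hc : l.hom = (l.hom ≫ c.hom) ≫ c.inv := by simp
  rw [show g = l.hom ≫ l.inv ≫ g by simp, gact_transpose, Category.assoc, Category.assoc, hpr, hpr]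
  conv_rhs => rw [hc]
  simp only [Category.assoc, Iso.inv_hom_id_assoc]
  rw [← Category.assoc l.hom c.hom, ← Category.assoc l.hom c.hom, ← Category.assoc (l.hom) c.hom,
    gact_transpose]
  congr 2
  rw [Equiv.symm_apply_eq, Sga84.actPt, Sga84.actPt, ← AlgGrp.Action.lift_homEquiv_bc_act, Equiv.apply_symm_apply,
    ← hG, AlgGrp.Action.restrict_act, lift_whiskerRight_assoc]

end Pull

end Groth.Agent.Tors37
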