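import Groth.Agent.S18858
import Groth.Agent.Sga84.TorsorExact
import Groth.Prelude.Def_ActBC
import Mathlib.AlgebraicGeometry.Sites.Fpqc

/-! Classes of torsors: equality, and the class is trivial iff there is a section. -/

set_option autoImplicit false
universe u

open CategoryTheory MonoidalCategory CartesianMonoidalCategory MonObj AlgebraicGeometry

namespace Groth.Agent.Tors37

variable {S : Scheme.{u}} {G : Over S} [GrpObj G] {X Y Z : Over S} {a : AlgGrp.Action G X}
  {b : AlgGrp.Action G Y} {c : AlgGrp.Action G Z}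

/-- Composition of equivariant isomorphisms. -/
def isoTrans (e : NonAbH1.EquivIso a b) (e' : NonAbH1.EquivIso b c) : NonAbH1.EquivIso a c where
  iso := e.iso ≪≫ e'.iso
  comm := by
    simp only [Iso.trans_hom, MonoidalCategory.whiskerLeft_comp, Category.assoc]
    rw [reassoc_of% e.comm, e'.comm]

/-- Inverse of an equivariant isomorphism. -/
def isoSymm (e : NonAbH1.EquivIso a b) : NonAbH1.EquivIso b a where
  iso := e.iso.symm
  comm := by
    rw [Iso.symm_hom, ← cancel_epi (G ◁ e.iso.hom), ← reassoc_of% e.comm, e.iso.hom_inv_id, Category.comp_id,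
      ← MonoidalCategory.whiskerLeft_comp_assoc, e.iso.hom_inv_id, MonoidalCategory.whiskerLeft_id, Category.id_comp]

theorem cl_eq_iff {K : Precoverage Scheme.{u}} (P Q : NonAbH1.TorsorSch G K) :
    P.cl = Q.cl ↔ Nonempty (NonAbH1.EquivIso P.act Q.act) := by
  refine ⟨fun h => ?_, fun h => Quot.sound h⟩
  have heq : Equivalence fun P Q : NonAbH1.TorsorSch G K => Nonempty (NonAbH1.EquivIso P.act Q.act) :=
    ⟨fun P => ⟨⟨Iso.refl _, by simp⟩⟩, fun ⟨e⟩ => ⟨isoSymm e⟩, fun ⟨e⟩ ⟨e'⟩ => ⟨isoTrans e e'⟩⟩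
  exact heq.eqvGen_iff.mp (Quot.eqvGen_exact h)

theorem cl_eq_one_iff {K : Precoverage Scheme.{u}} [K.HasIsos] (hK : ∀ T, K T ≤ Scheme.fpqcPrecoverage T)
    (P : NonAbH1.TorsorSch G K) : P.cl = 1 ↔ NonAbH1.HasSectionOver P.X (𝟙 S) := by
  have hfp : ∀ {X : Over S} {a : AlgGrp.Action G X}, NonAbH1.IsTorsorFor K a →
      NonAbH1.IsTorsorFor Scheme.fpqcPrecoverage a := fun ⟨hps, R, hR, hsec⟩ => ⟨hps, R, hK _ hR, hsec⟩
  constructor
  · intro h
    obtain ⟨e⟩ := (cl_eq_iff P _).mp h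
    exact ⟨(GrpObj.toMonObj.one ≫ e.iso.inv).left, Over.w _⟩
  · rintro ⟨σ, hσ⟩
    let σ' : 𝟙_ (Over S) ⟶ P.X := Over.homMk σ hσ
    let f : G ⟶ P.X := P.act.orbitMap σ'
    have hf : AlgGrp.Action.IsEquivariant (NonAbH1.trivialAction G) P.act f := by
      refine AlgGrp.Action.hom_ext_lift₂ fun T g h => ?_
      rw [lift_whiskerLeft_assoc, ← Category.assoc, Sga84.act_trivial, AlgGrp.Action.comp_orbitMap,
        AlgGrp.Action.comp_orbitMap, AlgGrp.Action.lift_mul_act]
    have h1 : NonAbH1.IsTorsorFor Scheme.fpqcPrecoverage (NonAbH1.trivialAction G) :=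
      hfp (NonAbH1.isTorsorFor_trivialAction (G := G) K)
    have h2 : NonAbH1.IsTorsorFor Scheme.fpqcPrecoverage P.act := hfp P.isTorsor
    have : IsIso f := S18858.result (NonAbH1.trivialAction G) P.act h1 h2 f hf
    let e : NonAbH1.EquivIso (NonAbH1.trivialAction G) P.act := ⟨asIso f, hf⟩
    exact ((cl_eq_iff (⟨G, NonAbH1.trivialAction G, NonAbH1.isTorsorFor_trivialAction G K⟩ : NonAbH1.TorsorSch G K) P).mpr ⟨e⟩).symm

end Groth.Agent.Tors37
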