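import Groth.Prelude.Def_ActBC
import Groth.Agent.GrpQ80.ActGrpd
import Groth.Agent.Grpd80.AffineEqRel
import Groth.Agent.Sga84.TorsorExact
import Groth.Agent.Tors37.BC
import Groth.Agent.Tors37.Class

/-! Quotients of free actions of finite flat groups on affine schemes, and transport of torsors. -/

set_option autoImplicit false
set_option backward.isDefEq.respectTransparency.types false
universe u

open CategoryTheory MonoidalCategory CartesianMonoidalCategory MonObj AlgebraicGeometry

noncomputable section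

namespace Groth.Agent.Tors37

/-- The quotient of a free action of a finite flat group on an affine scheme over an affine base. -/
theorem exists_affine_quotient {S : Scheme.{u}} [IsAffine S] {H P : Over S} [GrpObj H] [IsFinite H.hom]
    [Flat H.hom] [LocallyOfFinitePresentation H.hom] [IsAffine P.left] (a : AlgGrp.Action H P)
    (hmono : Mono (lift a.act (snd H P)).left) :
    ∃ (M : Over S) (π : P ⟶ M), IsAffine M.left ∧ IsFinite π.left ∧ Flat π.left ∧
      LocallyOfFinitePresentation π.left ∧ Surjective π.left ∧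
      CategoryTheory.IsPullback a.act.left (snd H P).left π.left π.left := by
  let G := GrpQ80.actGrpd H P a
  have hU : IsAffine G.U := ‹IsAffine P.left›
  have hsf : IsFinite G.s := MorphismProperty.pullback_snd (P := @IsFinite) H.hom P.hom ‹_›
  have hR : IsAffine G.R := isAffine_of_isAffineHom G.s
  have : Flat G.s := MorphismProperty.pullback_snd (P := @Flat) H.hom P.hom ‹_›
  have : LocallyOfFinitePresentation G.s :=
    MorphismProperty.pullback_snd (P := @LocallyOfFinitePresentation) H.hom P.hom ‹_›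
  have : Mono G.j := by rw [GrpQ80.actGrpd_j]; exact hmono
  obtain ⟨⟨h1, h2, h3, h4⟩, sq⟩ := Grpd80.affine_equivRel G
  have hinv : ∀ x : Γ(S, ⊤), G.pU.appTop x ∈ G.invariants := fun x => by
    show G.s.appTop.hom (G.pU.appTop x) = G.t.appTop.hom (G.pU.appTop x)
    have es := congrArg (fun f : G.R ⟶ S => f.appTop x) G.s_over
    have et := congrArg (fun f : G.R ⟶ S => f.appTop x) G.t_over
    exact es.trans et.symm
  let χ : Γ(S, ⊤) →+* G.invariants := G.pU.appTop.hom.codRestrict G.invariants hinv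
  let M : Over S := Over.mk (Spec.map (CommRingCat.ofHom χ) ≫ S.isoSpec.inv)
  have hw : G.toQuot ≫ M.hom = P.hom := by
    rw [Grpd80.toQuot_eq]
    show (G.U.isoSpec.hom ≫ _) ≫ Spec.map (CommRingCat.ofHom χ) ≫ S.isoSpec.inv = G.pU
    rw [Category.assoc, ← Spec.map_comp_assoc,
      show CommRingCat.ofHom χ ≫ CommRingCat.ofHom G.invariants.subtype = G.pU.appTop from rfl,
      Scheme.isoSpec_inv_naturality, Iso.hom_inv_id_assoc]
  exact ⟨M, Over.homMk G.toQuot hw, inferInstanceAs (IsAffine (Spec _)), h1, h2, h3, h4, sq⟩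

variable {S : Scheme.{u}} {G X Y : Over S} [GrpObj G]

/-- Torsors are transported along equivariant isomorphisms. -/
theorem isTorsorFor_of_equivIso {K₀ : Precoverage Scheme.{u}} {a : AlgGrp.Action G X}
    {b : AlgGrp.Action G Y} (e : NonAbH1.EquivIso a b) (hb : NonAbH1.IsTorsorFor K₀ b) :
    NonAbH1.IsTorsorFor K₀ a := by
  obtain ⟨hp, R, hR, hsec⟩ := hb
  refine ⟨?_, R, hR, fun T f hf => ?_⟩
  · have : IsIso (lift b.act (snd G Y)) := hp
    have h : lift a.act (snd G X) ≫ (e.iso.hom ⊗ₘ e.iso.hom) =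
        (G ◁ e.iso.hom) ≫ lift b.act (snd G Y) := by
      rw [lift_map, comp_lift, e.comm, whiskerLeft_snd]
    have : IsIso (lift a.act (snd G X) ≫ (e.iso.hom ⊗ₘ e.iso.hom)) := by rw [h]; infer_instance
    exact IsIso.of_isIso_comp_right (lift a.act (snd G X)) (e.iso.hom ⊗ₘ e.iso.hom)
  · obtain ⟨σ, hσ⟩ := hsec f hf
    exact ⟨σ ≫ e.iso.inv.left, by rw [Category.assoc, Over.w, hσ]⟩

theorem isTorsorFor_bc_comp_iff {S' S'' : Scheme.{u}} (f : S'' ⟶ S') (g : S' ⟶ S) {d : S'' ⟶ S}
    (h : f ≫ g = d) (K₀ : Precoverage Scheme.{u}) (a : AlgGrp.Action G X) :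
    NonAbH1.IsTorsorFor K₀ ((a.bc g).bc f) ↔ NonAbH1.IsTorsorFor K₀ (a.bc d) := by
  let e := ActBC.equivIsoBcComp f g h a
  constructor
  · intro ht
    have h1 := isTorsorFor_of_equivIso (isoSymm e) ht
    have h2 := isTorsorFor_restrict (ActBC.bcCompIso f g G h).inv h1
    rwa [restrict_restrict _ _ (𝟙 _) (Iso.inv_hom_id _),
      show (a.bc d).restrict (𝟙 _) = a.bc d from AlgGrp.Action.ext' (by simp)] at h2
  · intro ht
    exact isTorsorFor_of_equivIso e (isTorsorFor_restrict _ ht)

end Groth.Agent.Tors37
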