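import Groth.Agent.Tors37.GAct
import Groth.Agent.Tors37.FinQuot

/-! Point formulas for restricted actions, right translations, and coset quotients. -/

set_option autoImplicit false
set_option backward.isDefEq.respectTransparency.types false
universe u

open CategoryTheory MonoidalCategory CartesianMonoidalCategory MonObj AlgebraicGeometry

noncomputable section

namespace Groth.Agent.Tors37

/-- A restricted action on points. -/
theorem gact_restrict {S T : Scheme.{u}} {h : T ⟶ S} {G H : Over S} [GrpObj G] [GrpObj H] (i : H ⟶ G)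
    [IsMonHom i] {X : Over T} (a : AlgGrp.Action (Red.bc h G) X) {Z : Over S} (g : Z ⟶ H)
    (x : Z ⟶ (Over.map h).obj X) :
    gact (a.restrict ((Over.pullback h).map i)) g x = gact a (g ≫ i) x := by
  obtain ⟨W, l, x', rfl⟩ := exists_transpose x
  rw [show g = l.hom ≫ l.inv ≫ g by simp, gact_transpose, Category.assoc, Category.assoc, gact_transpose]
  congr 2
  rw [Sga84.actPt, Sga84.actPt, AlgGrp.Action.lift_restrict_act]
  simp only [Adjunction.homEquiv_naturality_right, Category.assoc, Functor.map_comp]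

/-- A relation in points between an action seen over `S` and over `T`. -/
theorem gact_act {S T : Scheme.{u}} {h : T ⟶ S} {G : Over S} [GrpObj G] {X : Over T}
    (a : AlgGrp.Action (Red.bc h G) X) {Z : Over T} (g : Z ⟶ Red.bc h G) (x : Z ⟶ X) :
    (Over.map h).map (lift g x ≫ a.act) =
      gact a (((Over.mapPullbackAdj h).homEquiv Z G).symm g) ((Over.map h).map x) := by
  rw [gact_map, Equiv.apply_symm_apply]
  rfl

variable {S : Scheme.{u}} {G H : Over S} [GrpObj G] [GrpObj H] (i : H ⟶ G) [IsMonHom i]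

theorem lift_cosetMap {Z : Over S} (h : Z ⟶ H) (g : Z ⟶ G) :
    lift h g ≫ (snd H G * (fst H G ≫ i)⁻¹) = g * (h ≫ i)⁻¹ := by
  rw [MonObj.comp_mul, GrpObj.comp_inv, lift_fst_assoc, lift_snd]

/-- A subgroup acts on the group by `h • g = g h⁻¹`. -/
def cosetAct : AlgGrp.Action H G where
  act := snd H G * (fst H G ≫ i)⁻¹
  one_act := by
    rw [MonObj.comp_mul, GrpObj.comp_inv, whiskerRight_fst_assoc, whiskerRight_snd, IsMonHom.one_hom,
      MonObj.one_eq_one, MonObj.comp_one, inv_one, _root_.mul_one, leftUnitor_hom]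
  mul_act := by
    rw [MonObj.comp_mul, GrpObj.comp_inv, whiskerRight_fst_assoc, whiskerRight_snd, IsMonHom.mul_hom,
      MonObj.mul_eq_mul, MonObj.comp_mul, MonObj.comp_mul, tensorHom_fst, tensorHom_snd, mul_inv_rev]
    rw [show (α_ H H G).hom ≫ (H ◁ (snd H G * (fst H G ≫ i)⁻¹)) ≫ (snd H G * (fst H G ≫ i)⁻¹) =
      ((α_ H H G).hom ≫ (H ◁ (snd H G * (fst H G ≫ i)⁻¹))) ≫ (snd H G * (fst H G ≫ i)⁻¹) from
        (Category.assoc _ _ _).symm]
    simp only [MonObj.comp_mul, GrpObj.comp_inv, Category.assoc, whiskerLeft_fst_assoc, whiskerLeft_snd,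
      associator_hom_fst_assoc, associator_hom_snd_fst_assoc, associator_hom_snd_snd, _root_.mul_assoc]

@[simp] theorem cosetAct_act : (cosetAct i).act = snd H G * (fst H G ≫ i)⁻¹ := rfl

theorem mono_cosetAct [Mono i] : Mono (lift (cosetAct i).act (snd H G)).left := by
  have : Mono (lift (cosetAct i).act (snd H G)) := by
    refine ⟨fun x y e => ?_⟩
    have e1 := congrArg (· ≫ fst G G) e
    have e2 := congrArg (· ≫ snd G G) e
    simp only [Category.assoc, lift_fst, lift_snd, cosetAct_act, MonObj.comp_mul, GrpObj.comp_inv] at e1 e2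
    refine CartesianMonoidalCategory.hom_ext _ _ ((cancel_mono i).mp ?_) e2
    rw [e2] at e1
    have := inv_injective (mul_left_cancel e1)
    rw [Category.assoc, Category.assoc]
    exact this
  infer_instance

/-- The scheme of cosets of a finite flat subgroup of a finite flat group over an affine base. -/
theorem exists_coset_quotient [IsAffine S] [IsAffine G.left] [IsFinite H.hom] [Flat H.hom]
    [LocallyOfFinitePresentation H.hom] [Mono i] :
    ∃ (M : Over S) (π : G ⟶ M), IsAffine M.left ∧ IsFinite π.left ∧ Flat π.left ∧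
      LocallyOfFinitePresentation π.left ∧ Surjective π.left ∧
      (∀ {Z : Over S} (g : Z ⟶ G) (h : Z ⟶ H), (g * (h ≫ i)) ≫ π = g ≫ π) ∧
      (∀ {Z : Over S} (g g' : Z ⟶ G), g ≫ π = g' ≫ π → ∃ h : Z ⟶ H, g' = g * (h ≫ i)) := by
  obtain ⟨M, π, hM, h1, h2, h3, h4, sq⟩ := exists_affine_quotient (cosetAct i) (mono_cosetAct i)
  have hw : (cosetAct i).act ≫ π = snd H G ≫ π := Over.OverMorphism.ext sq.w
  refine ⟨M, π, hM, h1, h2, h3, h4, fun g h => ?_, fun g g' e => ?_⟩
  · have := congrArg (lift h⁻¹ g ≫ ·) hw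
    simp only [lift_snd_assoc] at this
    rw [← Category.assoc, cosetAct_act, lift_cosetMap, GrpObj.inv_comp, inv_inv] at this
    exact this
  · let w := sq.lift g'.left g.left (congrArg (fun f => CommaMorphism.left f) e).symm
    let w' : _ ⟶ H ⊗ G := Over.homMk w (by
      rw [← Over.w (snd H G), sq.lift_snd_assoc, Over.w])
    have hw1 : w' ≫ (cosetAct i).act = g' := Over.OverMorphism.ext (sq.lift_fst _ _ _)
    have hw2 : w' ≫ snd H G = g := Over.OverMorphism.ext (sq.lift_snd _ _ _)
    refine ⟨(w' ≫ fst H G)⁻¹, ?_⟩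
    have hw' : w' = lift (w' ≫ fst H G) (w' ≫ snd H G) := by rw [← comp_lift, lift_fst_snd, Category.comp_id]
    rw [← hw1, GrpObj.inv_comp, ← hw2]
    conv_lhs => rw [hw', cosetAct_act, lift_cosetMap]

end Groth.Agent.Tors37
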