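import Mathlib.AlgebraicGeometry.Morphisms.Flat
import Mathlib.CategoryTheory.Limits.Over
import Mathlib.CategoryTheory.Limits.Constructions.Over.Connected
import Groth.Agent.LimTop61.BaseChange
import Groth.Agent.CAlg5.RegularColim

/-! A cofiltered limit over `X` of affine, flat, surjective morphisms is affine, flat and surjective. -/

set_option autoImplicit false
set_option backward.isDefEq.respectTransparency false
set_option backward.defeqAttrib.useBackward true
universe u

open CategoryTheory CategoryTheory.Limits AlgebraicGeometry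

namespace Groth.Agent.Tors37

attribute [local instance] IsCofiltered.isConnected

variable {I : Type u} [SmallCategory I] [IsCofiltered I]

theorem flat_appTop_of_isLimit (D : I ⥤ Scheme.{u}) (c : Cone D) (hc : IsLimit c)
    [∀ i, IsAffine (D.obj i)] {S : Scheme.{u}} [IsAffine S] (p : c.pt ⟶ S) (q : ∀ i, D.obj i ⟶ S)
    (hp : ∀ i, c.π.app i ≫ q i = p) (hq : ∀ {i j : I} (f : i ⟶ j), D.map f ≫ q j = q i)
    (hflat : ∀ i, Flat (q i)) : Flat p := by
  have : IsAffine c.pt := Scheme.isAffine_of_isLimit c hc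
  rw [HasRingHomProperty.iff_of_isAffine (P := @Flat)]
  letI (i : I) : Algebra Γ(S, ⊤) Γ(D.obj i, ⊤) := (q i).appTop.hom.toAlgebra
  letI : Algebra Γ(S, ⊤) Γ(c.pt, ⊤) := p.appTop.hom.toAlgebra
  let g : ∀ i : I, Γ(D.obj i, ⊤) →ₐ[Γ(S, ⊤)] Γ(c.pt, ⊤) := fun i =>
    { (c.π.app i).appTop.hom with
      commutes' := fun r => (congr($(congrArg Scheme.Hom.appTop (hp i)) r) : _) }
  let h : ∀ {i j : I}, (i ⟶ j) → (Γ(D.obj j, ⊤) →ₐ[Γ(S, ⊤)] Γ(D.obj i, ⊤)) := fun {i j} f =>
    { (D.map f).appTop.hom with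
      commutes' := fun r => (congr($(congrArg Scheme.Hom.appTop (hq f)) r) : _) }
  have hgh : ∀ {i j : I} (f : i ⟶ j), (g i).comp (h f) = g j := fun {i j} f =>
    AlgHom.ext fun x => (congr($(congrArg Scheme.Hom.appTop (c.w f)) x) : _)
  have hs : CAlg5.ColimSys Γ(S, ⊤) (fun i => Γ(D.obj i, ⊤)) Γ(c.pt, ⊤) g := by
    refine ⟨fun a => ?_, fun i j => ?_, fun i x hx => ?_, IsCofiltered.nonempty⟩
    · obtain ⟨i, t, ht⟩ := exists_appTop_π_eq_of_isAffine_of_isLimit D c hc a
      exact ⟨i, t, ht⟩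
    · obtain ⟨l, a, b, -⟩ := IsCofilteredOrEmpty.cone_objs i j
      exact ⟨l, ⟨h a, hgh a⟩, h b, hgh b⟩
    · obtain ⟨j, f, hf⟩ := exists_appTop_map_eq_zero_of_isAffine_of_isLimit D c hc i x hx
      exact ⟨j, h f, hgh f, hf⟩
  exact CAlg5.flat_of_colimSys hs fun i =>
    (HasRingHomProperty.iff_of_isAffine (P := @Flat)).mp (hflat i)

variable {X : Scheme.{u}} (D : I ⥤ Over X) [∀ i, IsAffineHom (D.obj i).hom] (c : Cone D) (hc : IsLimit c)

omit [IsCofiltered I] in
theorem isAffineHom_map {i j : I} (f : i ⟶ j) : IsAffineHom ((D ⋙ Over.forget X).map f) :=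
  have : IsAffineHom ((D.map f).left ≫ (D.obj j).hom) := by rw [Over.w]; infer_instance
  IsAffineHom.of_comp (D.map f).left (D.obj j).hom

include hc

theorem isAffineHom_of_isLimit : IsAffineHom c.pt.hom := by
  obtain ⟨i⟩ := IsCofiltered.nonempty (C := I)
  have : ∀ {i j : I} (f : i ⟶ j), IsAffineHom ((D ⋙ Over.forget X).map f) := isAffineHom_map D
  have : IsAffineHom (c.π.app i).left :=
    isAffineHom_π_app (D ⋙ Over.forget X) ((Over.forget X).mapCone c) (isLimitOfPreserves _ hc) i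
  rw [show c.pt.hom = (c.π.app i).left ≫ (D.obj i).hom from (Over.w (c.π.app i)).symm]
  infer_instance

theorem surjective_of_isLimit (hsurj : ∀ i, Surjective (D.obj i).hom) : Surjective c.pt.hom := by
  obtain ⟨i⟩ := IsCofiltered.nonempty (C := I)
  refine ⟨fun x => ?_⟩
  have : ∀ (i j : I) (f : i ⟶ j), IsAffineHom ((D ⋙ Over.forget X).map f) := fun i j => isAffineHom_map D
  let F := pullback (D.obj i).hom (X.fromSpecResidueField x)
  let a : F ⟶ (D ⋙ Over.forget X).obj i := pullback.fst (D.obj i).hom (X.fromSpecResidueField x)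
  have : IsAffine F := isAffine_of_isAffineHom (pullback.snd (D.obj i).hom (X.fromSpecResidueField x))
  let hc' := LimTop61.isLimitBcCone (D ⋙ Over.forget X) ((Over.forget X).mapCone c)
    (isLimitOfPreserves _ hc) a (pullback.fst a (c.π.app i).left) (pullback.snd a (c.π.app i).left)
    (IsPullback.of_hasPullback a (c.π.app i).left)
  have : ∀ j : Over i, Nonempty ((LimTop61.bcDiagram (D ⋙ Over.forget X) a).obj j) := fun j => by
    obtain ⟨y, hy⟩ := (hsurj j.left).surj x
    have hy' : (D.obj i).hom ((D.map j.hom).left y) = x := by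
      rw [← Scheme.Hom.comp_apply, Over.w (D.map j.hom)]; exact hy
    obtain ⟨z, hz, -⟩ := Scheme.Pullback.exists_preimage_pullback (f := (D.obj i).hom)
      (g := X.fromSpecResidueField x) ((D.map j.hom).left y) (IsLocalRing.closedPoint _)
      (by rw [hy', Scheme.fromSpecResidueField_apply])
    obtain ⟨w, -, -⟩ := Scheme.Pullback.exists_preimage_pullback (f := a)
      (g := (D ⋙ Over.forget X).map j.hom) z y hz
    exact ⟨w⟩
  obtain ⟨w⟩ := Scheme.nonempty_of_isLimit _ _ hc'
  let π' : c.pt.left ⟶ (D ⋙ Over.forget X).obj i := (c.π.app i).left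
  have e : (pullback.snd a π' ≫ c.pt.hom) =
      (pullback.fst a π' ≫ pullback.snd (D.obj i).hom (X.fromSpecResidueField x)) ≫
        X.fromSpecResidueField x := by
    have hw : c.pt.hom = π' ≫ (D.obj i).hom := (Over.w (c.π.app i)).symm
    rw [hw, ← pullback.condition_assoc (f := a) (g := π') (D.obj i).hom]
    exact (congrArg (pullback.fst a π' ≫ ·) pullback.condition).trans (Category.assoc _ _ _).symm
  refine ⟨pullback.snd a π' w, ?_⟩
  have := congr($e w)
  simp only [Scheme.Hom.comp_apply, Scheme.fromSpecResidueField_apply] at this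
  exact this

theorem flat_of_isLimit (hflat : ∀ i, Flat (D.obj i).hom) : Flat c.pt.hom := by
  obtain ⟨i⟩ := IsCofiltered.nonempty (C := I)
  have : ∀ {i j : I} (f : i ⟶ j), IsAffineHom ((D ⋙ Over.forget X).map f) := isAffineHom_map D
  rw [IsZariskiLocalAtTarget.iff_of_iSup_eq_top (P := @Flat) (fun U : X.affineOpens => U.1)
    (iSup_affineOpens_eq_top _)]
  rintro ⟨U, hU⟩
  let V : ((D ⋙ Over.forget X).obj i).Opens := (D.obj i).hom ⁻¹ᵁ U
  have e : c.pt.hom ⁻¹ᵁ U = ((Over.forget X).mapCone c).π.app i ⁻¹ᵁ V := by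
    show _ = (c.π.app i).left ⁻¹ᵁ ((D.obj i).hom ⁻¹ᵁ U)
    rw [← Scheme.Hom.comp_preimage, Over.w]; rfl
  have hle : ∀ j : Over i, (D ⋙ Over.forget X).map j.hom ⁻¹ᵁ V = (D.obj j.left).hom ⁻¹ᵁ U := fun j => by
    show (D.map j.hom).left ⁻¹ᵁ ((D.obj i).hom ⁻¹ᵁ U) = _
    rw [← Scheme.Hom.comp_preimage, Over.w]
  have : ∀ j : Over i, IsAffine ((opensDiagram (D ⋙ Over.forget X) i V).obj j) := fun j =>
    (hU.preimage (D.obj i).hom).preimage ((D ⋙ Over.forget X).map j.hom)
  have : IsAffine (U : Scheme.{u}) := hU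
  have hf := flat_appTop_of_isLimit _ _ (isLimitOpensCone (D ⋙ Over.forget X) ((Over.forget X).mapCone c)
    (isLimitOfPreserves _ hc) i V) (S := (U : Scheme.{u}))
    (c.pt.hom.resLE U (((Over.forget X).mapCone c).π.app i ⁻¹ᵁ V) e.ge)
    (fun j => (D.obj j.left).hom.resLE U ((D ⋙ Over.forget X).map j.hom ⁻¹ᵁ V) (hle j).le)
    (fun j => by
      rw [← cancel_mono U.ι]
      simp)
    (fun {j k} f => by
      rw [← cancel_mono U.ι]
      simp)
    (fun j => by
      have := hflat j.left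
      rw [Scheme.Hom.resLE]
      infer_instance)
  have e' : c.pt.hom ∣_ U = (c.pt.left.isoOfEq e).hom ≫
      c.pt.hom.resLE U (((Over.forget X).mapCone c).π.app i ⁻¹ᵁ V) e.ge := by
    rw [← cancel_mono U.ι]
    simp
  rw [e']
  exact (MorphismProperty.cancel_left_of_respectsIso @Flat _ _).mpr hf

end Groth.Agent.Tors37
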