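import Groth.Agent.Tors37.Hartogs
import Mathlib.AlgebraicGeometry.Morphisms.Finite
import Mathlib.AlgebraicGeometry.Morphisms.Flat
import Mathlib.AlgebraicGeometry.Morphisms.FinitePresentation

/-! Morphisms from finite locally free schemes to affine ones extend across regular points of dim ≥ 2. -/

set_option autoImplicit false
set_option backward.isDefEq.respectTransparency.types false
universe u

open CategoryTheory CategoryTheory.Limits AlgebraicGeometry Opposite TopologicalSpace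

namespace Groth.Agent.Tors37

theorem restrict_bijective {Y : Scheme.{u}} [IsAffine Y] {R : Type u} [CommRing R] [Algebra R Γ(Y, ⊤)]
    [Module.Finite R Γ(Y, ⊤)] [Module.Projective R Γ(Y, ⊤)] {ι : Type u} [Finite ι] {f : ι → R}
    (h : Hartogs.Good f) (W : Y.Opens) (hW : W = ⨆ i, Y.basicOpen (algebraMap R Γ(Y, ⊤) (f i))) :
    Function.Bijective (Y.presheaf.map (homOfLE (le_top : W ≤ ⊤)).op) := by
  let g : ι → Γ(Y, ⊤) := fun i => algebraMap R Γ(Y, ⊤) (f i)
  have hle : ∀ i, Y.basicOpen (g i) ≤ W := fun i => hW ▸ le_iSup (fun i => Y.basicOpen (g i)) i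
  have hcov : W ≤ ⨆ i, Y.basicOpen (g i) := hW.le
  let res : ∀ (A B : Y.Opens), A ≤ B → Γ(Y, B) →+* Γ(Y, A) := fun A B e => (Y.presheaf.map (homOfLE e).op).hom
  have hres : ∀ {A B C : Y.Opens} (e : A ≤ B) (e' : B ≤ C) (x : Γ(Y, C)),
      res A B e (res B C e' x) = res A C (e.trans e') x := fun e e' x => by
    show (Y.presheaf.map (homOfLE e').op ≫ Y.presheaf.map (homOfLE e).op) x = _
    rw [← Functor.map_comp]; rfl
  have hcompat : ∀ i, ∀ m : Γ(Y, ⊤), res (Y.basicOpen (g i)) ⊤ le_top m = algebraMap Γ(Y, ⊤) Γ(Y, Y.basicOpen (g i)) m :=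
    fun i m => rfl
  refine ⟨(injective_iff_map_eq_zero (res W ⊤ le_top)).mpr fun m hm => ?_, fun x => ?_⟩
  · refine Hartogs.eq_zero (R := R) h m fun i => ?_
    have h0 : algebraMap Γ(Y, ⊤) Γ(Y, Y.basicOpen (g i)) m = 0 := by
      rw [← hcompat, ← hres (hle i) le_top, hm, map_zero]
    obtain ⟨⟨_, N, rfl⟩, hN⟩ := (IsLocalization.map_eq_zero_iff (Submonoid.powers (g i)) _ m).mp h0
    exact ⟨N, by rw [Algebra.smul_def, map_pow]; exact hN⟩
  · have hsurj : ∀ i, ∃ (n : ℕ) (a : Γ(Y, ⊤)),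
        res _ _ (hle i) x * algebraMap Γ(Y, ⊤) Γ(Y, Y.basicOpen (g i)) (g i ^ n) =
          algebraMap Γ(Y, ⊤) Γ(Y, Y.basicOpen (g i)) a := fun i => by
      obtain ⟨⟨a, _, n, rfl⟩, hna⟩ := IsLocalization.surj (Submonoid.powers (g i)) (res _ _ (hle i) x)
      exact ⟨n, a, hna⟩
    choose n a ha using hsurj
    have : Fintype ι := Fintype.ofFinite ι
    obtain ⟨N, hN⟩ : ∃ N, ∀ i, n i ≤ N := ⟨Finset.univ.sup n, fun i => Finset.le_sup (Finset.mem_univ i)⟩
    obtain ⟨b, hb⟩ : ∃ b : ι → Γ(Y, ⊤), ∀ i,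
        res _ _ (hle i) x * res _ ⊤ le_top (g i ^ N) = res (Y.basicOpen (g i)) ⊤ le_top (b i) := by
      refine ⟨fun i => g i ^ (N - n i) * a i, fun i => ?_⟩
      have e : g i ^ N = g i ^ (N - n i) * g i ^ n i := by rw [← pow_add, Nat.sub_add_cancel (hN i)]
      rw [hcompat, hcompat, e, map_mul, map_mul, ← ha i]
      ring
    have hij : ∀ i j, ∃ K : ℕ, (g i * g j) ^ K * (g j ^ N * b i - g i ^ N * b j) = 0 := fun i j => by
      have e : Y.basicOpen (g i * g j) ≤ Y.basicOpen (g i) := by rw [Scheme.basicOpen_mul]; exact inf_le_left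
      have e' : Y.basicOpen (g i * g j) ≤ Y.basicOpen (g j) := by rw [Scheme.basicOpen_mul]; exact inf_le_right
      have h0 : res (Y.basicOpen (g i * g j)) ⊤ le_top (g j ^ N * b i - g i ^ N * b j) = 0 := by
        have h1 := congrArg (res _ _ e) (hb i)
        have h2 := congrArg (res _ _ e') (hb j)
        simp only [map_mul, hres] at h1 h2
        rw [map_sub, map_mul, map_mul, ← h1, ← h2]
        ring
      obtain ⟨⟨_, K, rfl⟩, hK⟩ := (IsLocalization.map_eq_zero_iff (Submonoid.powers (g i * g j))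
        Γ(Y, Y.basicOpen (g i * g j)) _).mp h0
      exact ⟨K, hK⟩
    choose K hK using hij
    obtain ⟨K₀, hK₀⟩ : ∃ K₀, ∀ i j, K i j ≤ K₀ :=
      ⟨Finset.univ.sup fun q : ι × ι => K q.1 q.2, fun i j => Finset.le_sup (f := fun q : ι × ι => K q.1 q.2) (Finset.mem_univ (i, j))⟩
    obtain ⟨m, hm⟩ := Hartogs.exists_glue (R := R) h (N + K₀) (fun i => g i ^ K₀ * b i) fun i j => by
      have h1 : (g i * g j) ^ K₀ * (g j ^ N * b i - g i ^ N * b j) = 0 := by
        rw [← Nat.sub_add_cancel (hK₀ i j), pow_add, mul_assoc, hK i j, mul_zero]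
      simp only [Algebra.smul_def, map_pow]
      linear_combination h1
    refine ⟨m, ?_⟩
    refine TopCat.Sheaf.eq_of_locally_eq' ⟨Y.presheaf, Y.sheaf.property⟩ (fun i => Y.basicOpen (g i)) W
      (fun i => homOfLE (hle i)) hcov _ _ fun i => ?_
    show res _ _ (hle i) (res W ⊤ le_top m) = res _ _ (hle i) x
    rw [hres]
    have hu : IsUnit (algebraMap Γ(Y, ⊤) Γ(Y, Y.basicOpen (g i)) (g i ^ (N + K₀))) :=
      IsLocalization.map_units Γ(Y, Y.basicOpen (g i)) (⟨g i ^ (N + K₀), _, rfl⟩ : Submonoid.powers (g i))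
    refine hu.mul_right_cancel ?_
    rw [hcompat, ← map_mul, mul_comm m, show g i ^ (N + K₀) * m = f i ^ (N + K₀) • m by
      rw [Algebra.smul_def, map_pow], hm i, ← hcompat, ← hcompat, map_mul, pow_add, map_mul, ← hb i]
    ring

theorem existsUnique_extend_affine {X Y Q W : Scheme.{u}} [IsAffine X] [IsAffine Q] (U : X.Opens)
    (hU : IsCompact (U : Set X))
    (hZ : ∀ z : X, z ∉ U → IsRegularLocalRing (X.presheaf.stalk z) ∧ (2 : WithBot ℕ∞) ≤ ringKrullDim (X.presheaf.stalk z))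
    (p : Y ⟶ X) [IsFinite p] [Flat p] [LocallyOfFinitePresentation p] (j : W ⟶ Y) [IsOpenImmersion j]
    (hj : j.opensRange = p ⁻¹ᵁ U) (h : W ⟶ Q) :
    ∃! k : Y ⟶ Q, j ≫ k = h := by
  have : IsAffine Y := isAffine_of_isAffineHom p
  letI : Algebra Γ(X, ⊤) Γ(Y, ⊤) := p.appTop.hom.toAlgebra
  have : Module.Finite Γ(X, ⊤) Γ(Y, ⊤) := p.finite_appTop
  have : Algebra.FinitePresentation Γ(X, ⊤) Γ(Y, ⊤) :=
    (HasRingHomProperty.iff_of_isAffine (P := @LocallyOfFinitePresentation)).mp ‹_›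
  have : Module.Flat Γ(X, ⊤) Γ(Y, ⊤) := p.flat_appTop
  have : Module.FinitePresentation Γ(X, ⊤) Γ(Y, ⊤) :=
    Module.FinitePresentation.of_finite_of_finitePresentation _ _
  have : Module.Projective Γ(X, ⊤) Γ(Y, ⊤) := Module.Flat.projective_of_finitePresentation
  obtain ⟨s, hs, hU'⟩ := (isCompact_open_iff_eq_finite_iUnion_of_isTopologicalBasis
    (fun f : Γ(X, ⊤) => (X.basicOpen f : Set X))
    (by
      have hb := (isBasis_basicOpen X)
      rw [TopologicalSpace.Opens.IsBasis] at hb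
      convert hb using 1
      rw [← Set.range_comp]; rfl)
    (fun f => ((isAffineOpen_top X).basicOpen f).isCompact) U).mp ⟨hU, U.2⟩
  have := hs.to_subtype
  have hgood : Hartogs.Good (fun i : s => (i : Γ(X, ⊤))) := fun q _ hq => by
    let z : X := (isAffineOpen_top X).fromSpec ⟨q, ‹_›⟩
    have hz : z ∉ U := fun hzU => by
      have hzU' : z ∈ (U : Set X) := hzU
      rw [hU', Set.mem_iUnion₂] at hzU'
      obtain ⟨f, hf, hzf⟩ := hzU'
      have : (⟨q, ‹_›⟩ : PrimeSpectrum Γ(X, ⊤)) ∈ (isAffineOpen_top X).fromSpec ⁻¹ᵁ X.basicOpen f := hzf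
      rw [(isAffineOpen_top X).fromSpec_preimage_basicOpen f] at this
      exact this (hq ⟨f, hf⟩)
    letI := TopCat.Presheaf.algebra_section_stalk X.presheaf (U := ⊤) ⟨z, trivial⟩
    have : IsLocalization.AtPrime (X.presheaf.stalk z) q :=
      (isAffineOpen_top X).isLocalization_stalk' ⟨q, ‹_›⟩ trivial
    let e := (IsLocalization.algEquiv q.primeCompl (X.presheaf.stalk z) (Localization.AtPrime q)).toRingEquiv
    obtain ⟨h1, h2⟩ := hZ z hz
    exact ⟨IsRegularLocalRing.of_ringEquiv e, (ringKrullDim_eq_of_ringEquiv e).symm ▸ h2⟩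
  have hWeq : j.opensRange = ⨆ i : s, Y.basicOpen (algebraMap Γ(X, ⊤) Γ(Y, ⊤) i) := by
    rw [hj, show U = ⨆ i : s, X.basicOpen (i : Γ(X, ⊤)) from
      TopologicalSpace.Opens.ext (by rw [hU', TopologicalSpace.Opens.coe_iSup, Set.biUnion_eq_iUnion]), Scheme.Hom.preimage_iSup]
    congr 1
    funext i
    rw [Scheme.preimage_basicOpen]
    rfl
  have hbij := restrict_bijective hgood _ hWeq
  have hjbij : Function.Bijective j.appTop := by
    have e : j = j.isoOpensRange.hom ≫ j.opensRange.ι := (Scheme.Hom.isoOpensRange_hom_ι j).symm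
    rw [e, Scheme.Hom.comp_appTop, Scheme.Opens.ι_appTop]
    have hbc : ∀ {A B C : CommRingCat.{u}} (f : A ⟶ B) (g : B ⟶ C),
        Function.Bijective f → Function.Bijective g → Function.Bijective (f ≫ g) := fun f g hf hg => hg.comp hf
    have : IsIso j.isoOpensRange.hom.appTop := inferInstanceAs (IsIso (Scheme.Γ.map j.isoOpensRange.hom.op))
    refine hbc _ _ ?_ (ConcreteCategory.bijective_of_isIso (C := CommRingCat) _)
    have hmap : Y.presheaf.map (homOfLE (x := j.opensRange.ι ''ᵁ ⊤) le_top).op =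
        Y.presheaf.map (homOfLE (le_top : j.opensRange ≤ ⊤)).op ≫
          Y.presheaf.map (eqToHom j.opensRange.ι_image_top).op := by
      rw [← Functor.map_comp]; rfl
    rw [hmap]
    have : IsIso (Y.presheaf.map (eqToHom j.opensRange.ι_image_top).op) := inferInstance
    have hb2 := ConcreteCategory.bijective_of_isIso (C := CommRingCat) (Y.presheaf.map (eqToHom j.opensRange.ι_image_top).op)
    exact hbc _ _ hbij hb2
  have : IsIso j.appTop := (ConcreteCategory.isIso_iff_bijective _).mpr hjbij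
  refine ⟨Y.toSpecΓ ≫ Spec.map (h.appTop ≫ inv j.appTop) ≫ Q.isoSpec.inv, ?_, fun k hk => ?_⟩
  · beta_reduce
    rw [← cancel_mono Q.isoSpec.hom]
    simp only [Category.assoc, Iso.inv_hom_id, Category.comp_id]
    rw [Scheme.toSpecΓ_naturality_assoc, ← Spec.map_comp, Category.assoc, IsIso.inv_hom_id, Category.comp_id,
      Scheme.isoSpec_hom, Scheme.toSpecΓ_naturality]
  · have hk' : k.appTop = h.appTop ≫ inv j.appTop := by
      rw [← hk, Scheme.Hom.comp_appTop, Category.assoc, IsIso.hom_inv_id, Category.comp_id]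
    rw [← cancel_mono Q.isoSpec.hom]
    simp only [Category.assoc, Iso.inv_hom_id, Category.comp_id]
    rw [Scheme.isoSpec_hom, Scheme.toSpecΓ_naturality, hk']

theorem existsUnique_extend {X Y Q : Scheme.{u}} (U : X.Opens) [QuasiCompact U.ι]
    (hZ : ∀ z : X, z ∉ U → IsRegularLocalRing (X.presheaf.stalk z) ∧ (2 : WithBot ℕ∞) ≤ ringKrullDim (X.presheaf.stalk z))
    (p : Y ⟶ X) [IsFinite p] [Flat p] [LocallyOfFinitePresentation p] (q : Q ⟶ X) [IsAffineHom q]
    {W : Scheme.{u}} (j : W ⟶ Y) [IsOpenImmersion j] (hj : j.opensRange = p ⁻¹ᵁ U) (h : W ⟶ Q)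
    (hh : h ≫ q = j ≫ p) : ∃! k : Y ⟶ Q, k ≫ q = p ∧ j ≫ k = h := by
  let Yv : X.affineOpens → Y.Opens := fun V => p ⁻¹ᵁ V.1
  have key : ∀ V : X.affineOpens, ∃! k : (Yv V : Scheme.{u}) ⟶ Q, k ≫ q = (Yv V).ι ≫ p ∧
      pullback.fst j (Yv V).ι ≫ h = pullback.snd j (Yv V).ι ≫ k := by
    intro V
    have : IsAffine (V.1 : Scheme.{u}) := V.2
    have : IsAffine (q ⁻¹ᵁ V.1 : Scheme.{u}) := V.2.preimage q
    let U' : (V.1 : Scheme.{u}).Opens := V.1.ι ⁻¹ᵁ U
    have hU' : IsCompact (U' : Set V.1) := by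
      rw [V.1.ι.isOpenEmbedding.isEmbedding.isInducing.isCompact_iff]
      have h1 : IsCompact (U.ι ⁻¹' (V.1 : Set X)) := QuasiCompact.isCompact_preimage _ V.1.2 V.2.isCompact
      convert h1.image U.ι.continuous using 1
      ext x
      simp [U']
      constructor <;> rintro ⟨y, hy', hy⟩ <;> exact ⟨⟨y.1, hy'⟩, y.2, hy⟩
    have hZ' : ∀ z : V.1, z ∉ U' → IsRegularLocalRing ((V.1 : Scheme.{u}).presheaf.stalk z) ∧
        (2 : WithBot ℕ∞) ≤ ringKrullDim ((V.1 : Scheme.{u}).presheaf.stalk z) := fun z hz => by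
      obtain ⟨h1, h2⟩ := hZ (V.1.ι z) hz
      let e := (asIso (V.1.ι.stalkMap z)).commRingCatIsoToRingEquiv
      exact ⟨IsRegularLocalRing.of_ringEquiv e, (ringKrullDim_eq_of_ringEquiv e) ▸ h2⟩
    let i := pullback.snd j (Yv V).ι
    have hi : i.opensRange = (p ∣_ V.1) ⁻¹ᵁ U' := by
      refine TopologicalSpace.Opens.ext ?_
      show Set.range i = (p ∣_ V.1) ⁻¹' (V.1.ι ⁻¹' (U : Set X))
      rw [IsOpenImmersion.range_pullbackSnd, hj, ← Set.preimage_comp, ← TopCat.coe_comp, ← Scheme.Hom.comp_base,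
        morphismRestrict_ι]
      rfl
    have hr : Set.range (pullback.fst j (Yv V).ι ≫ h) ⊆ Set.range (q ⁻¹ᵁ V.1).ι := by
      rw [Scheme.Opens.range_ι]
      rintro _ ⟨w, rfl⟩
      show q ((pullback.fst j (Yv V).ι ≫ h) w) ∈ V.1
      rw [← Scheme.Hom.comp_apply, Category.assoc, hh, ← Category.assoc, pullback.condition, Category.assoc]
      exact (pullback.snd j (Yv V).ι w).2
    obtain ⟨k, hk, hku⟩ := existsUnique_extend_affine U' hU' hZ' (p ∣_ V.1) i hi (IsOpenImmersion.lift _ _ hr)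
    obtain ⟨k₀, -, hk₀⟩ := existsUnique_extend_affine U' hU' hZ' (p ∣_ V.1) i hi (i ≫ p ∣_ V.1)
    have hkq : k ≫ (q ∣_ V.1) = p ∣_ V.1 := by
      refine (hk₀ _ ?_).trans (hk₀ _ rfl).symm
      beta_reduce
      rw [← cancel_mono V.1.ι]
      simp only [Category.assoc, morphismRestrict_ι]
      rw [reassoc_of% hk, IsOpenImmersion.lift_fac_assoc, Category.assoc, hh, pullback.condition_assoc]
    refine ⟨k ≫ (q ⁻¹ᵁ V.1).ι, ⟨?_, ?_⟩, fun k' ⟨h1, h2⟩ => ?_⟩
    · rw [Category.assoc, ← morphismRestrict_ι, reassoc_of% hkq, morphismRestrict_ι]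
    · rw [reassoc_of% hk, IsOpenImmersion.lift_fac]
    · have hr' : Set.range k' ⊆ Set.range (q ⁻¹ᵁ V.1).ι := by
        rw [Scheme.Opens.range_ι]
        rintro _ ⟨w, rfl⟩
        show q (k' w) ∈ V.1
        rw [← Scheme.Hom.comp_apply, h1]
        exact w.2
      rw [← hku (IsOpenImmersion.lift _ k' hr') ?_, IsOpenImmersion.lift_fac]
      beta_reduce
      rw [← cancel_mono (q ⁻¹ᵁ V.1).ι, Category.assoc, IsOpenImmersion.lift_fac, IsOpenImmersion.lift_fac, h2]
  choose k hk hku using key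
  have hres : ∀ (V V' : X.affineOpens) (hle : Yv V' ≤ Yv V), Y.homOfLE hle ≫ k V = k V' := fun V V' hle => by
    refine hku V' _ ⟨by rw [Category.assoc, (hk V).1, Scheme.homOfLE_ι_assoc], ?_⟩
    have h1 : pullback.snd j (Yv V').ι ≫ Y.homOfLE hle =
        pullback.lift (pullback.fst j (Yv V').ι) (pullback.snd j (Yv V').ι ≫ Y.homOfLE hle)
          (by rw [Category.assoc, Scheme.homOfLE_ι]; exact pullback.condition) ≫ pullback.snd j (Yv V).ι :=
      (pullback.lift_snd _ _ _).symm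
    rw [← Category.assoc, h1, Category.assoc, ← (hk V).2, pullback.lift_fst_assoc]
  have hcov : ∀ y : Y, ∃ V : X.affineOpens, y ∈ Yv V := fun y => by
    obtain ⟨_, ⟨V, hV, rfl⟩, hyV, -⟩ :=
      X.isBasis_affineOpens.exists_subset_of_mem_open (Set.mem_univ (p y)) isOpen_univ
    exact ⟨⟨V, hV⟩, hyV⟩
  have hext : ∀ {k₁ k₂ : Y ⟶ Q}, (∀ V, (Yv V).ι ≫ k₁ = (Yv V).ι ≫ k₂) → k₁ = k₂ := fun {k₁ k₂} e => by
    refine Scheme.Cover.hom_ext (Scheme.openCoverOfIsOpenCover Y Yv ?_) _ _ e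
    exact TopologicalSpace.IsOpenCover.mk (TopologicalSpace.Opens.ext (by simpa [Set.eq_univ_iff_forall] using hcov))
  let 𝒰 := Scheme.openCoverOfIsOpenCover Y Yv
    (TopologicalSpace.IsOpenCover.mk (TopologicalSpace.Opens.ext (by simpa [Set.eq_univ_iff_forall] using hcov)))
  refine ⟨𝒰.glueMorphisms k fun V V' => ?_, ⟨?_, ?_⟩, fun k' ⟨h1, h2⟩ => hext fun V => ?_⟩
  · refine Scheme.Cover.hom_ext (Scheme.openCoverOfIsOpenCover _
      (fun w : {W'' : X.affineOpens // W''.1 ≤ V.1 ⊓ V'.1} =>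
        (pullback.fst (Yv V).ι (Yv V').ι ≫ (Yv V).ι) ⁻¹ᵁ Yv w.1) ?_) _ _ fun w => ?_
    · refine TopologicalSpace.IsOpenCover.mk (eq_top_iff.mpr fun z _ => ?_)
      have hz : p ((pullback.fst (Yv V).ι (Yv V').ι ≫ (Yv V).ι) z) ∈ V.1 ⊓ V'.1 :=
        ⟨(pullback.fst (Yv V).ι (Yv V').ι z).2, by
          rw [pullback.condition]; exact (pullback.snd (Yv V).ι (Yv V').ι z).2⟩
      obtain ⟨_, ⟨W'', hW'', rfl⟩, hzW, hW'⟩ :=
        X.isBasis_affineOpens.exists_subset_of_mem_open hz (V.1 ⊓ V'.1).2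
      exact TopologicalSpace.Opens.mem_iSup.mpr ⟨⟨⟨W'', hW''⟩, hW'⟩, hzW⟩
    · let O := (pullback.fst (Yv V).ι (Yv V').ι ≫ (Yv V).ι) ⁻¹ᵁ Yv w.1
      have l1 : Yv w.1 ≤ Yv V := p.preimage_mono (w.2.trans inf_le_left)
      have l2 : Yv w.1 ≤ Yv V' := p.preimage_mono (w.2.trans inf_le_right)
      let t : (O : Scheme.{u}) ⟶ (Yv w.1 : Scheme.{u}) :=
        IsOpenImmersion.lift (Yv w.1).ι (O.ι ≫ pullback.fst (Yv V).ι (Yv V').ι ≫ (Yv V).ι) (by
          rw [Scheme.Opens.range_ι]; rintro _ ⟨z, rfl⟩; exact z.2)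
      have t1 : O.ι ≫ pullback.fst (Yv V).ι (Yv V').ι = t ≫ Y.homOfLE l1 := by
        rw [← cancel_mono (Yv V).ι, Category.assoc, Category.assoc, Scheme.homOfLE_ι, IsOpenImmersion.lift_fac]
      have t2 : O.ι ≫ pullback.snd (Yv V).ι (Yv V').ι = t ≫ Y.homOfLE l2 := by
        rw [← cancel_mono (Yv V').ι, Category.assoc, Category.assoc, Scheme.homOfLE_ι, IsOpenImmersion.lift_fac,
          ← pullback.condition]
      show O.ι ≫ pullback.fst _ _ ≫ k V = O.ι ≫ pullback.snd _ _ ≫ k V'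
      rw [reassoc_of% t1, reassoc_of% t2, hres V w.1 l1, hres V' w.1 l2]
  · refine Scheme.Cover.hom_ext 𝒰 _ _ fun V => ?_
    rw [Scheme.Cover.ι_glueMorphisms_assoc]
    exact (hk V).1
  · refine Scheme.Cover.hom_ext (𝒰.pullback₁ j) _ _ fun V => ?_
    show pullback.fst j (𝒰.f V) ≫ j ≫ _ = pullback.fst j (𝒰.f V) ≫ h
    rw [pullback.condition_assoc, Scheme.Cover.ι_glueMorphisms]
    exact ((hk V).2).symm
  · have e1 : (Yv V).ι ≫ k' = k V := hku V _ ⟨by rw [Category.assoc, h1],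
      by rw [← h2, pullback.condition_assoc]⟩
    exact e1.trans (Scheme.Cover.ι_glueMorphisms 𝒰 _ _ V).symm

end Groth.Agent.Tors37
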