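import Groth.Agent.Hens22.PairHens
import Mathlib.RingTheory.AdicCompletion.Algebra
import Mathlib.RingTheory.LaurentSeries

/-! Power series map to the completion of a henselization of the pair (R[X], (X)). -/

set_option autoImplicit false
universe u
open Polynomial

namespace Groth.Agent.Tors37

theorem exists_powerSeries_toCompletion (R : Type u) [CommRing R] (B : Type u) [CommRing B] [Algebra R[X] B]
    (hB : Hens2.IsPairHenselization R[X] (Ideal.span {(X : R[X])}) B) (ψ : B →ₐ[R[X]] PowerSeries R) :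
    ∃ ι : PowerSeries R →+* AdicCompletion (Ideal.span {algebraMap R[X] B X}) B,
      ι.comp ψ.toRingHom = algebraMap B _ := by
  classical
  let t := algebraMap R[X] B X
  let I : Ideal B := Ideal.span {t}
  let J : Ideal (PowerSeries R) := Ideal.span {PowerSeries.X}
  have hψp : ∀ p : R[X], ψ (algebraMap R[X] B p) = (p : PowerSeries R) := fun p => by
    rw [ψ.commutes]; simp [PowerSeries.algebraMap_apply']
  have hψt : ψ t = PowerSeries.X := by rw [hψp, Polynomial.coe_X]
  have hle : ∀ n, I ^ n ≤ (J ^ n).comap ψ.toRingHom := fun n => by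
    rw [← Ideal.map_le_iff_le_comap, Ideal.map_pow, Ideal.map_span, Set.image_singleton]
    show Ideal.span {ψ t} ^ n ≤ _
    rw [hψt]
  let ψn : ∀ n, B ⧸ I ^ n →+* PowerSeries R ⧸ J ^ n := fun n =>
    Ideal.quotientMap (J ^ n) ψ.toRingHom (hle n)
  have hIn : ∀ n, (Ideal.span {(X : R[X])} ^ n).map (algebraMap R[X] B) = I ^ n := fun n => by
    rw [Ideal.map_pow, Ideal.map_span, Set.image_singleton]
  have hbij : ∀ n, Function.Bijective (ψn n) := by
    intro n
    have hrep : ∀ b : B, ∃ p : R[X], b - algebraMap R[X] B p ∈ I ^ n := fun b => by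
      rw [← hIn]; exact Hens22.exists_sub_mem_pow hB n b
    refine ⟨(injective_iff_map_eq_zero _).mpr fun x hx => ?_, fun y => ?_⟩
    · obtain ⟨b, rfl⟩ := Ideal.Quotient.mk_surjective x
      obtain ⟨p, hp⟩ := hrep b
      rw [Ideal.quotientMap_mk, Ideal.Quotient.eq_zero_iff_mem] at hx
      have h2 : ψ (algebraMap R[X] B p) ∈ J ^ n := by
        have := sub_mem hx (hle n hp)
        simpa using this
      rw [hψp, Ideal.span_singleton_pow, Ideal.mem_span_singleton, PowerSeries.X_pow_dvd_iff] at h2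
      have h3 : (X : R[X]) ^ n ∣ p := Polynomial.X_pow_dvd_iff.mpr fun d hd => by
        rw [← Polynomial.coeff_coe]; exact h2 d hd
      refine Ideal.Quotient.eq_zero_iff_mem.mpr ?_
      have h4 : algebraMap R[X] B p ∈ I ^ n := by
        rw [← hIn]
        refine Ideal.mem_map_of_mem _ ?_
        rw [Ideal.span_singleton_pow, Ideal.mem_span_singleton]; exact h3
      simpa using add_mem hp h4
    · obtain ⟨f, rfl⟩ := Ideal.Quotient.mk_surjective y
      refine ⟨Ideal.Quotient.mk _ (algebraMap R[X] B (f.trunc n)), ?_⟩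
      rw [Ideal.quotientMap_mk, Ideal.Quotient.eq]
      show ψ _ - f ∈ _
      rw [hψp, Ideal.span_singleton_pow, Ideal.mem_span_singleton, PowerSeries.X_pow_dvd_iff]
      intro d hd
      rw [map_sub, Polynomial.coeff_coe, PowerSeries.coeff_trunc, if_pos hd, sub_self]
  let g : ∀ n, PowerSeries R →+* B ⧸ I ^ n := fun n =>
    (RingEquiv.ofBijective (ψn n) (hbij n)).symm.toRingHom.comp (Ideal.Quotient.mk (J ^ n))
  have hgψ : ∀ n f, ψn n (g n f) = Ideal.Quotient.mk (J ^ n) f := fun n f =>
    (RingEquiv.ofBijective (ψn n) (hbij n)).apply_symm_apply _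
  have hcompat : ∀ {m n : ℕ} (h : m ≤ n), (Ideal.Quotient.factorPow I h).comp (g n) = g m := by
    intro m n h
    ext f
    refine (hbij m).1 ?_
    rw [hgψ, RingHom.comp_apply]
    obtain ⟨b, hb⟩ := Ideal.Quotient.mk_surjective (g n f)
    have hb' := hgψ n f
    rw [← hb, Ideal.quotientMap_mk, Ideal.Quotient.eq] at hb'
    rw [← hb, Ideal.Quotient.factor_mk, Ideal.quotientMap_mk, Ideal.Quotient.eq]
    exact Ideal.pow_le_pow_right h hb'
  refine ⟨AdicCompletion.liftRingHom I g hcompat, ?_⟩
  refine RingHom.ext fun b => ?_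
  refine AdicCompletion.ext_evalₐ (I := I) fun n => ?_
  rw [RingHom.comp_apply, AdicCompletion.evalₐ_liftRingHom, AlgHom.commutes]
  refine (hbij n).1 ?_
  rw [hgψ]
  rfl

end Groth.Agent.Tors37
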