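import Groth.Agent.CAlg9.Elkik.Affine
import Mathlib.RingTheory.Localization.Away.Basic
import Mathlib.RingTheory.FiniteType

/-! Points of smooth algebras over a punctured henselian pair from points over the punctured completion. -/

set_option autoImplicit false
universe u

namespace Groth.Agent.Tors37

theorem exists_point_of_completion (A : Type u) [CommRing A] (t : A) [HenselianRing A (Ideal.span {t})]
    (hbd : ∃ N : ℕ, ∀ a : A, (∃ m : ℕ, t ^ m * a = 0) → t ^ N * a = 0)
    (C : Type u) [CommRing C] [Algebra (Localization.Away t) C] [Algebra.Smooth (Localization.Away t) C]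
    (σ : C →+* Localization.Away (algebraMap A (AdicCompletion (Ideal.span {t}) A) t))
    (hσ : σ.comp (algebraMap (Localization.Away t) C) =
      Localization.awayMap (algebraMap A (AdicCompletion (Ideal.span {t}) A)) t) :
    Nonempty (C →ₐ[Localization.Away t] Localization.Away t) := by
  classical
  let At := Localization.Away t
  let S := AdicCompletion (Ideal.span {t}) A
  let tS : S := algebraMap A S t
  let St := Localization.Away tS
  let _ : Algebra A C := ((algebraMap At C).comp (algebraMap A At)).toAlgebra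
  have : IsScalarTower A At C := IsScalarTower.of_algebraMap_eq fun _ => rfl
  have hσA : ∀ x, σ (algebraMap A C x) = algebraMap S St (algebraMap A S x) := fun x =>
    ((RingHom.congr_fun hσ (algebraMap A At x)).trans (by
      simp only [Localization.awayMap, IsLocalization.Away.map]
      exact IsLocalization.map_eq _ x) : _)
  have htu : IsUnit (algebraMap A C t) := (IsLocalization.Away.algebraMap_isUnit (S := At) t).map (algebraMap At C)
  obtain ⟨k, π, hπ⟩ := Algebra.FiniteType.iff_quotient_mvPolynomial''.mp (inferInstance : Algebra.FiniteType At C)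
  choose n₀ a₀ ha₀ using fun i => IsLocalization.Away.surj tS (σ (π (MvPolynomial.X i)))
  let m := Finset.univ.sup n₀
  let c : Fin k → C := fun i => algebraMap A C t ^ m * π (MvPolynomial.X i)
  let a : Fin k → S := fun i => tS ^ (m - n₀ i) * a₀ i
  have hca : ∀ i, σ (c i) = algebraMap S St (a i) := fun i => by
    have e : m = m - n₀ i + n₀ i :=
      (Nat.sub_add_cancel (Finset.le_sup (f := n₀) (Finset.mem_univ i))).symm
    rw [map_mul, map_pow, hσA, map_mul, map_pow, ← ha₀ i]
    conv_lhs => rw [e, pow_add]
    ring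
  let B : Subalgebra A (C × S) := Algebra.adjoin A (Set.range fun i => (c i, a i))
  let f₁ : B →ₐ[A] C := (AlgHom.fst A C S).comp B.val
  let f₂ : B →ₐ[A] S := (AlgHom.snd A C S).comp B.val
  have hgraph : ∀ b : B, σ (f₁ b) = algebraMap S St (f₂ b) := by
    let σ' : C →ₐ[A] St := { σ with commutes' := fun x => (hσA x).trans (IsScalarTower.algebraMap_apply A S St x).symm }
    let g₁ : C × S →ₐ[A] St := σ'.comp (AlgHom.fst A C S)
    let g₂ : C × S →ₐ[A] St := (IsScalarTower.toAlgHom A S St).comp (AlgHom.snd A C S)
    have : B ≤ AlgHom.equalizer g₁ g₂ := Algebra.adjoin_le (by rintro _ ⟨i, rfl⟩; exact hca i)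
    exact fun b => this b.2
  have hsurjC : ∀ z : C, ∃ (l : ℕ) (b : B), f₁ b = algebraMap A C t ^ l * z := by
    intro z
    obtain ⟨q, rfl⟩ := hπ z
    induction q using MvPolynomial.induction_on with
    | C r =>
      obtain ⟨l, x, hx⟩ := IsLocalization.Away.surj t r
      refine ⟨l, algebraMap A B x, ?_⟩
      rw [AlgHom.commutes, show π (MvPolynomial.C r) = algebraMap At C r from π.commutes r,
        IsScalarTower.algebraMap_apply A At C x, ← hx, map_mul, map_pow,
        ← IsScalarTower.algebraMap_apply A At C t, mul_comm]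
    | add p q hp hq =>
      obtain ⟨l, b, hb⟩ := hp
      obtain ⟨l', b', hb'⟩ := hq
      refine ⟨l + l', algebraMap A B t ^ l' * b + algebraMap A B t ^ l * b', ?_⟩
      simp only [map_add, map_mul, map_pow, AlgHom.commutes, hb, hb']
      ring
    | mul_X p i hp =>
      obtain ⟨l, b, hb⟩ := hp
      refine ⟨l + m, b * ⟨(c i, a i), Algebra.subset_adjoin ⟨i, rfl⟩⟩, ?_⟩
      rw [map_mul, hb, map_mul]
      show _ * c i = _
      simp only [c]
      ring
  let _ : Algebra B C := f₁.toRingHom.toAlgebra
  have : IsScalarTower A B C := IsScalarTower.of_algebraMap_eq fun x => (f₁.commutes x).symm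
  let M := Algebra.algebraMapSubmonoid B (Submonoid.powers t)
  have hM : ∀ l : ℕ, algebraMap A B t ^ l ∈ M := fun l => ⟨t ^ l, ⟨l, rfl⟩, map_pow _ _ _⟩
  have hlocC : IsLocalization M C := by
    refine ⟨fun y => ?_, fun z => ?_, fun {x y} h => ?_⟩
    · obtain ⟨_, ⟨_, ⟨l, rfl⟩, rfl⟩⟩ := y
      rw [← IsScalarTower.algebraMap_apply A B C, map_pow]
      exact htu.pow l
    · obtain ⟨l, b, hb⟩ := hsurjC z
      exact ⟨⟨b, _, hM l⟩, by rw [map_pow, ← IsScalarTower.algebraMap_apply A B C, mul_comm]; exact hb.symm⟩
    · have h' : f₁ x = f₁ y := h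
      have h2 : algebraMap S St (f₂ x) = algebraMap S St (f₂ y) := by rw [← hgraph, ← hgraph, h']
      obtain ⟨⟨_, l, rfl⟩, hl⟩ := (IsLocalization.eq_iff_exists (Submonoid.powers tS) St).mp h2
      refine ⟨⟨_, hM l⟩, Subtype.ext (Prod.ext ?_ ?_)⟩
      · exact congrArg (algebraMap A C t ^ l * ·) h'
      · exact hl
  have : Algebra.FiniteType A B :=
    (Subalgebra.fg_iff_finiteType B).mp (Subalgebra.fg_def.mpr ⟨_, Set.finite_range _, rfl⟩)
  have : IsLocalization M C := hlocC
  let BL := Localization M
  let e : C ≃ₐ[B] BL := IsLocalization.algEquiv M C BL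
  let e' : C ≃ₐ[At] BL := AlgEquiv.ofRingEquiv (f := e.toRingEquiv) (RingHom.congr_fun (f :=
      e.toRingEquiv.toRingHom.comp (algebraMap At C)) (g := algebraMap At BL)
    (IsLocalization.ringHom_ext (Submonoid.powers t) (RingHom.ext fun x => by
      show e (algebraMap At C (algebraMap A At x)) = algebraMap At BL (algebraMap A At x)
      rw [← IsScalarTower.algebraMap_apply A At C, ← IsScalarTower.algebraMap_apply A At BL,
        IsScalarTower.algebraMap_apply A B C, e.commutes, ← IsScalarTower.algebraMap_apply])))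
  have hsm : Algebra.Smooth At BL := Algebra.Smooth.of_equiv e'
  obtain ⟨τ, -⟩ := CAlg9.Elkik.exists_approx t hbd B hsm 0 f₂
  let τ' : B →+* At := (algebraMap A At).comp τ.toRingHom
  have hu : ∀ y : M, IsUnit (τ' y) := by
    rintro ⟨_, _, ⟨l, rfl⟩, rfl⟩
    show IsUnit (algebraMap A At (τ (algebraMap A B (t ^ l))))
    rw [AlgHom.commutes]
    exact IsLocalization.map_units At (⟨t ^ l, l, rfl⟩ : Submonoid.powers t)
  let ρ : C →+* At := IsLocalization.lift hu
  have hρ : ρ.comp (algebraMap At C) = RingHom.id At := by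
    refine IsLocalization.ringHom_ext (Submonoid.powers t) (RingHom.ext fun x => ?_)
    show ρ (algebraMap At C (algebraMap A At x)) = algebraMap A At x
    rw [← IsScalarTower.algebraMap_apply A At C, IsScalarTower.algebraMap_apply A B C, IsLocalization.lift_eq]
    exact congrArg (algebraMap A At) (τ.commutes x)
  exact ⟨{ ρ with commutes' := fun r => RingHom.congr_fun hρ r }⟩

end Groth.Agent.Tors37
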