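import Groth.Agent.Tors37.PowerSeriesSection
import Groth.Agent.Alg80.WeilAlg
import Mathlib.AlgebraicGeometry.Morphisms.Flat
import Mathlib.AlgebraicGeometry.Morphisms.FinitePresentation

/-! Smooth surjective schemes over a finite locally free scheme have sections fppf locally on the base. -/

set_option autoImplicit false
set_option backward.isDefEq.respectTransparency.types false
universe u

open CategoryTheory CategoryTheory.Limits AlgebraicGeometry TensorProduct

namespace Groth.Agent.Tors37

open Alg80.WeilAlg in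
theorem exists_smooth_weil {B B' C : Type u} [CommRing B] [CommRing B'] [CommRing C] [Algebra B B']
    [Algebra B' C] [Module.Finite B B'] [Module.Projective B B'] [Algebra.Smooth B' C]
    [Module.FaithfullyFlat B' C] :
    ∃ (W : Type u) (_ : CommRing W) (_ : Algebra B W), Algebra.Smooth B W ∧
      Function.Surjective (PrimeSpectrum.comap (algebraMap B W)) ∧ Nonempty (C →ₐ[B'] B' ⊗[B] W) := by
  obtain ⟨W, _, _, uX, hfp, huX⟩ := exists_weilAlg (B := B) (B' := B') C
  let uY : B' →ₐ[B'] B' ⊗[B] B := Algebra.ofId B' _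
  have huY : ∀ (A : Type u) [CommRing A] [Algebra B A] (ψ : B' →ₐ[B'] B' ⊗[B] A),
      ∃! φ : B →ₐ[B] A, (mapId φ).comp uY = ψ := fun A _ _ ψ =>
    ⟨Algebra.ofId B A, Subsingleton.elim _ _, fun φ _ => Subsingleton.elim _ _⟩
  let g : B' →ₐ[B'] C := Algebra.ofId B' C
  have hg : g.toRingHom.FormallySmooth :=
    RingHom.formallySmooth_algebraMap.mpr inferInstance
  have hgft : g.toRingHom.FiniteType := RingHom.finiteType_algebraMap.mpr inferInstance
  have hgff : g.toRingHom.FaithfullyFlat := RingHom.faithfullyFlat_algebraMap_iff.mpr inferInstance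
  let v : B →ₐ[B] W := Algebra.ofId B W
  have hv : (mapId v).comp uY = uX.comp g := Subsingleton.elim _ _
  have h1 : (algebraMap B W).FormallySmooth := map_formallySmooth uX huX uY huY g hg v hv
  have h2 : Function.Surjective (PrimeSpectrum.comap (algebraMap B W)) :=
    map_comap_surjective uX huX uY huY g hg hgft hgff v hv
  have : Algebra.FormallySmooth B W := RingHom.formallySmooth_algebraMap.mp h1
  exact ⟨W, inferInstance, inferInstance, ⟨inferInstance, hfp⟩, h2, ⟨uX⟩⟩

theorem exists_fppf_cover_section {S S' E : Scheme.{u}} (π : S' ⟶ S) [IsFinite π] [Flat π]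
    [LocallyOfFinitePresentation π] (q : E ⟶ S') [Smooth q] [Surjective q] :
    ∃ R ∈ Scheme.fppfPrecoverage S, ∀ ⦃U : Scheme.{u}⦄ (g : U ⟶ S), R g →
      ∃ s : pullback g π ⟶ E, s ≫ q = pullback.snd g π := by
  have key : ∀ i : S.affineCover.I₀, ∃ (T : Scheme.{u}) (p : T ⟶ S.affineCover.X i),
      Flat p ∧ LocallyOfFinitePresentation p ∧ Surjective p ∧
      ∀ (Z : Scheme.{u}) (a : Z ⟶ T) (b : Z ⟶ S'), a ≫ p ≫ S.affineCover.f i = b ≫ π →
        ∃ t : Z ⟶ E, t ≫ q = b := by
    intro i
    let j := S.affineCover.f i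
    let P := pullback π j
    have : IsAffine P := isAffine_of_isAffineHom (pullback.snd π j)
    let p₀ : Spec Γ(P, ⊤) ⟶ S.affineCover.X i := P.isoSpec.inv ≫ pullback.snd π j
    obtain ⟨β, hβ⟩ := Spec.map_surjective (p₀ ≫ (S.affineCover.X i).isoSpec.hom)
    let c : Spec Γ(P, ⊤) ⟶ S' := P.isoSpec.inv ≫ pullback.fst π j
    obtain ⟨C, φ, het, hff, s, hs⟩ := exists_etale_faithfullyFlat_section (pullback.snd q c)
    let B : Type u := Γ(S.affineCover.X i, ⊤)
    let B' : Type u := Γ(P, ⊤)
    letI : Algebra B B' := β.hom.toAlgebra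
    letI : Algebra B' C := φ.hom.toAlgebra
    have : Algebra.Etale B' C := het
    have : Module.FaithfullyFlat B' C := RingHom.faithfullyFlat_algebraMap_iff.mp hff
    have : Module.Finite B B' := by
      have h : β.hom.Finite := (IsFinite.SpecMap_iff (f := β)).mp (by rw [hβ]; infer_instance)
      exact h
    have : Algebra.FinitePresentation B B' := by
      have h : β.hom.FinitePresentation :=
        (HasRingHomProperty.Spec_iff (P := @LocallyOfFinitePresentation)).mp (by rw [hβ]; infer_instance)
      exact h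
    have : Module.Flat B B' := by
      have h : β.hom.Flat := (Flat.SpecMap_iff (f := β)).mp (by rw [hβ]; infer_instance)
      exact h
    have : Module.FinitePresentation B B' := Module.FinitePresentation.of_finite_of_finitePresentation B B'
    have : Module.Projective B B' := Module.Flat.projective_of_finitePresentation
    obtain ⟨W, _, _, hWs, hWsurj, ⟨u⟩⟩ := exists_smooth_weil (B := B) (B' := B') (C := C)
    let p : Spec (CommRingCat.of W) ⟶ S.affineCover.X i :=
      Spec.map (CommRingCat.ofHom (algebraMap B W)) ≫ (S.affineCover.X i).isoSpec.inv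
    have : Smooth (Spec.map (CommRingCat.ofHom (algebraMap B W))) :=
      (HasRingHomProperty.Spec_iff (P := @Smooth)).mpr (RingHom.smooth_algebraMap.mpr hWs)
    have : Surjective (Spec.map (CommRingCat.ofHom (algebraMap B W))) := ⟨hWsurj⟩
    refine ⟨_, p, inferInstance, inferInstance, inferInstance, fun Z a b hab => ?_⟩
    let b' : Z ⟶ Spec Γ(P, ⊤) := pullback.lift b (a ≫ p) (by rw [Category.assoc]; exact hab.symm) ≫ P.isoSpec.hom
    have hb : b' ≫ c = b := by
      simp only [b', c, Category.assoc, Iso.hom_inv_id_assoc]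
      exact pullback.lift_fst _ _ _
    have hb' : a ≫ Spec.map (CommRingCat.ofHom (algebraMap B W)) = b' ≫ Spec.map β := by
      rw [hβ]
      simp only [b', p₀, Category.assoc, Iso.hom_inv_id_assoc]
      erw [pullback.lift_snd_assoc]
      simp [p]
    let w : Z ⟶ Spec (CommRingCat.of (B' ⊗[B] W)) :=
      pullback.lift b' a hb'.symm ≫ (pullbackSpecIso B B' W).hom
    have hw : w ≫ Spec.map (CommRingCat.ofHom (algebraMap B' (B' ⊗[B] W))) = b' := by
      rw [Category.assoc]
      erw [pullbackSpecIso_hom_fst, pullback.lift_fst]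
    refine ⟨w ≫ Spec.map (CommRingCat.ofHom u.toRingHom) ≫ s ≫ pullback.fst q c, ?_⟩
    have e : Spec.map (CommRingCat.ofHom u.toRingHom) ≫ Spec.map φ =
        Spec.map (CommRingCat.ofHom (algebraMap B' (B' ⊗[B] W))) := by
      rw [← Spec.map_comp]
      exact congrArg Spec.map (CommRingCat.hom_ext (RingHom.ext fun r => u.commutes r))
    simp only [Category.assoc, pullback.condition]
    rw [← Category.assoc s, hs, reassoc_of% e, reassoc_of% hw, hb]
  choose T p hp1 hp2 hp3 hsec using key
  refine ⟨Presieve.ofArrows T fun i => p i ≫ S.affineCover.f i, ?_, ?_⟩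
  · refine (Scheme.ofArrows_mem_precoverage_iff _).mpr ⟨fun x => ?_, fun i => ⟨inferInstance, inferInstance⟩⟩
    obtain ⟨i, y, rfl⟩ := S.affineCover.exists_eq x
    obtain ⟨z, rfl⟩ := (hp3 i).surj y
    exact ⟨i, z, rfl⟩
  · rintro U g ⟨i⟩
    exact hsec i _ (pullback.fst _ _) (pullback.snd _ _) pullback.condition

end Groth.Agent.Tors37
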