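import Groth.Agent.Unr55.EtStalk
import Groth.Agent.Unr55.DescProps
import Groth.Agent.Grp57.Connected
import Groth.Agent.Sga84.TorsorExact
import Groth.Agent.Sga84.TorsorDesc
import Groth.Prelude.Def_ActBC
import Groth.Prelude.Def_Red
import Groth.Prelude.Def_Pi1
import Groth.Agent.FlatMor66.OnePoint
import Mathlib.AlgebraicGeometry.Birational.RationalMap
import Mathlib.AlgebraicGeometry.Morphisms.LocalFlatDescent
import Mathlib.AlgebraicGeometry.Morphisms.QuasiFinite

/-!
Torsors under étale group schemes over a field on a normal integral base: a point over the generic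
point extends uniquely to a section.
-/

set_option autoImplicit false
universe u

open CategoryTheory CategoryTheory.Limits MonoidalCategory CartesianMonoidalCategory AlgebraicGeometry

namespace Groth.Agent.Tors37

/-- Specialisations lift along any base change of an étale scheme over a field. -/
theorem specializingMap_snd {k : Type u} [Field k] {G : Scheme.{u}} (g : G ⟶ Spec (CommRingCat.of k))
    [Etale g] {Q : Scheme.{u}} (t : Q ⟶ Spec (CommRingCat.of k)) :
    SpecializingMap (pullback.snd g t) := by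
  intro y q hq
  obtain ⟨V, hV, hyV, -⟩ := exists_isAffineOpen_mem_and_subset (U := ⊤) (Set.mem_univ (pullback.fst g t y))
  have : IsAffine (V : Scheme.{u}) := hV
  have : LocallyQuasiFinite (V.ι ≫ g) := FlatMor66.lqf_of_etale _
  have : IsFinite (V.ι ≫ g) := IsFinite.of_locallyQuasiFinite _
  let m : pullback (V.ι ≫ g) t ⟶ pullback g t :=
    pullback.map _ _ _ _ V.ι (𝟙 _) (𝟙 _) (by simp) (by simp)
  have hy : y ∈ Set.range m := by
    rw [Scheme.Pullback.range_map]
    exact ⟨by simpa using hyV, ⟨pullback.snd g t y, by simp⟩⟩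
  obtain ⟨z, rfl⟩ := hy
  have hm : m ≫ pullback.snd g t = pullback.snd (V.ι ≫ g) t :=
    (pullback.lift_snd _ _ _).trans (Category.comp_id _)
  have : IsFinite (pullback.snd (V.ι ≫ g) t) := MorphismProperty.pullback_snd (P := @IsFinite) _ _ ‹_›
  rw [show pullback.snd g t (m z) = pullback.snd (V.ι ≫ g) t z by
    rw [← hm]; exact (Scheme.Hom.comp_apply _ _ _).symm] at hq
  obtain ⟨z', hz', hzq⟩ := (pullback.snd (V.ι ≫ g) t).isClosedMap.specializingMap hq
  exact ⟨m z', hz'.map m.continuous, by rw [← hzq, ← hm, Scheme.Hom.comp_apply]⟩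

section

variable {k : Type u} [Field k] {G : Over (Spec (CommRingCat.of k))} [GrpObj G] [Etale G.hom]
  {S : Scheme.{u}} {s : S ⟶ Spec (CommRingCat.of k)} {E : Over S} {a : AlgGrp.Action (Red.bc s G) E}

omit [GrpObj G] in
theorem etale_bc_hom : Etale (Red.bc s G).hom :=
  MorphismProperty.pullback_snd (P := @Etale) _ _ ‹_›

theorem etale_hom (h : NonAbH1.IsTorsorFor Scheme.fppfPrecoverage a) : Etale E.hom ∧ IsSeparated E.hom := by
  have h' : NonAbH1.IsTorsorFor Scheme.fpqcPrecoverage a := by
    obtain ⟨hps, R, hR, hsec⟩ := h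
    exact ⟨hps, R, Scheme.fppfPrecoverage_le_fpqcPrecoverage _ hR, hsec⟩
  have := Unr55.isSeparated.{u}
  refine ⟨Sga84.hom_of_isTorsorFor @Etale (etale_bc_hom (G := G) (s := s)) h',
    Sga84.hom_of_isTorsorFor @IsSeparated ?_ h'⟩
  have : IsSeparated G.hom := Grp57.isSeparated_of_field G
  exact MorphismProperty.pullback_snd (P := @IsSeparated) _ _ this

/-- Every specialisation of the image of a point of a torsor lifts to a specialisation of the point. -/
theorem exists_specializes (h : NonAbH1.IsTorsorFor Scheme.fppfPrecoverage a) (x : E.left) (p : S)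
    (hp : E.hom x ⤳ p) : ∃ e : E.left, x ⤳ e ∧ E.hom e = p := by
  obtain ⟨hps, R, hR, hsec⟩ := h
  obtain ⟨I, Q, q, rfl⟩ := R.exists_eq_ofArrows
  rw [Scheme.fppfPrecoverage, Scheme.ofArrows_mem_precoverage_iff] at hR
  obtain ⟨i, qp, rfl⟩ := hR.1 p
  obtain ⟨σ, hσ⟩ := hsec (q i) ⟨i⟩
  have : Flat (q i) := (hR.2 i).1
  obtain ⟨qx, hqx, hqx'⟩ := Flat.generalizingMap (q i) hp
  obtain ⟨y, hy₁, hy₂⟩ := Scheme.Pullback.exists_preimage_pullback (f := E.hom) (g := q i) x qx hqx'.symm
  -- the comparison map `(γ, t) ↦ (γ • σ(t), t)`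
  let T : Over S := Over.mk (pullback.snd E.hom (q i) ≫ q i)
  let e₁ : T ⟶ E := Over.homMk (pullback.fst E.hom (q i)) pullback.condition
  let e₂ : T ⟶ E := Over.homMk (pullback.snd E.hom (q i) ≫ σ) (by simp [T, hσ])
  obtain ⟨γ, hγ, -⟩ := Sga84.existsUnique_actPt a hps e₂ e₁
  let P := pullback (Red.bc s G).hom (q i)
  let TP : Over S := Over.mk (pullback.snd (Red.bc s G).hom (q i) ≫ q i)
  let g₁ : TP ⟶ Red.bc s G := Over.homMk (pullback.fst _ _) pullback.condition
  let g₂ : TP ⟶ E := Over.homMk (pullback.snd (Red.bc s G).hom (q i) ≫ σ) (by simp [TP, hσ])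
  let ψ : P ⟶ E.left := (Sga84.actPt a g₁ g₂).left
  have hψ : ψ ≫ E.hom = pullback.snd (Red.bc s G).hom (q i) ≫ q i := Over.w (Sga84.actPt a g₁ g₂)
  let δ : pullback E.hom (q i) ⟶ P :=
    pullback.lift γ.left (pullback.snd E.hom (q i)) (by simpa [T] using Over.w γ)
  let δ' : T ⟶ TP := Over.homMk δ (pullback.lift_snd_assoc _ _ _ _)
  have hδ : δ' ≫ Sga84.actPt a g₁ g₂ = e₁ := by
    rw [Sga84.comp_actPt]
    convert hγ using 2
    · exact Over.OverMorphism.ext (pullback.lift_fst _ _ _)
    · exact Over.OverMorphism.ext (pullback.lift_snd_assoc _ _ _ _)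
  have hδψ : δ ≫ ψ = pullback.fst E.hom (q i) := congrArg CommaMorphism.left hδ
  have hsp : SpecializingMap (pullback.snd (Red.bc s G).hom (q i)) := by
    have e : pullback.snd (Red.bc s G).hom (q i) =
        (pullbackLeftPullbackSndIso G.hom s (q i)).hom ≫ pullback.snd G.hom (q i ≫ s) :=
      (pullbackLeftPullbackSndIso_hom_snd G.hom s (q i)).symm
    intro z w hzw
    rw [e] at hzw ⊢
    rw [Scheme.Hom.comp_apply] at hzw
    obtain ⟨z', hz', rfl⟩ := specializingMap_snd G.hom (q i ≫ s) hzw
    refine ⟨(pullbackLeftPullbackSndIso G.hom s (q i)).inv z', ?_, ?_⟩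
    · have := hz'.map (pullbackLeftPullbackSndIso G.hom s (q i)).inv.continuous
      simpa [flip, ← Scheme.Hom.comp_apply] using this
    · rw [← Scheme.Hom.comp_apply, Iso.inv_hom_id_assoc]
  obtain ⟨z, hz, hzq⟩ := hsp (show pullback.snd (Red.bc s G).hom (q i) (δ y) ⤳ qp by
    rw [← Scheme.Hom.comp_apply, pullback.lift_snd, hy₂]; exact hqx)
  refine ⟨ψ z, ?_, ?_⟩
  · have := hz.map ψ.continuous
    rwa [← Scheme.Hom.comp_apply, hδψ, hy₁] at this
  · rw [← Scheme.Hom.comp_apply, hψ, Scheme.Hom.comp_apply, hzq]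

variable [IsIntegral S]

/-- A point over the generic point extends over every local ring of a normal base. -/
theorem exists_stalk_lift (hS : Pi1.IsNormalScheme S) (h : NonAbH1.IsTorsorFor Scheme.fppfPrecoverage a)
    (x : Spec S.functionField ⟶ E.left) (hx : x ≫ E.hom = S.fromSpecStalk (genericPoint S)) (p : S) :
    ∃ l : Spec (S.presheaf.stalk p) ⟶ E.left, l ≫ E.hom = S.fromSpecStalk p ∧
      Spec.map (S.presheaf.stalkSpecializes (genericPoint_specializes p)) ≫ l = x := by
  obtain ⟨hetale, -⟩ := etale_hom h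
  let x₀ : E.left := x (IsLocalRing.closedPoint S.functionField)
  have hx₀ : E.hom x₀ = genericPoint S := by
    rw [← Scheme.Hom.comp_apply, hx, Scheme.fromSpecStalk_closedPoint]
  obtain ⟨e, hxe, rfl⟩ := exists_specializes h x₀ p (by rw [hx₀]; exact genericPoint_specializes p)
  have hB : IsDomain (E.left.presheaf.stalk e) ∧ IsIntegrallyClosed (E.left.presheaf.stalk e) :=
    (Unr55.isNormalDomain_stalk_iff_of_etale E.hom e).mpr (hS _)
  have hA : IsDomain (S.presheaf.stalk (E.hom e)) := (hS _).1
  have := hB.1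
  let η := genericPoint S
  let sp := S.presheaf.stalkSpecializes (genericPoint_specializes (E.hom e))
  let θ : E.left.presheaf.stalk e ⟶ S.functionField :=
    E.left.presheaf.stalkSpecializes hxe ≫ Scheme.stalkClosedPointTo x
  have hθx : Spec.map θ ≫ E.left.fromSpecStalk e = x := by
    rw [Spec.map_comp, Category.assoc, Scheme.SpecMap_stalkSpecializes_fromSpecStalk]
    exact Scheme.Spec_stalkClosedPointTo_fromSpecStalk x
  have hcomm : E.hom.stalkMap e ≫ θ = sp := by
    apply Spec.map_injective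
    rw [← cancel_mono (S.fromSpecStalk (E.hom e)), Spec.map_comp, Category.assoc,
      Scheme.SpecMap_stalkMap_fromSpecStalk, ← Category.assoc, hθx, hx,
      Scheme.SpecMap_stalkSpecializes_fromSpecStalk]
  -- `θ` is injective
  have hθ : Function.Injective θ := by
    have hfield : IsField (E.left.presheaf.stalk x₀) := by
      let := (E.hom.stalkMap x₀).hom.toAlgebra
      have hmax := (Unr55.stalkMap_facts E.hom x₀).2.2
      rw [IsLocalRing.isField_iff_maximalIdeal_eq, ← hmax]
      have hK : IsField (S.presheaf.stalk (E.hom x₀)) := by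
        rw [hx₀]; exact Field.toIsField S.functionField
      rw [IsLocalRing.isField_iff_maximalIdeal_eq.mp hK, Ideal.map_bot]
    have h1 : Function.Injective (Scheme.stalkClosedPointTo x) := by
      let := hfield.toField
      exact (Scheme.stalkClosedPointTo x).hom.injective
    have h2 : Function.Injective (E.left.presheaf.stalkSpecializes hxe) := by
      obtain ⟨V, hV, heV, -⟩ := exists_isAffineOpen_mem_and_subset (U := ⊤) (Set.mem_univ e)
      have hxV : x₀ ∈ V := hxe.mem_open V.isOpen heV
      let := TopCat.Presheaf.algebra_section_stalk E.left.presheaf (U := V) ⟨e, heV⟩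
      let := TopCat.Presheaf.algebra_section_stalk E.left.presheaf (U := V) ⟨x₀, hxV⟩
      have hle := hV.isLocalization_stalk ⟨e, heV⟩
      have hlx := hV.isLocalization_stalk ⟨x₀, hxV⟩
      refine (injective_iff_map_eq_zero _).mpr fun b hb => ?_
      obtain ⟨c, d, rfl⟩ := IsLocalization.exists_mk'_eq (hV.primeIdealOf ⟨e, heV⟩).asIdeal.primeCompl b
      rw [IsLocalization.mk'_eq_zero_iff]
      have hd : IsUnit (E.left.presheaf.germ V e heV (d : Γ(E.left, V))) :=
        IsLocalization.map_units (M := (hV.primeIdealOf ⟨e, heV⟩).asIdeal.primeCompl) _ d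
      have hc : E.left.presheaf.germ V x₀ hxV c = 0 := by
        have e1 := congrArg (E.left.presheaf.stalkSpecializes hxe)
          (IsLocalization.mk'_spec (E.left.presheaf.stalk e) c d)
        rw [map_mul, hb, zero_mul] at e1
        have e2 : ∀ f, E.left.presheaf.stalkSpecializes hxe (E.left.presheaf.germ V e heV f) =
            E.left.presheaf.germ V x₀ hxV f := fun f =>
          ConcreteCategory.congr_hom (TopCat.Presheaf.germ_stalkSpecializes E.left.presheaf heV hxe) f
        exact (e2 c).symm.trans e1.symm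
      obtain ⟨t, ht⟩ := (IsLocalization.map_eq_zero_iff (hV.primeIdealOf ⟨x₀, hxV⟩).asIdeal.primeCompl
        (E.left.presheaf.stalk x₀) c).mp hc
      have ht' : algebraMap Γ(E.left, V) (E.left.presheaf.stalk e) (t : Γ(E.left, V)) *
          algebraMap Γ(E.left, V) (E.left.presheaf.stalk e) c = 0 := by
        rw [← map_mul, ht, map_zero]
      rcases mul_eq_zero.mp ht' with h0 | h0
      · exfalso
        have hu : IsUnit (E.left.presheaf.germ V x₀ hxV (t : Γ(E.left, V))) :=
          IsLocalization.map_units (M := (hV.primeIdealOf ⟨x₀, hxV⟩).asIdeal.primeCompl) _ t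
        rw [show E.left.presheaf.germ V x₀ hxV (t : Γ(E.left, V)) = 0 from
          (ConcreteCategory.congr_hom (TopCat.Presheaf.germ_stalkSpecializes E.left.presheaf heV hxe) _).symm.trans
            ((congrArg _ h0).trans (map_zero (E.left.presheaf.stalkSpecializes hxe).hom))] at hu
        exact not_isUnit_zero hu
      · exact (IsLocalization.map_eq_zero_iff _ (E.left.presheaf.stalk e) c).mp h0
    exact h1.comp h2
  have hbij : Function.Bijective (E.hom.stalkMap e) := by
    let := (E.hom.stalkMap e).hom.toAlgebra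
    obtain ⟨_, _, -⟩ := Unr55.stalkMap_facts E.hom e
    have := Module.FaithfullyFlat.of_flat_of_isLocalHom (A := S.presheaf.stalk (E.hom e))
      (B := E.left.presheaf.stalk e)
    refine ⟨FaithfulSMul.algebraMap_injective _ _, fun b => ?_⟩
    obtain ⟨α, c, hc, hac⟩ := IsFractionRing.div_surjective (S.presheaf.stalk (E.hom e)) (θ b)
    have hc0 : c ≠ 0 := nonZeroDivisors.ne_zero hc
    have e1 : algebraMap _ (E.left.presheaf.stalk e) c * b = algebraMap _ _ α := by
      apply hθ
      rw [map_mul]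
      have e2 : ∀ r, θ (algebraMap (S.presheaf.stalk (E.hom e)) (E.left.presheaf.stalk e) r) =
          algebraMap _ S.functionField r := fun r => ConcreteCategory.congr_hom hcomm r
      rw [e2, e2, ← hac, mul_comm, div_mul_cancel₀]
      exact IsFractionRing.to_map_ne_zero_of_mem_nonZeroDivisors hc
    have hmem : α ∈ Ideal.comap (algebraMap _ (E.left.presheaf.stalk e))
        ((Ideal.span {c}).map (algebraMap _ (E.left.presheaf.stalk e))) := by
      rw [Ideal.mem_comap, ← e1, Ideal.map_span, Set.image_singleton]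
      exact Ideal.mul_mem_right _ _ (Ideal.mem_span_singleton_self _)
    rw [Ideal.comap_map_eq_self_of_faithfullyFlat, Ideal.mem_span_singleton] at hmem
    obtain ⟨b', rfl⟩ := hmem
    refine ⟨b', mul_left_cancel₀ (fun h0 => hc0 (FaithfulSMul.algebraMap_injective _ (E.left.presheaf.stalk e)
      (h0.trans (map_zero _).symm))) (?_ : algebraMap _ (E.left.presheaf.stalk e) c * _ = _)⟩
    rw [e1, map_mul]
    rfl
  have : IsIso (E.hom.stalkMap e) := (ConcreteCategory.isIso_iff_bijective _).mpr hbij
  refine ⟨Spec.map (inv (E.hom.stalkMap e)) ≫ E.left.fromSpecStalk e, ?_, ?_⟩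
  · rw [Category.assoc, ← Scheme.SpecMap_stalkMap_fromSpecStalk, ← Category.assoc, ← Spec.map_comp,
      IsIso.hom_inv_id, Spec.map_id, Category.id_comp]
  · conv_rhs => rw [← hθx]
    rw [← Category.assoc, ← Spec.map_comp]
    congr 2
    rw [IsIso.inv_comp_eq]
    exact hcomm.symm

/-- Two morphisms from an open subscheme agree if they do at the generic point. -/
theorem hom_ext_generic {Y : Scheme.{u}} (f : Y ⟶ S) [IsSeparated f] (W : S.Opens)
    (hW : genericPoint S ∈ W) {b c : (W : Scheme.{u}) ⟶ Y} (hb : b ≫ f = W.ι) (hc : c ≫ f = W.ι)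
    (he : W.fromSpecStalkOfMem _ hW ≫ b = W.fromSpecStalkOfMem _ hW ≫ c) : b = c := by
  have : IsDominant (W.fromSpecStalkOfMem _ hW) := by
    constructor
    intro z
    have hr : (⟨genericPoint S, hW⟩ : W) ∈ Set.range (W.fromSpecStalkOfMem _ hW) :=
      ⟨IsLocalRing.closedPoint _, Subtype.ext (by
        show W.ι _ = _
        rw [← Scheme.Hom.comp_apply, Scheme.Opens.fromSpecStalkOfMem_ι, Scheme.fromSpecStalk_closedPoint])⟩
    refine closure_mono (Set.singleton_subset_iff.mpr hr) ?_
    rw [← specializes_iff_mem_closure, subtype_specializes_iff]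
    exact genericPoint_specializes _
  exact ext_of_isDominant_of_isSeparated f (hb.trans hc.symm) _ he

/-- Sections of a torsor under an étale group over a normal base correspond to points over the
generic point. -/
theorem existsUnique_section (hS : Pi1.IsNormalScheme S) (h : NonAbH1.IsTorsorFor Scheme.fppfPrecoverage a)
    (x : Spec S.functionField ⟶ E.left) (hx : x ≫ E.hom = S.fromSpecStalk (genericPoint S)) :
    ∃! σ : S ⟶ E.left, σ ≫ E.hom = 𝟙 S ∧ S.fromSpecStalk (genericPoint S) ≫ σ = x := by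
  obtain ⟨hetale, hsep⟩ := etale_hom h
  choose l hl hlx using exists_stalk_lift hS h x hx
  let pm := fun p : S => Scheme.PartialMap.ofFromSpecStalk (𝟙 S) E.hom (l p) (by rw [hl, Category.comp_id])
  have hmem : ∀ p, p ∈ (pm p).domain := fun p => Scheme.PartialMap.mem_domain_ofFromSpecStalk _ _ _ _
  have hη : ∀ p, genericPoint S ∈ (pm p).domain := fun p =>
    (genericPoint_specializes p).mem_open (pm p).domain.isOpen (hmem p)
  have hover : ∀ p, (pm p).hom ≫ E.hom = (pm p).domain.ι := fun p => by
    rw [Scheme.PartialMap.ofFromSpecStalk_comp, Category.comp_id]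
  have hgen : ∀ p, (pm p).domain.fromSpecStalkOfMem _ (hη p) ≫ (pm p).hom = x := fun p => by
    have e1 : (pm p).domain.fromSpecStalkOfMem _ (hη p) =
        Spec.map (S.presheaf.stalkSpecializes (genericPoint_specializes p)) ≫
          (pm p).domain.fromSpecStalkOfMem _ (hmem p) := by
      rw [← cancel_mono (pm p).domain.ι, Category.assoc, Scheme.Opens.fromSpecStalkOfMem_ι,
        Scheme.Opens.fromSpecStalkOfMem_ι, Scheme.SpecMap_stalkSpecializes_fromSpecStalk]
    rw [e1, Category.assoc]
    exact (congrArg _ (Scheme.PartialMap.fromSpecStalkOfMem_ofFromSpecStalk _ _ _ _)).trans (hlx p)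
  let 𝒰 := S.openCoverOfIsOpenCover (fun p => (pm p).domain)
    (TopologicalSpace.IsOpenCover.mk (eq_top_iff.mpr fun p _ => TopologicalSpace.Opens.mem_iSup.mpr ⟨p, hmem p⟩))
  have hagree : ∀ p q, pullback.fst (𝒰.f p) (𝒰.f q) ≫ (pm p).hom = pullback.snd (𝒰.f p) (𝒰.f q) ≫ (pm q).hom := by
    intro p q
    let W := (pm p).domain ⊓ (pm q).domain
    have key : S.homOfLE (inf_le_left : W ≤ _) ≫ (pm p).hom = S.homOfLE (inf_le_right : W ≤ _) ≫ (pm q).hom := by
      refine hom_ext_generic E.hom W ⟨hη p, hη q⟩ (by rw [Category.assoc, hover, Scheme.homOfLE_ι])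
        (by rw [Category.assoc, hover, Scheme.homOfLE_ι]) ?_
      have e : ∀ (V : S.Opens) (hle : W ≤ V) (hV : genericPoint S ∈ V),
          W.fromSpecStalkOfMem _ ⟨hη p, hη q⟩ ≫ S.homOfLE hle = V.fromSpecStalkOfMem _ hV := fun V hle hV => by
        rw [← cancel_mono V.ι, Category.assoc, Scheme.homOfLE_ι, Scheme.Opens.fromSpecStalkOfMem_ι,
          Scheme.Opens.fromSpecStalkOfMem_ι]
      rw [← Category.assoc, ← Category.assoc, e _ _ (hη p), e _ _ (hη q), hgen, hgen]
    have hi : IsPullback (S.homOfLE (inf_le_left : W ≤ _)) (S.homOfLE (inf_le_right : W ≤ _))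
        (pm p).domain.ι (pm q).domain.ι :=
      isPullback_opens_inf (pm p).domain (pm q).domain
    refine (cancel_epi hi.isoPullback.hom).mp ?_
    exact (hi.isoPullback_hom_fst_assoc _).trans (key.trans (hi.isoPullback_hom_snd_assoc _).symm)
  let σ := 𝒰.glueMorphisms (fun p => (pm p).hom) hagree
  have hσp : ∀ p, (pm p).domain.ι ≫ σ = (pm p).hom := fun p => 𝒰.ι_glueMorphisms _ _ p
  have hσ : σ ≫ E.hom = 𝟙 S := 𝒰.hom_ext _ _ fun p => by
    rw [Category.comp_id, ← Category.assoc]
    exact (congrArg (· ≫ E.hom) (hσp p)).trans (hover p)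
  have hσx : S.fromSpecStalk (genericPoint S) ≫ σ = x := by
    rw [← Scheme.Opens.fromSpecStalkOfMem_ι _ _ (hη (genericPoint S)), Category.assoc, hσp, hgen]
  refine ⟨σ, ⟨hσ, hσx⟩, fun τ ⟨hτ, hτx⟩ => ?_⟩
  have hTop : genericPoint S ∈ (⊤ : S.Opens) := trivial
  have := hom_ext_generic E.hom ⊤ hTop (b := (⊤ : S.Opens).ι ≫ τ) (c := (⊤ : S.Opens).ι ≫ σ)
    (by rw [Category.assoc, hτ, Category.comp_id]) (by rw [Category.assoc, hσ, Category.comp_id])
    (by rw [← Category.assoc, ← Category.assoc, Scheme.Opens.fromSpecStalkOfMem_ι, hτx, hσx])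
  exact (cancel_epi S.topIso.hom).mp this

end

end Groth.Agent.Tors37
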