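import Groth.Agent.EtAlg23.GlueBasic
import Groth.Agent.EtAlg23.GlueFlat
import Mathlib.Algebra.Category.Ring.Constructions
import Mathlib.AlgebraicGeometry.Pullbacks
import Mathlib.AlgebraicGeometry.QuasiAffine
import Mathlib.AlgebraicGeometry.Morphisms.Flat
import Mathlib.AlgebraicGeometry.Gluing

/-! Morphisms out of flat schemes over a glueing pair glue. -/

set_option autoImplicit false
set_option backward.isDefEq.respectTransparency.types false
universe u

open CategoryTheory CategoryTheory.Limits AlgebraicGeometry TensorProduct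

namespace Groth.Agent.Tors37

variable {A A' : Type u} [CommRing A] [CommRing A'] [Algebra A A'] {t : A}

theorem isGlueingPair_of
    (hq : ∀ m : ℕ, Function.Bijective (Ideal.quotientMap
      (Ideal.map (algebraMap A A') (Ideal.span {t} ^ m)) (algebraMap A A') Ideal.le_comap_map))
    (htor : ∀ a' : A', (∃ m : ℕ, algebraMap A A' t ^ m * a' = 0) →
      ∃! a : A, (∃ m : ℕ, t ^ m * a = 0) ∧ algebraMap A A' a = a') :
    EtGlue.IsGlueingPair A A' t := by
  have hq' : EtGlue.QuotPowBijective A A' t := fun n _ => by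
    have h := hq n
    rw! [Ideal.span_singleton_pow] at h
    exact h
  refine (EtAlg23.isGlueingPair_iff hq').2 ⟨fun x ⟨n, hn⟩ hx => ?_, fun x' hx' => (htor x' hx').exists⟩
  exact (htor 0 ⟨0, by simp⟩).unique ⟨⟨n, hn⟩, hx⟩ ⟨⟨0, by simp⟩, map_zero _⟩

theorem loc_isLocalizedModule (B : Type u) [CommRing B] [Algebra A B] (BL : Type u) [CommRing BL]
    [Algebra B BL] [Algebra A BL] [IsScalarTower A B BL] [IsLocalization.Away (algebraMap A B t) BL] :
    IsLocalizedModule (Submonoid.powers t) (IsScalarTower.toAlgHom A B BL).toLinearMap := by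
  haveI : IsLocalization (Algebra.algebraMapSubmonoid B (Submonoid.powers t)) BL := by
    rw [Algebra.algebraMapSubmonoid_powers]; infer_instance
  infer_instance

theorem glue_ringHom (hg : EtGlue.IsGlueingPair A A' t) (B : Type u) [CommRing B] [Algebra A B]
    [Module.Flat A B] (C : Type u) [CommRing C]
    (v : Localization.Away (algebraMap A B t) →+* Localization.Away (algebraMap A (A' ⊗[A] B) t))
    (hv : ∀ b : B, v (algebraMap B _ b) = algebraMap (A' ⊗[A] B) _ ((1 : A') ⊗ₜ[A] b))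
    (g₁ : C →+* Localization.Away (algebraMap A B t)) (g₂ : C →+* A' ⊗[A] B)
    (hc : (algebraMap (A' ⊗[A] B) (Localization.Away (algebraMap A (A' ⊗[A] B) t))).comp g₂ = v.comp g₁) :
    ∃! g : C →+* B, (algebraMap B _).comp g = g₁ ∧
      (Algebra.TensorProduct.includeRight : B →ₐ[A] A' ⊗[A] B).toRingHom.comp g = g₂ := by
  haveI := loc_isLocalizedModule (t := t) B (Localization.Away (algebraMap A B t))
  haveI := loc_isLocalizedModule (t := t) (A' ⊗[A] B) (Localization.Away (algebraMap A (A' ⊗[A] B) t))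
  let iR : B →ₐ[A] A' ⊗[A] B := Algebra.TensorProduct.includeRight
  let j : B →ₗ[A] _ := (IsScalarTower.toAlgHom A B (Localization.Away (algebraMap A B t))).toLinearMap
  let j' : A' ⊗[A] B →ₗ[A] _ :=
    (IsScalarTower.toAlgHom A (A' ⊗[A] B) (Localization.Away (algebraMap A (A' ⊗[A] B) t))).toLinearMap
  let vl : Localization.Away (algebraMap A B t) →ₗ[A] Localization.Away (algebraMap A (A' ⊗[A] B) t) :=
    { v with
      map_smul' := fun r y => by
        show v (r • y) = r • v y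
        rw [Algebra.smul_def, Algebra.smul_def, map_mul]
        congr 1
        rw [IsScalarTower.algebraMap_apply A B (Localization.Away (algebraMap A B t)) r, hv,
          IsScalarTower.algebraMap_apply A (A' ⊗[A] B) (Localization.Away (algebraMap A (A' ⊗[A] B) t)) r]
        exact congrArg _ (iR.commutes r) }
  have hsq := (EtAlg23.square_iff (f := t) iR.toLinearMap vl j j' hv
    (fun n m y h => EtAlg23.tensor_quot_inj hg.1 n h)).2
      ⟨fun m ⟨n, hn⟩ h => EtAlg23.eq_zero_of_torsion_of_flat hg B m n hn h,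
        fun x hx => EtAlg23.torsion_surjective hg B x hx⟩
  obtain ⟨hinj, hmid⟩ := hsq
  have hex : ∀ c, ∃ b : B, iR b = g₂ c ∧ algebraMap B _ b = g₁ c := fun c =>
    hmid (g₂ c) (g₁ c) (RingHom.congr_fun hc c)
  choose σ hσ₂ hσ₁ using hex
  have hext : ∀ b b' : B, iR b = iR b' →
      algebraMap B (Localization.Away (algebraMap A B t)) b = algebraMap B _ b' → b = b' :=
    fun b b' h h' => hinj (Prod.ext h h')
  let g : C →+* B :=
    { toFun := σ
      map_one' := hext _ _ (by rw [hσ₂, map_one, map_one]) (by rw [hσ₁, map_one, map_one])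
      map_mul' := fun x y => hext _ _ (by rw [hσ₂, map_mul, map_mul, hσ₂, hσ₂])
        (by rw [hσ₁, map_mul, map_mul, hσ₁, hσ₁])
      map_zero' := hext _ _ (by rw [hσ₂, map_zero, map_zero]) (by rw [hσ₁, map_zero, map_zero])
      map_add' := fun x y => hext _ _ (by rw [hσ₂, map_add, map_add, hσ₂, hσ₂])
        (by rw [hσ₁, map_add, map_add, hσ₁, hσ₁]) }
  exact ⟨g, ⟨RingHom.ext hσ₁, RingHom.ext hσ₂⟩, fun g' hg' => RingHom.ext fun c =>
    hext _ _ ((RingHom.congr_fun hg'.2 c).trans (hσ₂ c).symm)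
      ((RingHom.congr_fun hg'.1 c).trans (hσ₁ c).symm)⟩

variable (A A' t) in
/-- `Spec A[1/t] → Spec A`. -/
noncomputable abbrev awayPt : Spec (CommRingCat.of (Localization.Away t)) ⟶ Spec (CommRingCat.of A) :=
  Spec.map (CommRingCat.ofHom (algebraMap A (Localization.Away t)))

variable (A A') in
/-- `Spec A' → Spec A`. -/
noncomputable abbrev formalPt : Spec (CommRingCat.of A') ⟶ Spec (CommRingCat.of A) :=
  Spec.map (CommRingCat.ofHom (algebraMap A A'))

/-- Every point of `Spec A` comes from `Spec A[1/t]` or from `Spec A'`. -/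
theorem exists_preimage (hg : EtGlue.IsGlueingPair A A' t) (p : PrimeSpectrum A) :
    p ∈ Set.range (awayPt A t) ∨ p ∈ Set.range (formalPt A A') := by
  by_cases htp : t ∈ p.asIdeal
  · right
    let κ := Ideal.quotientMap (Ideal.map (algebraMap A A') (Ideal.span {t ^ 1})) (algebraMap A A')
      Ideal.le_comap_map
    have hb := hg.1 1 one_pos
    let e := RingEquiv.ofBijective κ hb
    have hle : Ideal.span {t ^ 1} ≤ p.asIdeal := by
      rw [pow_one, Ideal.span_le, Set.singleton_subset_iff]; exact htp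
    let θ : A' →+* A ⧸ p.asIdeal :=
      ((Ideal.Quotient.factor hle).comp e.symm.toRingHom).comp (Ideal.Quotient.mk _)
    have hθ : θ.comp (algebraMap A A') = Ideal.Quotient.mk p.asIdeal := by
      ext r
      have : e.symm (Ideal.Quotient.mk _ (algebraMap A A' r)) = Ideal.Quotient.mk _ r := by
        rw [RingEquiv.symm_apply_eq]; rfl
      show Ideal.Quotient.factor hle (e.symm (Ideal.Quotient.mk _ (algebraMap A A' r))) = _
      rw [this]; rfl
    refine ⟨PrimeSpectrum.comap θ ⊥, PrimeSpectrum.ext ?_⟩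
    show Ideal.comap (algebraMap A A') (Ideal.comap θ ⊥) = p.asIdeal
    rw [Ideal.comap_comap, hθ]
    exact Ideal.mk_ker
  · left
    exact (PrimeSpectrum.localization_away_comap_range (Localization.Away t) t).ge htp

theorem hom_of_affine (hg : EtGlue.IsGlueingPair A A' t) {B : Type u} [CommRing B] [Algebra A B]
    [Module.Flat A B] (Z : Scheme.{u}) [IsAffine Z]
    (u₁ : pullback (Spec.map (CommRingCat.ofHom (algebraMap A B))) (awayPt A t) ⟶ Z)
    (u₂ : pullback (Spec.map (CommRingCat.ofHom (algebraMap A B))) (formalPt A A') ⟶ Z)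
    (hag : ∀ (W : Scheme.{u}) (p : W ⟶ pullback (Spec.map (CommRingCat.ofHom (algebraMap A B))) (awayPt A t))
      (p' : W ⟶ pullback (Spec.map (CommRingCat.ofHom (algebraMap A B))) (formalPt A A')),
      p ≫ pullback.fst _ _ = p' ≫ pullback.fst _ _ → p ≫ u₁ = p' ≫ u₂) :
    ∃! F : Spec (CommRingCat.of B) ⟶ Z, pullback.fst _ _ ≫ F = u₁ ∧ pullback.fst _ _ ≫ F = u₂ := by
  let B₁ := Localization.Away (algebraMap A B t)
  let B₂ := A' ⊗[A] B
  let iR : B →ₐ[A] B₂ := Algebra.TensorProduct.includeRight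
  -- B₁ as a pushout
  let μ : Localization.Away t →+* B₁ := Localization.awayMap (algebraMap A B) t
  have : IsLocalization ((Submonoid.powers t).map (algebraMap A B)) B₁ := by
    rw [Submonoid.map_powers]; infer_instance
  have hμ : μ.comp (algebraMap A (Localization.Away t)) = (algebraMap B B₁).comp (algebraMap A B) :=
    IsLocalization.map_comp _
  have h₁ : IsPullback (Spec.map (CommRingCat.ofHom (algebraMap B B₁)))
      (Spec.map (CommRingCat.ofHom μ))
      (Spec.map (CommRingCat.ofHom (algebraMap A B))) (awayPt A t) :=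
    isPullback_SpecMap_of_isPushout _ _ _ _
      (CommRingCat.isPushout_of_isLocalization (algebraMap A B) μ hμ (Submonoid.powers t))
  have h₂ : IsPullback (Spec.map (CommRingCat.ofHom iR.toRingHom))
      (Spec.map (CommRingCat.ofHom (algebraMap A' B₂)))
      (Spec.map (CommRingCat.ofHom (algebraMap A B))) (formalPt A A') :=
    isPullback_SpecMap_of_isPushout _ _ _ _ (CommRingCat.isPushout_tensorProduct A A' B).flip
  let e₁ := h₁.isoPullback
  let e₂ := h₂.isoPullback
  obtain ⟨g₁, hg₁⟩ := Spec.map_surjective (e₁.hom ≫ u₁ ≫ Z.isoSpec.hom)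
  obtain ⟨g₂, hg₂⟩ := Spec.map_surjective (e₂.hom ≫ u₂ ≫ Z.isoSpec.hom)
  let B₁₂ := Localization.Away (algebraMap A B₂ t)
  have hu : IsUnit (((algebraMap B₂ B₁₂).comp iR.toRingHom) (algebraMap A B t)) := by
    show IsUnit (algebraMap B₂ B₁₂ (iR (algebraMap A B t)))
    rw [iR.commutes]
    exact IsLocalization.Away.algebraMap_isUnit (S := B₁₂) _
  let v : B₁ →+* B₁₂ := IsLocalization.Away.lift (algebraMap A B t) hu
  have hv : ∀ b : B, v (algebraMap B B₁ b) = algebraMap B₂ B₁₂ (iR b) :=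
    fun b => IsLocalization.Away.lift_eq (algebraMap A B t) hu b
  have hvc : v.comp (algebraMap B B₁) = (algebraMap B₂ B₁₂).comp iR.toRingHom := RingHom.ext hv
  have hc : (algebraMap B₂ B₁₂).comp g₂.hom = v.comp g₁.hom := by
    have := hag _ (Spec.map (CommRingCat.ofHom v) ≫ e₁.hom)
      (Spec.map (CommRingCat.ofHom (algebraMap B₂ B₁₂)) ≫ e₂.hom) (by
      simp only [e₁, e₂, Category.assoc, IsPullback.isoPullback_hom_fst, ← Spec.map_comp,
        ← CommRingCat.ofHom_comp, hvc])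
    have := congrArg (· ≫ Z.isoSpec.hom) this
    simp only [Category.assoc, ← hg₁, ← hg₂, ← Spec.map_comp] at this
    exact congrArg CommRingCat.Hom.hom (Spec.map_injective this).symm
  obtain ⟨g, ⟨hgl, hgr⟩, hgu⟩ := glue_ringHom hg B Γ(Z, ⊤) v hv g₁.hom g₂.hom hc
  refine ⟨Spec.map (CommRingCat.ofHom g) ≫ Z.isoSpec.inv, ⟨?_, ?_⟩, fun F hF => ?_⟩
  · rw [← cancel_mono Z.isoSpec.hom, ← cancel_epi e₁.hom, ← hg₁]
    simp only [Category.assoc, Iso.inv_hom_id, Category.comp_id, e₁, IsPullback.isoPullback_hom_fst_assoc,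
      ← Spec.map_comp, ← CommRingCat.ofHom_comp]
    exact congrArg Spec.map (congrArg CommRingCat.ofHom hgl)
  · rw [← cancel_mono Z.isoSpec.hom, ← cancel_epi e₂.hom, ← hg₂]
    simp only [Category.assoc, Iso.inv_hom_id, Category.comp_id, e₂, IsPullback.isoPullback_hom_fst_assoc,
      ← Spec.map_comp, ← CommRingCat.ofHom_comp]
    exact congrArg Spec.map (congrArg CommRingCat.ofHom hgr)
  · obtain ⟨f, hf⟩ := Spec.map_surjective (F ≫ Z.isoSpec.hom)
    have : f.hom = g := by
      refine hgu f.hom ⟨?_, ?_⟩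
      · refine congrArg CommRingCat.Hom.hom (Spec.map_injective ?_ :
          f ≫ CommRingCat.ofHom (algebraMap B B₁) = g₁)
        rw [Spec.map_comp, hf, hg₁, ← hF.1]
        simp only [e₁, Category.assoc, IsPullback.isoPullback_hom_fst_assoc]
      · refine congrArg CommRingCat.Hom.hom (Spec.map_injective ?_ :
          f ≫ CommRingCat.ofHom iR.toRingHom = g₂)
        rw [Spec.map_comp, hf, hg₂, ← hF.2]
        simp only [e₂, Category.assoc, IsPullback.isoPullback_hom_fst_assoc]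
    rw [← Category.comp_id F, ← Z.isoSpec.hom_inv_id, ← Category.assoc, ← hf, ← this]
    rfl

end Groth.Agent.Tors37

namespace Groth.Agent.Tors37

section Global

variable {A A' : Type u} [CommRing A] [CommRing A'] [Algebra A A'] {t : A}

/-- the map on fibre products induced by a morphism over the base -/
noncomputable abbrev pullMap {Y Y' S T : Scheme.{u}} {y : Y ⟶ S} {y' : Y' ⟶ S} (f : Y' ⟶ Y) (h : f ≫ y = y')
    (b : T ⟶ S) : pullback y' b ⟶ pullback y b :=
  pullback.map _ _ _ _ f (𝟙 T) (𝟙 S) (by rw [Category.comp_id, h]) (by simp)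

theorem pullMap_fst {Y Y' S T : Scheme.{u}} {y : Y ⟶ S} {y' : Y' ⟶ S} (f : Y' ⟶ Y) (h : f ≫ y = y')
    (b : T ⟶ S) : pullMap f h b ≫ pullback.fst y b = pullback.fst y' b ≫ f :=
  pullback.lift_fst _ _ _

theorem hom_of_affine_source (hg : EtGlue.IsGlueingPair A A' t) {Y : Scheme.{u}} [IsAffine Y]
    (y : Y ⟶ Spec (CommRingCat.of A)) [Flat y] (Z : Scheme.{u}) [IsAffine Z]
    (u₁ : pullback y (awayPt A t) ⟶ Z) (u₂ : pullback y (formalPt A A') ⟶ Z)
    (hag : ∀ (W : Scheme.{u}) (p : W ⟶ pullback y (awayPt A t)) (p' : W ⟶ pullback y (formalPt A A')),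
      p ≫ pullback.fst _ _ = p' ≫ pullback.fst _ _ → p ≫ u₁ = p' ≫ u₂) :
    ∃! F : Y ⟶ Z, pullback.fst _ _ ≫ F = u₁ ∧ pullback.fst _ _ ≫ F = u₂ := by
  obtain ⟨q, hq⟩ := Spec.map_surjective (Y.isoSpec.inv ≫ y)
  let _ : Algebra A Γ(Y, ⊤) := q.hom.toAlgebra
  have hfl : Flat (Spec.map q) := by rw [hq]; infer_instance
  rw [HasRingHomProperty.Spec_iff (P := @Flat)] at hfl
  have : Module.Flat A Γ(Y, ⊤) := hfl
  replace hq : Spec.map (CommRingCat.ofHom (algebraMap A Γ(Y, ⊤))) = Y.isoSpec.inv ≫ y := hq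
  let k₁ := pullMap Y.isoSpec.inv hq.symm (awayPt A t)
  let k₂ := pullMap Y.isoSpec.inv hq.symm (formalPt A A')
  obtain ⟨F, ⟨hF₁, hF₂⟩, huniq⟩ := hom_of_affine hg (B := Γ(Y, ⊤)) Z (k₁ ≫ u₁) (k₂ ≫ u₂) (fun W p p' hp => by
    simp only [← Category.assoc]
    refine hag _ _ _ ?_
    simp only [k₁, k₂, Category.assoc, pullMap_fst]
    exact (reassoc_of% hp) _)
  have e₁ : k₁ ≫ pullback.fst y (awayPt A t) = pullback.fst _ _ ≫ Y.isoSpec.inv := pullMap_fst _ _ _
  have e₂ : k₂ ≫ pullback.fst y (formalPt A A') = pullback.fst _ _ ≫ Y.isoSpec.inv := pullMap_fst _ _ _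
  have : IsIso k₁ := by
    refine ⟨pullMap Y.isoSpec.hom ((Iso.eq_inv_comp _).mp hq) _, ?_, ?_⟩
    · apply pullback.hom_ext <;> simp [k₁, pullMap, pullback.map, pullback.lift_fst, pullback.lift_snd, pullback.lift_fst_assoc, pullback.lift_snd_assoc]
    · apply pullback.hom_ext <;> simp [k₁, pullMap, pullback.map, pullback.lift_fst, pullback.lift_snd, pullback.lift_fst_assoc, pullback.lift_snd_assoc]
  have : IsIso k₂ := by
    refine ⟨pullMap Y.isoSpec.hom ((Iso.eq_inv_comp _).mp hq) _, ?_, ?_⟩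
    · apply pullback.hom_ext <;> simp [k₂, pullMap, pullback.map, pullback.lift_fst, pullback.lift_snd, pullback.lift_fst_assoc, pullback.lift_snd_assoc]
    · apply pullback.hom_ext <;> simp [k₂, pullMap, pullback.map, pullback.lift_fst, pullback.lift_snd, pullback.lift_fst_assoc, pullback.lift_snd_assoc]
  refine ⟨Y.isoSpec.hom ≫ F, ⟨?_, ?_⟩, fun F' hF' => ?_⟩
  · rw [← cancel_epi k₁, reassoc_of% e₁, Iso.inv_hom_id_assoc, hF₁]
  · rw [← cancel_epi k₂, reassoc_of% e₂, Iso.inv_hom_id_assoc, hF₂]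
  · rw [← cancel_epi Y.isoSpec.inv, Iso.inv_hom_id_assoc]
    refine huniq _ ⟨?_, ?_⟩
    · rw [← reassoc_of% e₁, hF'.1]
    · rw [← reassoc_of% e₂, hF'.2]

theorem hom_ext_of_affine (hg : EtGlue.IsGlueingPair A A' t) {Y : Scheme.{u}} (y : Y ⟶ Spec (CommRingCat.of A))
    [Flat y] {Z : Scheme.{u}} [IsAffine Z] {F F' : Y ⟶ Z}
    (h₁ : pullback.fst y (awayPt A t) ≫ F = pullback.fst y (awayPt A t) ≫ F')
    (h₂ : pullback.fst y (formalPt A A') ≫ F = pullback.fst y (formalPt A A') ≫ F') : F = F' := by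
  refine Y.affineCover.hom_ext _ _ fun i => ?_
  refine (hom_of_affine_source hg (Y.affineCover.f i ≫ y) Z
    (pullMap (Y.affineCover.f i) rfl _ ≫ pullback.fst y _ ≫ F)
    (pullMap (Y.affineCover.f i) rfl _ ≫ pullback.fst y _ ≫ F) ?_).unique ⟨?_, ?_⟩ ⟨?_, ?_⟩
  · intro W p p' hp
    simp only [reassoc_of% pullMap_fst]
    exact (reassoc_of% hp) _
  · simp only [reassoc_of% pullMap_fst]
  · simp only [reassoc_of% pullMap_fst]
  · rw [h₁]; simp only [reassoc_of% pullMap_fst]
  · rw [h₂]; simp only [reassoc_of% pullMap_fst]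

theorem glueMorphisms_restrict {Y Z S T : Scheme.{u}} (y : Y ⟶ S) (b : T ⟶ S)
    (G : ∀ i, Y.affineCover.X i ⟶ Z) (hG : ∀ i j, pullback.fst _ _ ≫ G i = pullback.snd _ _ ≫ G j)
    (u : pullback y b ⟶ Z)
    (h : ∀ i, pullback.fst (Y.affineCover.f i ≫ y) b ≫ G i = pullMap (Y.affineCover.f i) rfl b ≫ u) :
    pullback.fst y b ≫ Y.affineCover.glueMorphisms G hG = u := by
  refine Scheme.Cover.hom_ext (Y.affineCover.pullback₁ (pullback.fst y b)) _ _ fun i => ?_
  let k : pullback (pullback.fst y b) (Y.affineCover.f i) ⟶ pullback (Y.affineCover.f i ≫ y) b :=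
    pullback.lift (pullback.snd _ _) (pullback.fst _ _ ≫ pullback.snd y b) (by
      rw [← pullback.condition_assoc, Category.assoc, pullback.condition])
  have hk : k ≫ pullMap (Y.affineCover.f i) rfl b = pullback.fst (pullback.fst y b) (Y.affineCover.f i) := by
    apply pullback.hom_ext
    · simp [k, pullMap, pullback.map, pullback.lift_fst, pullback.lift_fst_assoc, pullback.condition]
    · simp [k, pullMap, pullback.map, pullback.lift_snd, pullback.lift_snd_assoc]
  show pullback.fst (pullback.fst y b) (Y.affineCover.f i) ≫ _ = pullback.fst (pullback.fst y b) (Y.affineCover.f i) ≫ _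
  rw [pullback.condition_assoc, Scheme.Cover.ι_glueMorphisms]
  conv_rhs => rw [← hk]
  simp only [Category.assoc, ← h, k, pullback.lift_fst_assoc]

theorem existsUnique_glue_affine (hg : EtGlue.IsGlueingPair A A' t) {Y : Scheme.{u}}
    (y : Y ⟶ Spec (CommRingCat.of A)) [Flat y] {Z : Scheme.{u}} [IsAffine Z]
    (u₁ : pullback y (awayPt A t) ⟶ Z) (u₂ : pullback y (formalPt A A') ⟶ Z)
    (hag : ∀ (W : Scheme.{u}) (p : W ⟶ pullback y (awayPt A t)) (p' : W ⟶ pullback y (formalPt A A')),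
      p ≫ pullback.fst _ _ = p' ≫ pullback.fst _ _ → p ≫ u₁ = p' ≫ u₂) :
    ∃! F : Y ⟶ Z, pullback.fst _ _ ≫ F = u₁ ∧ pullback.fst _ _ ≫ F = u₂ := by
  have hloc : ∀ i, ∃ F : Y.affineCover.X i ⟶ Z,
      pullback.fst (Y.affineCover.f i ≫ y) (awayPt A t) ≫ F = pullMap (Y.affineCover.f i) rfl _ ≫ u₁ ∧
      pullback.fst (Y.affineCover.f i ≫ y) (formalPt A A') ≫ F = pullMap (Y.affineCover.f i) rfl _ ≫ u₂ := by
    intro i
    obtain ⟨F, hF, -⟩ := hom_of_affine_source hg (Y.affineCover.f i ≫ y) Z (pullMap (Y.affineCover.f i) rfl _ ≫ u₁)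
      (pullMap (Y.affineCover.f i) rfl _ ≫ u₂) (fun W p p' hp => by
        simp only [← Category.assoc]
        refine hag _ _ _ ?_
        simp only [Category.assoc, pullMap_fst]
        exact (reassoc_of% hp) _)
    exact ⟨F, hF⟩
  choose G hG₁ hG₂ using hloc
  refine existsUnique_of_exists_of_unique ⟨Y.affineCover.glueMorphisms G fun i j => ?_, ?_, ?_⟩
    fun F F' hF hF' => hom_ext_of_affine hg y (hF.1.trans hF'.1.symm) (hF.2.trans hF'.2.symm)
  · let f := pullback.fst (Y.affineCover.f i) (Y.affineCover.f j)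
    let g := pullback.snd (Y.affineCover.f i) (Y.affineCover.f j)
    have hfg : g ≫ Y.affineCover.f j ≫ y = f ≫ Y.affineCover.f i ≫ y := by
      simp only [f, g, pullback.condition_assoc]
    have hcmp : ∀ {T : Scheme.{u}} (b : T ⟶ Spec (CommRingCat.of A)),
        pullMap f rfl b ≫ pullMap (Y.affineCover.f i) rfl b =
          pullMap g hfg b ≫ pullMap (Y.affineCover.f j) rfl b := fun b => by
      apply pullback.hom_ext
      · simp only [Category.assoc, pullMap_fst]
        rw [reassoc_of% (pullMap_fst f rfl b), reassoc_of% (pullMap_fst g hfg b)]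
        simp only [f, g, pullback.condition]
      · simp [pullMap, pullback.map, pullback.lift_snd]
    have : Flat (f ≫ Y.affineCover.f i ≫ y) := inferInstance
    refine hom_ext_of_affine hg (f ≫ Y.affineCover.f i ≫ y) ?_ ?_
    · rw [← reassoc_of% (pullMap_fst f rfl (awayPt A t)), hG₁,
        ← reassoc_of% (pullMap_fst g hfg (awayPt A t)), hG₁, reassoc_of% (hcmp (awayPt A t))]
    · rw [← reassoc_of% (pullMap_fst f rfl (formalPt A A')), hG₂,
        ← reassoc_of% (pullMap_fst g hfg (formalPt A A')), hG₂, reassoc_of% (hcmp (formalPt A A'))]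
  · exact glueMorphisms_restrict y _ G _ u₁ hG₁
  · exact glueMorphisms_restrict y _ G _ u₂ hG₂

/-- Morphisms from a flat scheme to a quasi-affine one glue. -/
theorem existsUnique_glue (hg : EtGlue.IsGlueingPair A A' t) {Y : Scheme.{u}}
    (y : Y ⟶ Spec (CommRingCat.of A)) [Flat y] {Z : Scheme.{u}} [Z.IsQuasiAffine]
    (u₁ : pullback y (awayPt A t) ⟶ Z) (u₂ : pullback y (formalPt A A') ⟶ Z)
    (hag : ∀ (W : Scheme.{u}) (p : W ⟶ pullback y (awayPt A t)) (p' : W ⟶ pullback y (formalPt A A')),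
      p ≫ pullback.fst _ _ = p' ≫ pullback.fst _ _ → p ≫ u₁ = p' ≫ u₂) :
    ∃! F : Y ⟶ Z, pullback.fst _ _ ≫ F = u₁ ∧ pullback.fst _ _ ≫ F = u₂ := by
  obtain ⟨F₀, ⟨h₁, h₂⟩, huniq⟩ := existsUnique_glue_affine hg y (u₁ ≫ Z.toSpecΓ) (u₂ ≫ Z.toSpecΓ)
    (fun W p p' hp => (reassoc_of% (hag W p p' hp)) _)
  have hrange : Set.range F₀ ⊆ Set.range Z.toSpecΓ := by
    rintro _ ⟨x, rfl⟩
    rcases exists_preimage hg (y x) with ⟨r, hr⟩ | ⟨r, hr⟩
    · obtain ⟨w, rfl, -⟩ := Scheme.Pullback.exists_preimage_pullback (f := y) (g := awayPt A t) x r hr.symm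
      exact ⟨u₁ w, by rw [← Scheme.Hom.comp_apply, ← Scheme.Hom.comp_apply, h₁]⟩
    · obtain ⟨w, rfl, -⟩ := Scheme.Pullback.exists_preimage_pullback (f := y) (g := formalPt A A') x r hr.symm
      exact ⟨u₂ w, by rw [← Scheme.Hom.comp_apply, ← Scheme.Hom.comp_apply, h₂]⟩
  refine ⟨IsOpenImmersion.lift Z.toSpecΓ F₀ hrange, ⟨?_, ?_⟩, fun F hF => ?_⟩
  · rw [← cancel_mono Z.toSpecΓ, Category.assoc, IsOpenImmersion.lift_fac, h₁]
  · rw [← cancel_mono Z.toSpecΓ, Category.assoc, IsOpenImmersion.lift_fac, h₂]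
  · rw [← cancel_mono Z.toSpecΓ, IsOpenImmersion.lift_fac]
    exact huniq _ ⟨by rw [← hF.1, Category.assoc], by rw [← hF.2, Category.assoc]⟩

end Global

end Groth.Agent.Tors37
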