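import Groth.Prelude.Def_ActBC
import Groth.Agent.Tors37.GlueHom
import Groth.Agent.SpFP87.RepDescQA
import Groth.Agent.Sga84.TorsorDesc
import Groth.Agent.Unr55.DescProps

/-! Isomorphisms of torsors glue along a glueing pair. -/

set_option autoImplicit false
set_option backward.isDefEq.respectTransparency.types false
universe u

open CategoryTheory MonoidalCategory CartesianMonoidalCategory MonObj CategoryTheory.Limits AlgebraicGeometry

namespace Groth.Agent.Tors37

variable {A : Type u} [CommRing A] {G P : Over (Spec (CommRingCat.of A))} [GrpObj G]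

theorem flat_qa_of_isTorsorFor [Flat G.hom] [G.left.IsQuasiAffine] {a : AlgGrp.Action G P}
    (h : NonAbH1.IsTorsorFor Scheme.fppfPrecoverage a) : Flat P.hom ∧ P.left.IsQuasiAffine := by
  have h' : NonAbH1.IsTorsorFor Scheme.fpqcPrecoverage a := by
    obtain ⟨hps, C, hC, hsec⟩ := h
    exact ⟨hps, C, Scheme.fppfPrecoverage_le_fpqcPrecoverage _ hC, hsec⟩
  have := Sga84.flat_descendsAlong.{u}
  have hF : Flat P.hom := Sga84.hom_of_isTorsorFor @Flat ‹_› h'
  haveI : SpFP87.qaMor.{u}.DescendsAlong Unr55.fpqc.{u} := Desc59.descendsAlong_quasiAffine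
  have hG : SpFP87.qaMor G.hom := by
    haveI : QuasiCompact G.hom := inferInstance
    refine LimDesc62.isQuasiAffine_of_cover G.hom (fun _ : PUnit => (⊤ : (Spec (CommRingCat.of A)).Opens))
      iSup_const fun _ => ?_
    exact FlatMor66.qa_congr (Scheme.topIso _) ‹_›
  have hP : Mor2.IsQuasiAffine P.hom := Sga84.hom_of_isTorsorFor SpFP87.qaMor hG h'
  exact ⟨hF, FlatMor66.qa_congr (Scheme.topIso _).symm (hP.2 ⊤ (isAffineOpen_top _))⟩

end Groth.Agent.Tors37

namespace Groth.Agent.Tors37

variable {A A' : Type u} [CommRing A] [CommRing A'] [Algebra A A'] {t : A}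

/-- Morphisms over the base from a flat scheme to a quasi-affine one are determined by their base changes. -/
theorem over_hom_ext (hg : EtGlue.IsGlueingPair A A' t) {Y Z : Over (Spec (CommRingCat.of A))} [Flat Y.hom]
    [Z.left.IsQuasiAffine] {f g : Y ⟶ Z}
    (h₁ : (Over.pullback (awayPt A t)).map f = (Over.pullback (awayPt A t)).map g)
    (h₂ : (Over.pullback (formalPt A A')).map f = (Over.pullback (formalPt A A')).map g) : f = g := by
  refine Over.OverMorphism.ext ((cancel_mono Z.left.toSpecΓ).mp (hom_ext_of_affine hg Y.hom ?_ ?_))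
  · have := congrArg (fun k => k.left ≫ pullback.fst Z.hom (awayPt A t) ≫ Z.left.toSpecΓ) h₁
    simpa [pullback.lift_fst_assoc] using this
  · have := congrArg (fun k => k.left ≫ pullback.fst Z.hom (formalPt A A') ≫ Z.left.toSpecΓ) h₂
    simpa [pullback.lift_fst_assoc] using this

theorem existsUnique_over_glue (hg : EtGlue.IsGlueingPair A A' t) {Y Z : Over (Spec (CommRingCat.of A))}
    [Flat Y.hom] [Z.left.IsQuasiAffine]
    (f₁ : (Over.pullback (awayPt A t)).obj Y ⟶ (Over.pullback (awayPt A t)).obj Z)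
    (f₂ : (Over.pullback (formalPt A A')).obj Y ⟶ (Over.pullback (formalPt A A')).obj Z)
    (hag : ∀ (W : Scheme.{u}) (p : W ⟶ pullback Y.hom (awayPt A t)) (p' : W ⟶ pullback Y.hom (formalPt A A')),
      p ≫ pullback.fst _ _ = p' ≫ pullback.fst _ _ →
        p ≫ f₁.left ≫ pullback.fst Z.hom (awayPt A t) = p' ≫ f₂.left ≫ pullback.fst Z.hom (formalPt A A')) :
    ∃! F : Y ⟶ Z, (Over.pullback (awayPt A t)).map F = f₁ ∧ (Over.pullback (formalPt A A')).map F = f₂ := by
  obtain ⟨F, ⟨h₁, h₂⟩, -⟩ := existsUnique_glue hg Y.hom _ _ hag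
  have hw₁ : f₁.left ≫ pullback.fst Z.hom (awayPt A t) ≫ Z.hom = pullback.fst Y.hom (awayPt A t) ≫ Y.hom := by
    rw [pullback.condition, ← Category.assoc, show f₁.left ≫ pullback.snd Z.hom _ = pullback.snd Y.hom _ from
      Over.w f₁, ← pullback.condition]
  have hw₂ : f₂.left ≫ pullback.fst Z.hom (formalPt A A') ≫ Z.hom = pullback.fst Y.hom (formalPt A A') ≫ Y.hom := by
    rw [pullback.condition, ← Category.assoc, show f₂.left ≫ pullback.snd Z.hom _ = pullback.snd Y.hom _ from
      Over.w f₂, ← pullback.condition]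
  have hF : F ≫ Z.hom = Y.hom := hom_ext_of_affine hg Y.hom
    (by rw [reassoc_of% h₁]; exact hw₁) (by rw [reassoc_of% h₂]; exact hw₂)
  refine existsUnique_of_exists_of_unique ⟨Over.homMk F hF, ?_, ?_⟩
    fun f g hf hg' => over_hom_ext hg (hf.1.trans hg'.1.symm) (hf.2.trans hg'.2.symm)
  · apply Over.OverMorphism.ext
    apply pullback.hom_ext
    · simp only [Over.pullback_map_left, pullback.lift_fst, Over.homMk_left]
      exact h₁
    · exact (Over.w _).trans (Over.w f₁).symm
  · apply Over.OverMorphism.ext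
    apply pullback.hom_ext
    · simp only [Over.pullback_map_left, pullback.lift_fst, Over.homMk_left]
      exact h₂
    · exact (Over.w _).trans (Over.w f₂).symm

end Groth.Agent.Tors37
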