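import Mathlib.AlgebraicGeometry.Morphisms.SchemeTheoreticallyDominant
import Mathlib.AlgebraicGeometry.Morphisms.Separated
import Mathlib.AlgebraicGeometry.Morphisms.ClosedImmersion

/-! Scheme-theoretically dominant morphisms: rigidity, images and extension of graphs. -/

set_option autoImplicit false
universe u

open CategoryTheory CategoryTheory.Limits AlgebraicGeometry

namespace Groth.Agent.Tors37

theorem isIso_of_closedImmersion_of_dominant {W C P : Scheme.{u}} (ic : C ⟶ P) [IsClosedImmersion ic]
    (l : W ⟶ C) (j : W ⟶ P) [IsSchemeTheoreticallyDominant j] (h : l ≫ ic = j) : IsIso ic := by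
  rw [IsClosedImmersion.isIso_iff_ker_eq_bot, ← le_bot_iff, ← j.ker_eq_bot, ← h]
  exact Scheme.Hom.le_ker_comp l ic

theorem ext_of_schemeDominant {W P Y S : Scheme.{u}} (j : W ⟶ P) [IsSchemeTheoreticallyDominant j]
    (g : Y ⟶ S) [IsSeparated g] {b c : P ⟶ Y} (hS : b ≫ g = c ≫ g) (h : j ≫ b = j ≫ c) : b = c := by
  let D := pullback.diagonal g
  let m : P ⟶ pullback g g := pullback.lift b c hS
  let q : pullback D m ⟶ P := pullback.snd D m
  have : IsClosedImmersion q := MorphismProperty.pullback_snd _ _ inferInstance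
  have hw : (j ≫ b) ≫ D = j ≫ m := by
    apply pullback.hom_ext
    · rw [Category.assoc, pullback.diagonal_fst, Category.comp_id, Category.assoc, pullback.lift_fst]
    · rw [Category.assoc, pullback.diagonal_snd, Category.comp_id, Category.assoc, pullback.lift_snd, h]
  have := isIso_of_closedImmersion_of_dominant q (pullback.lift (j ≫ b) j hw) j (pullback.lift_snd _ _ _)
  rw [← cancel_epi q]
  have e1 : pullback.fst D m = q ≫ b := by
    rw [← Category.comp_id (pullback.fst D m), ← pullback.diagonal_fst g, ← Category.assoc,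
      pullback.condition, Category.assoc, pullback.lift_fst]
  have e2 : pullback.fst D m = q ≫ c := by
    rw [← Category.comp_id (pullback.fst D m), ← pullback.diagonal_snd g, ← Category.assoc,
      pullback.condition, Category.assoc, pullback.lift_snd]
  rw [← e1, ← e2]

theorem toImage_dominant {X Y : Scheme.{u}} (f : X ⟶ Y) [QuasiCompact f] :
    IsSchemeTheoreticallyDominant f.toImage := by
  constructor
  rw [← Scheme.isIso_subschemeι_iff_eq_bot]
  refine IsClosedImmersion.isIso_of_ker_eq (f.toImage.ker.subschemeι ≫ f.imageι) f.imageι _ rfl ?_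
  rw [Scheme.Hom.ker_comp, Scheme.IdealSheafData.ker_subschemeι, ← Scheme.Hom.ker_comp,
    Scheme.Hom.toImage_imageι, Scheme.IdealSheafData.ker_subschemeι]

/-- If a partial map to a separated scheme extends after a flat base change, then the closure of its graph
is a graph after that base change. -/
theorem isIso_image_graph {W P P' S T : Scheme.{u}} (j : W ⟶ P) [IsSchemeTheoreticallyDominant j]
    [QuasiCompact j] (ph : P ⟶ S) (f' : P' ⟶ S) [IsSeparated f'] (e : W ⟶ P') (he : e ≫ f' = j ≫ ph)
    (pr : T ⟶ P) [Flat pr] (ψ : T ⟶ P') (hψ : ψ ≫ f' = pr ≫ ph)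
    (hagree : pullback.snd j pr ≫ ψ = pullback.fst j pr ≫ e) :
    IsIso (pullback.snd ((pullback.lift j e he.symm : W ⟶ pullback ph f').imageι ≫ pullback.fst ph f') pr) := by
  let Γ : W ⟶ pullback ph f' := pullback.lift j e he.symm
  have hΓ : Γ ≫ pullback.fst ph f' = j := pullback.lift_fst _ _ _
  have : QuasiCompact (Γ ≫ pullback.fst ph f') := by rw [hΓ]; infer_instance
  have : QuasiCompact Γ := QuasiCompact.of_comp Γ (pullback.fst ph f')
  have := toImage_dominant Γ
  let ι := Γ.imageι
  let q := ι ≫ pullback.fst ph f'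
  let ZT := pullback q pr
  let qT : ZT ⟶ T := pullback.snd q pr
  have hq : Γ.toImage ≫ q = j := by simp [q, ι, hΓ]
  let l : pullback Γ.toImage (pullback.fst q pr) ⟶ ZT := pullback.snd _ _
  let w : pullback Γ.toImage (pullback.fst q pr) ⟶ pullback j pr :=
    pullback.lift (pullback.fst _ _) (l ≫ qT) (by
      rw [← hq, pullback.condition_assoc, Category.assoc, pullback.condition])
  have hc : pullback.fst q pr ≫ ι ≫ pullback.snd ph f' = qT ≫ ψ := by
    have : Flat (pullback.fst q pr) := MorphismProperty.pullback_fst _ _ ‹Flat pr›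
    have : IsSchemeTheoreticallyDominant l := .of_isPullback (IsPullback.of_hasPullback _ _)
    refine ext_of_schemeDominant l f' ?_ ?_
    · simp only [Category.assoc, hψ, qT, ← pullback.condition_assoc (f := q) (g := pr)]
      simp only [q, Category.assoc, pullback.condition]
    · have h1 : l ≫ qT = w ≫ pullback.snd j pr := (pullback.lift_snd _ _ _).symm
      rw [reassoc_of% h1, hagree, pullback.lift_fst_assoc, ← pullback.condition_assoc,
        Scheme.Hom.toImage_imageι_assoc, pullback.lift_snd]
  -- the graph of the extension lies in the closure of the graph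
  let m : T ⟶ pullback ph f' := pullback.lift pr ψ hψ.symm
  have hm₁ : m ≫ pullback.fst ph f' = pr := pullback.lift_fst _ _ _
  have hm₂ : m ≫ pullback.snd ph f' = ψ := pullback.lift_snd _ _ _
  let C := pullback ι m
  have : IsClosedImmersion (pullback.snd ι m) := MorphismProperty.pullback_snd _ _ inferInstance
  have hin : (pullback.fst j pr ≫ Γ.toImage) ≫ ι = pullback.snd j pr ≫ m := by
    apply pullback.hom_ext
    · simp only [ι, Category.assoc, Scheme.Hom.toImage_imageι_assoc, hΓ, hm₁, pullback.condition]
    · have hΓ₂ : Γ ≫ pullback.snd ph f' = e := pullback.lift_snd _ _ _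
      simp only [ι, Category.assoc, Scheme.Hom.toImage_imageι_assoc, hΓ₂, hm₂, hagree]
  have := isIso_of_closedImmersion_of_dominant (pullback.snd ι m)
    (pullback.lift (pullback.fst j pr ≫ Γ.toImage) (pullback.snd j pr) hin) (pullback.snd j pr)
    (pullback.lift_snd _ _ _)
  let σ₀ : T ⟶ Γ.image := inv (pullback.snd ι m) ≫ pullback.fst ι m
  have hσ₀ : σ₀ ≫ ι = m := by simp [σ₀, pullback.condition]
  let σ : T ⟶ ZT := pullback.lift σ₀ (𝟙 T) (by rw [Category.id_comp]; simp only [q, reassoc_of% hσ₀, hm₁])
  refine ⟨⟨σ, ?_, pullback.lift_snd _ _ _⟩⟩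
  have hσf : σ ≫ pullback.fst q pr = σ₀ := pullback.lift_fst _ _ _
  show qT ≫ σ = 𝟙 ZT
  apply pullback.hom_ext
  · rw [Category.assoc, hσf, Category.id_comp, ← cancel_mono ι, Category.assoc, hσ₀]
    apply pullback.hom_ext
    · simp only [Category.assoc, hm₁]
      exact pullback.condition.symm
    · simp only [Category.assoc, hm₂]
      exact hc.symm
  · rw [Category.assoc, Category.id_comp]
    show qT ≫ σ ≫ qT = qT
    rw [show σ ≫ qT = 𝟙 T from pullback.lift_snd _ _ _, Category.comp_id]

end Groth.Agent.Tors37
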