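import Groth.Prelude.Def_NonAbH2
import Mathlib.AlgebraicGeometry.ValuativeCriterion
import Mathlib.AlgebraicGeometry.Morphisms.Flat

/-! Points of fppf locally trivial schemes with values in valuation rings dominating a given prime. -/

set_option autoImplicit false
universe u

open CategoryTheory CategoryTheory.Limits AlgebraicGeometry IsLocalRing

namespace Groth.Agent.Tors37

theorem exists_valuation_point (R : Type u) [CommRing R] [IsDomain R]
    (P : Over (Spec (CommRingCat.of R))) (h : NonAbH1.IsLocallyTrivialFor Scheme.fppfPrecoverage P)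
    (p : PrimeSpectrum R) :
    ∃ (V : Type u) (_ : CommRing V) (_ : IsDomain V) (_ : ValuationRing V) (φ : R →+* V),
      Function.Injective φ ∧ PrimeSpectrum.comap φ (closedPoint V) = p ∧
      NonAbH1.HasSectionOver P (Spec.map (CommRingCat.ofHom φ)) := by
  obtain ⟨𝒰, hR, hsec⟩ := h
  obtain ⟨I, Q, q, rfl⟩ := Presieve.exists_eq_ofArrows 𝒰
  rw [Scheme.fppfPrecoverage, Scheme.ofArrows_mem_precoverage_iff] at hR
  obtain ⟨i, qp, hqp⟩ := hR.1 p
  obtain ⟨σ, hσ⟩ := hsec (q i) ⟨i⟩
  have : Flat (q i) := (hR.2 i).1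
  let ξ : PrimeSpectrum R := ⊥
  have hsp : ξ ⤳ q i qp := (PrimeSpectrum.le_iff_specializes ξ (q i qp)).mp bot_le
  obtain ⟨x', hx', hqx⟩ := Flat.generalizingMap (q i) hsp
  let χ : (Q i).presheaf.stalk qp ⟶ (Q i).residueField x' :=
    (Q i).presheaf.stalkSpecializes hx' ≫ (Q i).residue x'
  obtain ⟨A, hA, hAl⟩ := exists_factor_valuationRing χ.hom
  let χA : (Q i).presheaf.stalk qp ⟶ .of A := CommRingCat.ofHom (χ.hom.codRestrict _ hA)
  let c : Spec (.of A) ⟶ Q i := Spec.map χA ≫ (Q i).fromSpecStalk qp
  have hK : Spec.map (CommRingCat.ofHom (algebraMap A ((Q i).residueField x'))) ≫ c =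
      (Q i).fromSpecResidueField x' := by
    rw [Scheme.fromSpecResidueField, ← Scheme.SpecMap_stalkSpecializes_fromSpecStalk hx']
    simp only [c, ← Spec.map_comp_assoc]
    rfl
  obtain ⟨φ, hφ⟩ := Spec.map_surjective (c ≫ q i)
  refine ⟨A, inferInstance, inferInstance, inferInstance, φ.hom, ?_, ?_, c ≫ σ, ?_⟩
  · have h1 : PrimeSpectrum.comap φ.hom
        (PrimeSpectrum.comap (algebraMap A ((Q i).residueField x')) (closedPoint _)) = ξ := by
      show Spec.map φ (Spec.map (CommRingCat.ofHom (algebraMap A ((Q i).residueField x'))) (closedPoint _)) = ξ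
      rw [hφ]
      show q i ((Spec.map (CommRingCat.ofHom (algebraMap A ((Q i).residueField x'))) ≫ c) (closedPoint _)) = ξ
      rw [hK, Scheme.fromSpecResidueField_apply, hqx]
    have h3 := congrArg PrimeSpectrum.asIdeal h1
    simp only [PrimeSpectrum.comap_asIdeal, Ideal.comap_comap] at h3
    simp only [closedPoint, IsLocalRing.maximalIdeal_eq_bot] at h3
    have h4 : RingHom.ker ((algebraMap A ((Q i).residueField x')).comp φ.hom) = ⊥ := h3
    exact Function.Injective.of_comp (f := algebraMap A ((Q i).residueField x'))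
      ((RingHom.injective_iff_ker_eq_bot _).mpr h4)
  · have h2 : (c ≫ q i) (closedPoint A) = p := by
      simp only [c, Scheme.Hom.comp_apply]
      have : Spec.map χA (closedPoint A) = closedPoint ((Q i).presheaf.stalk qp) :=
        comap_closedPoint (S := A) (χ.hom.codRestrict A.toSubring hA)
      rw [this, (Q i).fromSpecStalk_closedPoint]
      exact hqp
    rw [← hφ] at h2
    exact h2
  · rw [Category.assoc, hσ, ← hφ]
    rfl

end Groth.Agent.Tors37
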