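import Groth.Prelude.Def_ActBC
import Groth.Prelude.Def_Neron
import Groth.Agent.Tors37.Dense
import Groth.Agent.Tors37.ValPoint
import Groth.Agent.Tors37.IsoLocal
import Groth.Agent.Sga84.TorsorAff
import Groth.Agent.Sga84.TorsorDesc
import Groth.Agent.Unr55.DescProps
import Mathlib.AlgebraicGeometry.Morphisms.Proper
import Mathlib.RingTheory.Flat.TorsionFree

/-! Torsors under proper flat groups over a Dedekind domain: generic morphisms extend. -/

set_option autoImplicit false
set_option backward.isDefEq.respectTransparency.types false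
universe u

open CategoryTheory MonoidalCategory CartesianMonoidalCategory MonObj CategoryTheory.Limits AlgebraicGeometry

namespace Groth.Agent.Tors37

section

variable {S S' : Scheme.{u}} {ξ : S' ⟶ S} {G P P' : Over S} [GrpObj G]
  {a : AlgGrp.Action G P} {a' : AlgGrp.Action G P'} (φ : NonAbH1.EquivIso (a.bc ξ) (a'.bc ξ))

/-- The effect of an isomorphism of base changed actions on points of the base change. -/
noncomputable def genEv {T' : Over S'} (x : (Over.map ξ).obj T' ⟶ P) : (Over.map ξ).obj T' ⟶ P' :=
  ((Over.mapPullbackAdj ξ).homEquiv T' P').symm ((Over.mapPullbackAdj ξ).homEquiv T' P x ≫ φ.iso.hom)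

theorem genEv_actPt {T' : Over S'} (g : (Over.map ξ).obj T' ⟶ G) (x : (Over.map ξ).obj T' ⟶ P) :
    genEv φ (Sga84.actPt a g x) = Sga84.actPt a' g (genEv φ x) := by
  refine (Equiv.symm_apply_eq _).mpr ?_
  refine (congrArg (· ≫ φ.iso.hom) (AlgGrp.Action.lift_homEquiv_bc_act ξ a g x)).symm.trans ?_
  refine Eq.trans ?_ (AlgGrp.Action.lift_homEquiv_bc_act ξ a' g (genEv φ x))
  simp only [genEv, Equiv.apply_symm_apply, Category.assoc, φ.comm, lift_whiskerLeft_assoc]

theorem genEv_left {T' : Over S'} (x : (Over.map ξ).obj T' ⟶ P) (k : T'.left ⟶ pullback P.hom ξ)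
    (h₁ : k ≫ pullback.fst P.hom ξ = x.left) (h₂ : k ≫ pullback.snd P.hom ξ = T'.hom) :
    (genEv φ x).left = k ≫ φ.iso.hom.left ≫ pullback.fst P'.hom ξ := by
  have : ((Over.mapPullbackAdj ξ).homEquiv T' P x).left = k := by
    apply pullback.hom_ext
    · rw [h₁]; simp [Adjunction.homEquiv_unit]
      rw [pullback.lift_fst, pullback.lift_fst_assoc, Category.id_comp]
    · rw [h₂]; exact Over.w ((Over.mapPullbackAdj ξ).homEquiv T' P x)
  simp [genEv, Adjunction.homEquiv_counit, this]

end

variable {R : Type u} [CommRing R] [IsDedekindDomain R]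
  {G P P' : Over (Spec (CommRingCat.of R))} [GrpObj G] [IsProper G.hom] [Flat G.hom]
  {a : AlgGrp.Action G P} {a' : AlgGrp.Action G P'}

theorem isProper_flat_of_isTorsorFor (h : NonAbH1.IsTorsorFor Scheme.fppfPrecoverage a) :
    IsProper P.hom ∧ Flat P.hom := by
  have h' : NonAbH1.IsTorsorFor Scheme.fpqcPrecoverage a := by
    obtain ⟨hps, C, hC, hsec⟩ := h
    exact ⟨hps, C, Scheme.fppfPrecoverage_le_fpqcPrecoverage _ hC, hsec⟩
  have := Unr55.isProper.{u}
  have := Sga84.flat_descendsAlong.{u}
  exact ⟨Sga84.hom_of_isTorsorFor @IsProper ‹_› h', Sga84.hom_of_isTorsorFor @Flat ‹_› h'⟩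

omit [IsDedekindDomain R] in
theorem genPt_dominant [IsDomain R] : IsSchemeTheoreticallyDominant (Neron.genPt R) := by
  have : IsDominant (Neron.genPt R) := ⟨by
    show DenseRange (PrimeSpectrum.comap (algebraMap R (FractionRing R)))
    rw [PrimeSpectrum.denseRange_comap_iff_ker_le_nilRadical,
      (RingHom.injective_iff_ker_eq_bot _).mp (IsFractionRing.injective R (FractionRing R))]
    exact bot_le⟩
  exact .of_isDominant _

omit [IsDedekindDomain R] in
theorem exists_generic_map [IsDomain R] {V : Type u} [CommRing V] [IsDomain V] (K L : Type u) [Field K] [Field L]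
    [Algebra R K] [IsFractionRing R K] [Algebra V L] [IsFractionRing V L] (χ : R →+* V)
    (hinj : Function.Injective χ) :
    ∃ c : Spec (CommRingCat.of L) ⟶ Spec (CommRingCat.of K),
      c ≫ Spec.map (CommRingCat.ofHom (algebraMap R K)) =
        Spec.map (CommRingCat.ofHom (algebraMap V L)) ≫ Spec.map (CommRingCat.ofHom χ) := by
  have hg : Function.Injective ((algebraMap V L).comp χ) := (IsFractionRing.injective V L).comp hinj
  refine ⟨Spec.map (CommRingCat.ofHom (IsFractionRing.lift (A := R) (K := K) hg)), ?_⟩
  simp only [← Spec.map_comp, ← CommRingCat.ofHom_comp]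
  congr 2
  ext r
  exact IsFractionRing.lift_algebraMap hg r

theorem exists_extend (hP : NonAbH1.IsTorsorFor Scheme.fppfPrecoverage a)
    (hP' : NonAbH1.IsTorsorFor Scheme.fppfPrecoverage a')
    (φ : NonAbH1.EquivIso (a.bc (Neron.genPt R)) (a'.bc (Neron.genPt R))) :
    ∃ F : P ⟶ P', (Over.pullback (Neron.genPt R)).map F = φ.iso.hom := by
  classical
  obtain ⟨_, _⟩ := isProper_flat_of_isTorsorFor hP
  obtain ⟨_, _⟩ := isProper_flat_of_isTorsorFor hP'
  have hξd := genPt_dominant (R := R)
  let ξ := Neron.genPt R
  have : IsPreimmersion ξ := IsPreimmersion.of_isLocalization (nonZeroDivisors R)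
  let j : pullback P.hom ξ ⟶ P.left := pullback.fst P.hom ξ
  let e : pullback P.hom ξ ⟶ P'.left := φ.iso.hom.left ≫ pullback.fst P'.hom ξ
  have hsnd : φ.iso.hom.left ≫ pullback.snd P'.hom ξ = pullback.snd P.hom ξ := Over.w φ.iso.hom
  have he : e ≫ P'.hom = j ≫ P.hom := by
    simp only [e, j, Category.assoc]
    rw [pullback.condition, reassoc_of% hsnd, ← pullback.condition]
  let Γ : pullback P.hom ξ ⟶ pullback P.hom P'.hom := pullback.lift j e he.symm
  let q : Γ.image ⟶ P.left := Γ.imageι ≫ pullback.fst P.hom P'.hom
  have hq : IsIso q := by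
    refine isIso_of_forall_localPt q P.hom fun p => ?_
    obtain ⟨V, _, _, _, χ, hinj, hcl, s, hs⟩ := exists_valuation_point R P hP.2 p
    let _ : Algebra R V := χ.toAlgebra
    let b : Spec (CommRingCat.of V) ⟶ Spec (CommRingCat.of R) := Spec.map (CommRingCat.ofHom χ)
    have : Flat b := by
      rw [HasRingHomProperty.Spec_iff (P := @Flat), CommRingCat.hom_ofHom]
      show Module.Flat R V
      have : Module.IsTorsionFree R V := by
        rw [Module.isTorsionFree_iff_smul_eq_zero]
        intro r m h
        rw [Algebra.smul_def, mul_eq_zero] at h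
        exact h.imp_left fun h => hinj (h.trans (map_zero χ).symm)
      infer_instance
    let pr : pullback P.hom b ⟶ P.left := pullback.fst P.hom b
    -- a valued point of P' over the generic image of s
    let L := FractionRing V
    let gen : Spec (CommRingCat.of L) ⟶ Spec (CommRingCat.of V) :=
      Spec.map (CommRingCat.ofHom (algebraMap V L))
    obtain ⟨cK, hcK⟩ : ∃ cK : Spec (CommRingCat.of L) ⟶ Spec (CommRingCat.of (FractionRing R)),
        cK ≫ ξ = gen ≫ b := exists_generic_map (FractionRing R) L χ hinj
    let i₁ : Spec (CommRingCat.of L) ⟶ P'.left :=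
      pullback.lift (gen ≫ s) cK (by rw [Category.assoc, hs, hcK]) ≫ e
    have w₁ : i₁ ≫ P'.hom = gen ≫ b := by
      simp only [i₁, Category.assoc, he, j]
      rw [pullback.lift_fst_assoc, Category.assoc, hs]
    have hval : ValuativeCriterion P'.hom := by
      have h := ‹IsProper P'.hom›
      rw [IsProper.eq_valuativeCriterion] at h
      exact h.1.1.1
    obtain ⟨s', hs'₁, hs'₂⟩ := ((hval { R := V, K := L, i₁ := i₁, i₂ := b, commSq := ⟨w₁⟩ }).some).default
    dsimp only at hs'₁ hs'₂
    -- s' is the image of s at every generic point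
    let W₀ := pullback b ξ
    have hW₀ : pullback.lift (pullback.fst b ξ ≫ s) (pullback.snd b ξ)
        (by rw [Category.assoc, hs, pullback.condition]) ≫ e = pullback.fst b ξ ≫ s' := by
      have : IsSchemeTheoreticallyDominant gen := by
        have : IsDominant gen := ⟨by
          show DenseRange (PrimeSpectrum.comap (algebraMap V L))
          rw [PrimeSpectrum.denseRange_comap_iff_ker_le_nilRadical,
            (RingHom.injective_iff_ker_eq_bot _).mp (IsFractionRing.injective V L)]
          exact bot_le⟩
        exact .of_isDominant _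
      have : Flat (pullback.fst b ξ) := MorphismProperty.pullback_fst _ _ (by
        show Flat ξ
        rw [HasRingHomProperty.Spec_iff (P := @Flat), CommRingCat.hom_ofHom, RingHom.flat_algebraMap_iff]
        exact IsLocalization.flat _ (nonZeroDivisors R))
      refine ext_of_schemeDominant (pullback.snd gen (pullback.fst b ξ)) P'.hom ?_ ?_
      · simp only [Category.assoc, he, j, hs'₂]
        rw [pullback.lift_fst_assoc, Category.assoc, hs]
      · have hg : pullback.snd gen (pullback.fst b ξ) ≫ pullback.snd b ξ =
            pullback.fst gen (pullback.fst b ξ) ≫ cK := by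
          rw [← cancel_mono ξ]
          simp only [Category.assoc, ← pullback.condition, hcK]
          rw [pullback.condition_assoc]
        rw [← pullback.condition_assoc, hs'₁]
        simp only [i₁, ← Category.assoc]
        congr 1
        apply pullback.hom_ext
        · simp only [Category.assoc, pullback.lift_fst, pullback.condition_assoc]
        · simp only [Category.assoc, pullback.lift_snd, hg]
    -- the translated morphism
    let TO : Over (Spec (CommRingCat.of R)) := Over.mk (pr ≫ P.hom)
    let x : TO ⟶ P := Over.homMk pr rfl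
    let s₁ : TO ⟶ P := Over.homMk (pullback.snd P.hom b ≫ s) (by
      simp only [Category.assoc, hs, TO, Over.mk_hom, pr]; exact pullback.condition.symm)
    let y₁ : TO ⟶ P' := Over.homMk (pullback.snd P.hom b ≫ s') (by
      simp only [Category.assoc, hs'₂, TO, Over.mk_hom, pr]; exact pullback.condition.symm)
    obtain ⟨γ, hγ, -⟩ := Sga84.existsUnique_actPt a hP.1 s₁ x
    let ψ : pullback P.hom b ⟶ P'.left := (Sga84.actPt a' γ y₁).left
    have hψ : ψ ≫ P'.hom = pr ≫ P.hom := Over.w (Sga84.actPt a' γ y₁)
    have hagree : pullback.snd j pr ≫ ψ = pullback.fst j pr ≫ e := by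
      let T' : Over (Spec (CommRingCat.of (FractionRing R))) :=
        Over.mk (pullback.fst j pr ≫ pullback.snd P.hom ξ)
      let ω : (Over.map ξ).obj T' ⟶ TO := Over.homMk (pullback.snd j pr) (by
        simp [TO, T', j, ← pullback.condition_assoc, pullback.condition])
      have hb : (pullback.snd j pr ≫ pullback.snd P.hom b) ≫ b =
          (pullback.fst j pr ≫ pullback.snd P.hom ξ) ≫ ξ := by
        simp only [Category.assoc, ← pullback.condition, pullback.condition_assoc, j, pr]
      have h1 : genEv φ (ω ≫ x) = ω ≫ Sga84.actPt a' γ y₁ := by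
        rw [← hγ, Sga84.comp_actPt, Sga84.comp_actPt, genEv_actPt]
        congr 1
        apply Over.OverMorphism.ext
        have h2 := congrArg (pullback.lift _ _ hb ≫ ·) hW₀
        simp only [← Category.assoc, pullback.lift_fst] at h2
        refine (genEv_left φ (ω ≫ s₁) _ ?_ ?_).trans ((h2.trans (Category.assoc _ _ _)))
        · simp only [ω, s₁, Over.comp_left, Over.homMk_left]; rw [Category.assoc, pullback.lift_fst, pullback.lift_fst_assoc, Category.assoc]
        · rw [Category.assoc, pullback.lift_snd, pullback.lift_snd]; rfl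
      refine (congrArg CommaMorphism.left h1).symm.trans ?_
      refine genEv_left φ (ω ≫ x) (pullback.fst j pr) ?_ rfl
      simp only [ω, x, j, Over.comp_left, Over.homMk_left]
      exact pullback.condition
    have : Flat pr := MorphismProperty.pullback_fst _ _ ‹Flat b›
    have hiso := isIso_image_graph j P.hom P'.hom e he pr ψ hψ hagree
    -- descend to the local ring
    have hu : ∀ r : p.asIdeal.primeCompl, IsUnit (χ r) := fun r => by
      by_contra hn
      have : (r : R) ∈ (PrimeSpectrum.comap χ (IsLocalRing.closedPoint V)).asIdeal := hn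
      rw [hcl] at this
      exact r.2 this
    let χp : Localization.AtPrime p.asIdeal →+* V := IsLocalization.lift hu
    let bp : Spec (CommRingCat.of V) ⟶ Spec (CommRingCat.of (Localization.AtPrime p.asIdeal)) :=
      Spec.map (CommRingCat.ofHom χp)
    have hbp : bp ≫ localPt R p = b := by
      simp only [bp, localPt, b, ← Spec.map_comp, ← CommRingCat.ofHom_comp]
      congr 2
      exact IsLocalization.lift_comp hu
    have hcov : ((@Surjective ⊓ @Flat ⊓ @QuasiCompact : MorphismProperty Scheme.{u})) bp := by
      have hloc : IsLocalHom χp := ⟨fun z hz => by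
        obtain ⟨r, m, rfl⟩ := IsLocalization.exists_mk'_eq p.asIdeal.primeCompl z
        refine IsLocalization.AtPrime.isUnit_mk'_iff _ p.asIdeal r m |>.mpr fun hr => ?_
        have h2 : χ r ∈ IsLocalRing.maximalIdeal V := by
          rw [← hcl] at hr; exact hr
        refine h2 ?_
        have h3 := congrArg χp (IsLocalization.mk'_spec (Localization.AtPrime p.asIdeal) r m)
        simp only [χp, map_mul, IsLocalization.lift_eq] at h3
        rw [← h3]
        exact hz.mul (hu m)⟩
      let _ : Algebra (Localization.AtPrime p.asIdeal) V := χp.toAlgebra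
      have : Module.IsTorsionFree (Localization.AtPrime p.asIdeal) V := by
        rw [Module.isTorsionFree_iff_smul_eq_zero]
        intro z v h
        rw [Algebra.smul_def, mul_eq_zero] at h
        refine h.imp_left fun h => ?_
        obtain ⟨r, m, rfl⟩ := IsLocalization.exists_mk'_eq p.asIdeal.primeCompl z
        have h3 := congrArg χp (IsLocalization.mk'_spec (Localization.AtPrime p.asIdeal) r m)
        simp only [χp, map_mul, IsLocalization.lift_eq] at h3
        rw [show IsLocalization.lift hu (IsLocalization.mk' _ r m) = 0 from h, zero_mul] at h3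
        rw [hinj (h3.symm.trans (map_zero χ).symm), IsLocalization.mk'_zero]
      have : Module.Flat (Localization.AtPrime p.asIdeal) V := by
        by_cases hp0 : p.asIdeal = ⊥
        · have : IsLocalization (nonZeroDivisors R) (Localization.AtPrime p.asIdeal) := by
            convert (inferInstance : IsLocalization p.asIdeal.primeCompl (Localization.AtPrime p.asIdeal)) using 1
            ext r; simp [hp0, mem_nonZeroDivisors_iff_ne_zero, Ideal.primeCompl]
          have := IsFractionRing.isDomain (A := R) (K := Localization.AtPrime p.asIdeal)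
          let _ := IsFractionRing.toField R (K := Localization.AtPrime p.asIdeal)
          infer_instance
        · have := IsLocalization.AtPrime.isDiscreteValuationRing_of_dedekind_domain R hp0
            (Localization.AtPrime p.asIdeal)
          infer_instance
      have hloc' : IsLocalHom (algebraMap (Localization.AtPrime p.asIdeal) V) := hloc
      have hff : Module.FaithfullyFlat (Localization.AtPrime p.asIdeal) V :=
        Module.FaithfullyFlat.of_flat_of_isLocalHom
      refine ⟨⟨⟨PrimeSpectrum.comap_surjective_of_faithfullyFlat (A := Localization.AtPrime p.asIdeal) (B := V)⟩,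
        ?_⟩, inferInstance⟩
      rw [HasRingHomProperty.Spec_iff (P := @Flat), CommRingCat.hom_ofHom]
      exact (inferInstance : Module.Flat (Localization.AtPrime p.asIdeal) V)
    -- the square over the local ring
    let pp : pullback P.hom (localPt R p) ⟶ P.left := pullback.fst P.hom (localPt R p)
    let π : pullback P.hom b ⟶ pullback P.hom (localPt R p) :=
      pullback.map _ _ _ _ (𝟙 P.left) bp (𝟙 _) (by simp) (by simp [hbp])
    have hπ : π ≫ pp = pr := by simp [π, pp, pr, pullback.map, pullback.lift_fst]
    have hπc : ((@Surjective ⊓ @Flat ⊓ @QuasiCompact : MorphismProperty Scheme.{u})) π := by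
      have hpb : IsPullback π (pullback.snd P.hom b) (pullback.snd P.hom (localPt R p)) bp := by
        refine IsPullback.of_right (h₁₂ := pp) (v₁₃ := P.hom) (h₂₂ := localPt R p) ?_ ?_
          (IsPullback.of_hasPullback _ _)
        · rw [hπ, hbp]; exact IsPullback.of_hasPullback _ _
        · simp [π, pullback.map, pullback.lift_snd]
      exact MorphismProperty.of_isPullback hpb.flip hcov
    refine MorphismProperty.of_pullback_snd_of_descendsAlong (P := MorphismProperty.isomorphisms Scheme.{u})
      (Q := @Surjective ⊓ @Flat ⊓ @QuasiCompact) (g := π) hπc ?_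
    show IsIso _
    have hpast : IsPullback (pullback.fst (pullback.snd q pp) π ≫ pullback.fst q pp)
        (pullback.snd (pullback.snd q pp) π) q pr := by
      rw [← hπ]
      exact (IsPullback.of_hasPullback _ _).paste_horiz (IsPullback.of_hasPullback _ _)
    rw [← hpast.isoPullback_hom_snd]
    have : IsIso (pullback.snd q pr) := hiso
    infer_instance
  -- the extension
  have hΓf : Γ ≫ pullback.fst P.hom P'.hom = j := pullback.lift_fst _ _ _
  have hΓs : Γ ≫ pullback.snd P.hom P'.hom = e := pullback.lift_snd _ _ _
  refine ⟨Over.homMk (inv q ≫ Γ.imageι ≫ pullback.snd P.hom P'.hom) ?_, ?_⟩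
  · rw [Category.assoc, Category.assoc, ← pullback.condition, IsIso.inv_comp_eq]
    exact (Category.assoc _ _ _).symm
  apply Over.OverMorphism.ext
  apply pullback.hom_ext
  · have h1 : Γ.toImage ≫ q = j := by simp [q, hΓf]
    simp only [Over.pullback_map_left, pullback.lift_fst]
    show pullback.fst P.hom ξ ≫ _ = e
    rw [← hΓs]
    show j ≫ inv q ≫ Γ.imageι ≫ _ = _
    rw [← h1, Category.assoc, IsIso.hom_inv_id_assoc, Scheme.Hom.toImage_imageι_assoc]
  · exact (Over.w _).trans (Over.w φ.iso.hom).symm

end Groth.Agent.Tors37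

namespace Groth.Agent.Tors37

variable {R : Type u} [CommRing R] [IsDedekindDomain R]

/-- Base change to the generic point is faithful on morphisms from flat to separated schemes. -/
theorem hom_ext_genPt {Y Z : Over (Spec (CommRingCat.of R))} [Flat Y.hom] [IsSeparated Z.hom] {f g : Y ⟶ Z}
    (h : (Over.pullback (Neron.genPt R)).map f = (Over.pullback (Neron.genPt R)).map g) : f = g := by
  have := genPt_dominant (R := R)
  refine Over.OverMorphism.ext (ext_of_schemeDominant (pullback.fst Y.hom (Neron.genPt R)) Z.hom
    ((Over.w f).trans (Over.w g).symm) ?_)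
  have := congrArg (fun k => k.left ≫ pullback.fst Z.hom (Neron.genPt R)) h
  simpa [pullback.lift_fst] using this

theorem bcMap_genPt_injective (G : Over (Spec (CommRingCat.of R))) [GrpObj G] [IsProper G.hom] [Flat G.hom] :
    ∀ P P' : NonAbH1.TorsorSch G Scheme.fppfPrecoverage,
      Nonempty (NonAbH1.EquivIso (P.act.bc (Neron.genPt R)) (P'.act.bc (Neron.genPt R))) →
      Nonempty (NonAbH1.EquivIso P.act P'.act) := by
  rintro P P' ⟨φ⟩
  obtain ⟨_, _⟩ := isProper_flat_of_isTorsorFor P.isTorsor
  obtain ⟨_, _⟩ := isProper_flat_of_isTorsorFor P'.isTorsor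
  have hcomm : (P'.act.bc (Neron.genPt R)).act ≫ φ.iso.inv =
      (Red.bc (Neron.genPt R) G ◁ φ.iso.inv) ≫ (P.act.bc (Neron.genPt R)).act := by
    rw [Iso.comp_inv_eq, Category.assoc, φ.comm, ← MonoidalCategory.whiskerLeft_comp_assoc, Iso.inv_hom_id,
      MonoidalCategory.whiskerLeft_id, Category.id_comp]
  obtain ⟨F, hF⟩ := exists_extend P.isTorsor P'.isTorsor φ
  obtain ⟨F', hF'⟩ := exists_extend P'.isTorsor P.isTorsor ⟨φ.iso.symm, hcomm⟩
  simp only [Iso.symm_hom] at hF'
  have : Flat (G ⊗ P.X).hom := inferInstanceAs (Flat (pullback.fst G.hom P.X.hom ≫ G.hom))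
  refine ⟨⟨⟨F, F', hom_ext_genPt ?_, hom_ext_genPt ?_⟩, hom_ext_genPt ?_⟩⟩
  · rw [Functor.map_comp, hF, hF', Iso.hom_inv_id, CategoryTheory.Functor.map_id]
  · rw [Functor.map_comp, hF', hF, Iso.inv_hom_id, CategoryTheory.Functor.map_id]
  · have h := φ.comm
    rw [← hF, AlgGrp.Action.bc_act, AlgGrp.Action.bc_act, Category.assoc, ← Functor.map_comp] at h
    rw [← cancel_epi (Functor.LaxMonoidal.μ (Over.pullback (Neron.genPt R)) G P.X), h,
      Functor.LaxMonoidal.μ_natural_right_assoc, ← Functor.map_comp]

end Groth.Agent.Tors37
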