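import Groth.Agent.Tors37.MultPoint
import Groth.Agent.Tors37.ProperTorsor
import Groth.Agent.Tors37.Class
import Groth.Agent.AlgGrp79.Act
import Groth.Agent.RedPts82.MultHopf
import Groth.Agent.RedPts82.EqLocus
import Groth.Agent.Sga84.TorsorExact

/-! Torsors under a group of multiplicative type over a valuation ring that agree on the generic fibre
agree. -/

set_option autoImplicit false
set_option linter.style.haveILetI false
set_option linter.unusedSectionVars false
universe u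

open CategoryTheory MonoidalCategory CartesianMonoidalCategory MonObj CategoryTheory.Limits AlgebraicGeometry
open scoped TensorProduct
open WithConv

namespace Groth.Agent.Tors37.MultTorsor

open Groth.Agent.Sga84 (actPt comp_actPt actPt_mul existsUnique_actPt)

section action

variable {S : Scheme.{u}} {G X T : Over S} [GrpObj G] {a : AlgGrp.Action G X}

theorem actPt_one (a : AlgGrp.Action G X) (x : T ⟶ X) : actPt a 1 x = x := AlgGrp79.one_act' a x

theorem actPt_cancel_left {g : T ⟶ G} {x y : T ⟶ X} (h : actPt a g x = actPt a g y) : x = y := by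
  have := congrArg (actPt a g⁻¹) h
  rwa [← actPt_mul, ← actPt_mul, inv_mul_cancel, actPt_one, actPt_one] at this

theorem actPt_cancel_right (ha : NonAbH1.IsPseudoTorsorSch a) {g g' : T ⟶ G} {x : T ⟶ X}
    (h : actPt a g x = actPt a g' x) : g = g' :=
  (existsUnique_actPt a ha x (actPt a g x)).unique rfl h.symm

end action

section generic

variable {V : Type u} [CommRing V]

theorem ptMap_comp {B C D : Type u} [CommRing B] [Algebra V B] [CommRing C] [Algebra V C] [CommRing D] [Algebra V D]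
    (φ : B →ₐ[V] C) (χ : C →ₐ[V] D) : VecGrp.ptMap χ ≫ VecGrp.ptMap φ = VecGrp.ptMap (χ.comp φ) :=
  Over.OverMorphism.ext (Spec.map_comp _ _).symm

/-- An fpqc-locally trivial scheme over an affine base has a point over a faithfully flat algebra. -/
theorem exists_ff_point {X : Over (Spec (CommRingCat.of V))}
    (h : NonAbH1.IsLocallyTrivialFor Scheme.fpqcPrecoverage X) :
    ∃ (B : Type u) (_ : CommRing B) (_ : Algebra V B),
      Module.FaithfullyFlat V B ∧ Nonempty (VecGrp.pt V B ⟶ X) := by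
  obtain ⟨W, _, w, hw, s, hs⟩ := Sga84.exists_affine_section h (U := ⊤) (isAffineOpen_top _)
  let g : Spec Γ(W, ⊤) ⟶ Spec (CommRingCat.of V) := W.isoSpec.inv ≫ w ≫ Scheme.Opens.ι _
  letI : Algebra V Γ(W, ⊤) := (Spec.preimage g).hom.toAlgebra
  have hg : Spec.map (CommRingCat.ofHom (algebraMap V Γ(W, ⊤))) = g := Spec.map_preimage _
  obtain ⟨⟨hw₁, hw₂⟩, -⟩ := hw
  have : Flat g ∧ Surjective g := by
    haveI : Flat w := hw₂
    haveI : Surjective w := hw₁
    haveI : IsIso (Scheme.Opens.ι (⊤ : (Spec (CommRingCat.of V)).Opens)) := inferInstanceAs (IsIso (Scheme.topIso _).hom)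
    exact ⟨inferInstance, inferInstance⟩
  rw [← hg] at this
  refine ⟨Γ(W, ⊤), inferInstance, inferInstance,
    RingHom.faithfullyFlat_algebraMap_iff.mp ((flat_and_surjective_SpecMap_iff _).mp this),
    ⟨Over.homMk (W.isoSpec.inv ≫ s) ?_⟩⟩
  show (W.isoSpec.inv ≫ s) ≫ X.hom = Spec.map _
  rw [hg, Category.assoc, hs]

/-- Two points of a spectrum make a point of the spectrum of the tensor product. -/
theorem exists_pair (B C : Type u) [CommRing B] [Algebra V B] [CommRing C] [Algebra V C]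
    {Z : Over (Spec (CommRingCat.of V))} (k : Z ⟶ VecGrp.pt V B) (k' : Z ⟶ VecGrp.pt V C) :
    ∃ r : Z ⟶ VecGrp.pt V (B ⊗[V] C),
      r ≫ VecGrp.ptMap (Algebra.TensorProduct.includeLeft : B →ₐ[V] B ⊗[V] C) = k ∧
        r ≫ VecGrp.ptMap (Algebra.TensorProduct.includeRight : C →ₐ[V] B ⊗[V] C) = k' := by
  have e1 : k.left ≫ Spec.map (CommRingCat.ofHom (algebraMap V B)) =
      k'.left ≫ Spec.map (CommRingCat.ofHom (algebraMap V C)) := (Over.w k).trans (Over.w k').symm
  let m := pullback.lift k.left k'.left e1 ≫ (pullbackSpecIso V B C).hom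
  have h1 : m ≫ Spec.map (CommRingCat.ofHom (Algebra.TensorProduct.includeLeft : B →ₐ[V] B ⊗[V] C).toRingHom) = k.left := by
    show (pullback.lift k.left k'.left e1 ≫ (pullbackSpecIso V B C).hom) ≫ _ = _
    rw [Category.assoc]
    erw [pullbackSpecIso_hom_fst]
    exact pullback.lift_fst _ _ _
  have h2 : m ≫ Spec.map (CommRingCat.ofHom (Algebra.TensorProduct.includeRight : C →ₐ[V] B ⊗[V] C).toRingHom) = k'.left := by
    show (pullback.lift k.left k'.left e1 ≫ (pullbackSpecIso V B C).hom) ≫ _ = _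
    rw [Category.assoc]
    erw [pullbackSpecIso_hom_snd]
    exact pullback.lift_snd _ _ _
  let r : Z ⟶ VecGrp.pt V (B ⊗[V] C) := Over.homMk m (by
    refine Eq.trans ?_ (Over.w k)
    rw [← h1, Category.assoc]
    exact congrArg (m ≫ ·) (Over.w (VecGrp.ptMap (Algebra.TensorProduct.includeLeft : B →ₐ[V] B ⊗[V] C))).symm)
  exact ⟨r, Over.OverMorphism.ext h1, Over.OverMorphism.ext h2⟩

variable [IsDomain V]

/-- The generic point. -/
noncomputable abbrev gen (V : Type u) [CommRing V] : Spec (CommRingCat.of (FractionRing V)) ⟶ Spec (CommRingCat.of V) :=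
  Spec.map (CommRingCat.ofHom (algebraMap V (FractionRing V)))

variable {M P Q : Over (Spec (CommRingCat.of V))} [GrpObj M] {a : AlgGrp.Action M P} {a' : AlgGrp.Action M Q}
  (φ : NonAbH1.EquivIso (a.bc (gen V)) (a'.bc (gen V)))

/-- The object over the generic point underlying an algebra over the fraction field. -/
noncomputable abbrev genObj (V : Type u) [CommRing V] (B : Type u) [CommRing B] [Algebra V B] :
    Over (Spec (CommRingCat.of (FractionRing V))) :=
  Over.mk (Spec.map (CommRingCat.ofHom (Algebra.TensorProduct.includeLeft :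
    FractionRing V →ₐ[V] FractionRing V ⊗[V] B).toRingHom))

/-- It is the spectrum over the base. -/
noncomputable def genIso (B : Type u) [CommRing B] [Algebra V B] :
    VecGrp.pt V (FractionRing V ⊗[V] B) ≅ (Over.map (gen V)).obj (genObj V B) :=
  Over.isoMk (Iso.refl _) (by
    show 𝟙 _ ≫ Spec.map _ ≫ Spec.map _ = Spec.map _
    rw [Category.id_comp, ← Spec.map_comp, ← CommRingCat.ofHom_comp]
    congr 2)

/-- The generic isomorphism on points. -/
noncomputable def evK (B : Type u) [CommRing B] [Algebra V B] (x : VecGrp.pt V (FractionRing V ⊗[V] B) ⟶ P) :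
    VecGrp.pt V (FractionRing V ⊗[V] B) ⟶ Q :=
  (genIso B).hom ≫ genEv φ ((genIso B).inv ≫ x)

theorem genEv_naturality {T T' : Over (Spec (CommRingCat.of (FractionRing V)))} (k : T' ⟶ T)
    (x : (Over.map (gen V)).obj T ⟶ P) :
    genEv φ ((Over.map (gen V)).map k ≫ x) = (Over.map (gen V)).map k ≫ genEv φ x := by
  rw [genEv, genEv, Adjunction.homEquiv_naturality_left, Category.assoc, Adjunction.homEquiv_naturality_left_symm]

theorem evK_act {B : Type u} [CommRing B] [Algebra V B] (g : VecGrp.pt V (FractionRing V ⊗[V] B) ⟶ M)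
    (x : VecGrp.pt V (FractionRing V ⊗[V] B) ⟶ P) :
    evK φ B (actPt a g x) = actPt a' g (evK φ B x) := by
  rw [evK, evK, comp_actPt, genEv_actPt, comp_actPt, Iso.hom_inv_id_assoc]

theorem evK_natural {B C : Type u} [CommRing B] [Algebra V B] [CommRing C] [Algebra V C] (q : B →ₐ[V] C)
    (x : VecGrp.pt V (FractionRing V ⊗[V] B) ⟶ P) :
    evK φ C (VecGrp.ptMap (Algebra.TensorProduct.map (AlgHom.id V (FractionRing V)) q) ≫ x) =
      VecGrp.ptMap (Algebra.TensorProduct.map (AlgHom.id V (FractionRing V)) q) ≫ evK φ B x := by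
  let k : genObj V C ⟶ genObj V B :=
    Over.homMk (Spec.map (CommRingCat.ofHom (Algebra.TensorProduct.map (AlgHom.id V (FractionRing V)) q).toRingHom)) (by
      show Spec.map _ ≫ Spec.map _ = Spec.map _
      rw [← Spec.map_comp, ← CommRingCat.ofHom_comp]
      congr 2
      refine RingHom.ext fun x => ?_
      show Algebra.TensorProduct.map (AlgHom.id V (FractionRing V)) q (x ⊗ₜ[V] (1 : B)) = x ⊗ₜ[V] (1 : C)
      rw [Algebra.TensorProduct.map_tmul, map_one]
      rfl)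
  have hk : (genIso C).hom ≫ (Over.map (gen V)).map k =
      VecGrp.ptMap (Algebra.TensorProduct.map (AlgHom.id V (FractionRing V)) q) ≫ (genIso B).hom :=
    Over.OverMorphism.ext (by
      show 𝟙 _ ≫ Spec.map _ = Spec.map _ ≫ 𝟙 _
      rw [Category.id_comp, Category.comp_id])
  have hk' : (genIso C).inv ≫ VecGrp.ptMap (Algebra.TensorProduct.map (AlgHom.id V (FractionRing V)) q) =
      (Over.map (gen V)).map k ≫ (genIso B).inv := by
    rw [Iso.inv_comp_eq, ← Category.assoc, hk, Category.assoc, Iso.hom_inv_id, Category.comp_id]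
  rw [evK, evK, reassoc_of% hk', genEv_naturality, ← Category.assoc, hk, Category.assoc]

end generic

set_option maxHeartbeats 800000 in
/-- Two torsors under a group of multiplicative type which are isomorphic over the generic point are isomorphic. -/
theorem equivIso_of_generic {V : Type u} [CommRing V] [IsDomain V] [ValuationRing V]
    {M : Over (Spec (CommRingCat.of V))} [GrpObj M] (hM : SGA3x.IsMultTypeFT M)
    (P Q : NonAbH1.TorsorSch M Scheme.fpqcPrecoverage)
    (φ : NonAbH1.EquivIso (P.act.bc (gen V)) (Q.act.bc (gen V))) :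
    Nonempty (NonAbH1.EquivIso P.act Q.act) := by
  classical
  -- coordinates
  have : IsAffineHom M.hom := RedPts82.isMultTypeFT_isAffineHom hM
  have : IsAffine M.left := isAffine_of_isAffineHom M.hom
  obtain ⟨A, _, _, ψ, _⟩ := RedPts82.Hopf.exists_coord M
  have hA := RedPts82.isMultType_of_isMultTypeFT_affine ψ hM
  have hft : Algebra.FiniteType V A := by
    have h1 : LocallyOfFiniteType M.hom := RedPts82.locallyOfFiniteType_of_isMultTypeFT hM
    have h2 : LocallyOfFiniteType (Spec.map (CommRingCat.ofHom (algebraMap V A))) := by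
      have e : (RedPts82.Hopf.sch ψ).hom ≫ M.hom = Spec.map (CommRingCat.ofHom (algebraMap V A)) := Over.w ψ.hom
      rw [← e]
      exact (MorphismProperty.cancel_left_of_respectsIso @LocallyOfFiniteType _ _).2 h1
    rw [HasRingHomProperty.Spec_iff (P := @LocallyOfFiniteType), CommRingCat.hom_ofHom] at h2
    exact RingHom.finiteType_algebraMap.mp h2
  have hcomm : ∀ (B : Type u) [CommRing B] [Algebra V B] (g g' : VecGrp.pt V B ⟶ M), g * g' = g' * g := by
    intro B _ _ g g'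
    obtain ⟨x, rfl⟩ := (RedPts82.Hopf.e ψ B).surjective g
    obtain ⟨x', rfl⟩ := (RedPts82.Hopf.e ψ B).surjective g'
    rw [← map_mul, ← map_mul, MultPoint.mul_comm_of_isMultType hft hA]
  -- a common cover
  obtain ⟨B₁, _, _, hB₁, ⟨p₁⟩⟩ := exists_ff_point P.isTorsor.2
  obtain ⟨B₂, _, _, hB₂, ⟨q₂⟩⟩ := exists_ff_point Q.isTorsor.2
  haveI := hB₁
  haveI := hB₂
  haveI : Module.FaithfullyFlat V (B₁ ⊗[V] B₂) := Module.FaithfullyFlat.trans V B₁ (B₁ ⊗[V] B₂)
  let W₀ := B₁ ⊗[V] B₂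
  let p : VecGrp.pt V W₀ ⟶ P.X := VecGrp.ptMap (Algebra.TensorProduct.includeLeft : B₁ →ₐ[V] W₀) ≫ p₁
  let q : VecGrp.pt V W₀ ⟶ Q.X := VecGrp.ptMap (Algebra.TensorProduct.includeRight : B₂ →ₐ[V] W₀) ≫ q₂
  -- the point on the generic fibre
  let inR : ∀ (B : Type u) [CommRing B] [Algebra V B], VecGrp.pt V (FractionRing V ⊗[V] B) ⟶ VecGrp.pt V B :=
    fun B _ _ => VecGrp.ptMap (Algebra.TensorProduct.includeRight : B →ₐ[V] FractionRing V ⊗[V] B)
  let D : ∀ {B C : Type u} [CommRing B] [Algebra V B] [CommRing C] [Algebra V C] (d : B →ₐ[V] C),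
      VecGrp.pt V (FractionRing V ⊗[V] C) ⟶ VecGrp.pt V (FractionRing V ⊗[V] B) :=
    fun {B C} _ _ _ _ d => VecGrp.ptMap (Algebra.TensorProduct.map (AlgHom.id V (FractionRing V)) d)
  have hD : ∀ {B C : Type u} [CommRing B] [Algebra V B] [CommRing C] [Algebra V C] (d : B →ₐ[V] C)
      (X : Over (Spec (CommRingCat.of V))) (x : VecGrp.pt V B ⟶ X),
      D d ≫ inR B ≫ x = inR C ≫ VecGrp.ptMap d ≫ x := by
    intro B C _ _ _ _ d X x
    rw [← Category.assoc, ← Category.assoc, ptMap_comp, ptMap_comp]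
    congr 2
  obtain ⟨m', hm', -⟩ := existsUnique_actPt Q.act Q.isTorsor.1 (inR W₀ ≫ q) (evK φ W₀ (inR W₀ ≫ p))
  let d₁ : W₀ →ₐ[V] W₀ ⊗[V] W₀ := Algebra.TensorProduct.includeLeft
  let d₂ : W₀ →ₐ[V] W₀ ⊗[V] W₀ := Algebra.TensorProduct.includeRight
  obtain ⟨t, ht, -⟩ := existsUnique_actPt P.act P.isTorsor.1 (VecGrp.ptMap d₁ ≫ p) (VecGrp.ptMap d₂ ≫ p)
  obtain ⟨s, hs, -⟩ := existsUnique_actPt Q.act Q.isTorsor.1 (VecGrp.ptMap d₁ ≫ q) (VecGrp.ptMap d₂ ≫ q)
  have hco : (D d₂ ≫ m') * (inR _ ≫ s) = (inR _ ≫ t) * (D d₁ ≫ m') := by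
    refine actPt_cancel_right (x := D d₁ ≫ inR W₀ ≫ q) Q.isTorsor.1 ?_
    have h1 : evK φ _ (D d₂ ≫ inR W₀ ≫ p) = actPt Q.act ((D d₂ ≫ m') * (inR _ ≫ s)) (D d₁ ≫ inR W₀ ≫ q) := by
      rw [evK_natural, ← hm', comp_actPt, actPt_mul, hD, hD, ← hs, comp_actPt]
    have h2 : evK φ _ (D d₂ ≫ inR W₀ ≫ p) = actPt Q.act ((inR _ ≫ t) * (D d₁ ≫ m')) (D d₁ ≫ inR W₀ ≫ q) := by
      rw [hD, ← ht, comp_actPt, ← hD, evK_act, evK_natural, ← hm', comp_actPt, actPt_mul]
    exact h1.symm.trans h2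
  obtain ⟨m, rfl⟩ := (RedPts82.Hopf.e ψ (FractionRing V ⊗[V] W₀)).surjective m'
  obtain ⟨v, rfl⟩ := (RedPts82.Hopf.e ψ (W₀ ⊗[V] W₀)).surjective t
  obtain ⟨u, rfl⟩ := (RedPts82.Hopf.e ψ (W₀ ⊗[V] W₀)).surjective s
  simp only [D, inR, RedPts82.Hopf.e_natural, ← map_mul] at hco
  obtain ⟨W, _, _, β, n, f, hW, heq⟩ := MultPoint.exists_point hft hA m.ofConv u.ofConv v.ofConv
    ((RedPts82.Hopf.e ψ _).injective hco)
  haveI := hW
  let n' := RedPts82.Hopf.e ψ W (toConv n)
  let F : ∀ (B : Type u) [CommRing B] [Algebra V B], VecGrp.pt V (FractionRing V ⊗[V] B) ⟶ M := fun B _ _ =>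
    RedPts82.Hopf.e ψ _ (toConv ((Algebra.TensorProduct.includeLeft : FractionRing V →ₐ[V] FractionRing V ⊗[V] B).comp f))
  let x₀ : VecGrp.pt V W ⟶ P.X := VecGrp.ptMap β ≫ p
  let y₀ : VecGrp.pt V W ⟶ Q.X := actPt Q.act n' (VecGrp.ptMap β ≫ q)
  have hxy : evK φ W (inR W ≫ x₀) = actPt Q.act (F W) (inR W ≫ y₀) := by
    have h1 : D β ≫ RedPts82.Hopf.e ψ _ m = F W * (inR W ≫ n') := by
      simp only [D, inR, F, n', RedPts82.Hopf.e_natural, ← map_mul]
      exact congrArg (RedPts82.Hopf.e ψ _) heq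
    rw [show inR W ≫ x₀ = D β ≫ inR W₀ ≫ p from (hD β _ p).symm, evK_natural, ← hm', comp_actPt, h1, actPt_mul,
      hD, comp_actPt]
  -- integrality of the comparison
  let e₁ : W →ₐ[V] W ⊗[V] W := Algebra.TensorProduct.includeLeft
  let e₂ : W →ₐ[V] W ⊗[V] W := Algebra.TensorProduct.includeRight
  have hDF : ∀ d : W →ₐ[V] W ⊗[V] W, D d ≫ F W = F (W ⊗[V] W) := by
    intro d
    simp only [D, F, RedPts82.Hopf.e_natural, ofConv_toConv, ← AlgHom.comp_assoc]
    congr 3
    exact AlgHom.ext fun x => by simp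
  obtain ⟨gm₀, hgm₀, -⟩ := existsUnique_actPt P.act P.isTorsor.1 (VecGrp.ptMap e₁ ≫ x₀) (VecGrp.ptMap e₂ ≫ x₀)
  obtain ⟨σ, hσ, -⟩ := existsUnique_actPt Q.act Q.isTorsor.1 (VecGrp.ptMap e₁ ≫ y₀) (VecGrp.ptMap e₂ ≫ y₀)
  have hev : ∀ d : W →ₐ[V] W ⊗[V] W, evK φ _ (inR _ ≫ VecGrp.ptMap d ≫ x₀) =
      actPt Q.act (F (W ⊗[V] W)) (inR _ ≫ VecGrp.ptMap d ≫ y₀) := by
    intro d
    rw [← hD, evK_natural, hxy, comp_actPt, hDF, hD]
  have hσgm : σ = gm₀ := by
    have h1 : inR _ ≫ σ = inR _ ≫ gm₀ := by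
      refine actPt_cancel_right (x := inR _ ≫ VecGrp.ptMap e₁ ≫ y₀) Q.isTorsor.1 (actPt_cancel_left (g := F (W ⊗[V] W)) (a := Q.act) ?_)
      rw [← comp_actPt, hσ, ← hev, ← hgm₀, comp_actPt, evK_act, hev, ← actPt_mul, ← actPt_mul, hcomm]
    obtain ⟨σ₁, rfl⟩ := (RedPts82.Hopf.e ψ _).surjective σ
    obtain ⟨gm₁, rfl⟩ := (RedPts82.Hopf.e ψ _).surjective gm₀
    simp only [inR, RedPts82.Hopf.e_natural] at h1
    have h2 := congrArg ofConv ((RedPts82.Hopf.e ψ _).injective h1)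
    simp only [ofConv_toConv] at h2
    haveI : Module.FaithfullyFlat V (W ⊗[V] W) := Module.FaithfullyFlat.trans V W (W ⊗[V] W)
    refine congrArg _ (WithConv.ofConv_injective (AlgHom.ext fun x =>
      Algebra.TensorProduct.includeRight_injective (A := FractionRing V) (B := W ⊗[V] W)
        (IsFractionRing.injective V (FractionRing V)) (DFunLike.congr_fun h2 x)))
  subst hσgm
  have hpair : ∀ (Z : Over (Spec (CommRingCat.of V))) (k k' : Z ⟶ VecGrp.pt V W) (δ : Z ⟶ M),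
      actPt P.act δ (k ≫ x₀) = k' ≫ x₀ → actPt Q.act δ (k ≫ y₀) = k' ≫ y₀ := by
    intro Z k k' δ hδ
    obtain ⟨r, hr₁, hr₂⟩ := exists_pair W W k k'
    have hx : actPt P.act (r ≫ σ) (k ≫ x₀) = k' ≫ x₀ := by
      rw [← hr₁, ← hr₂, Category.assoc, Category.assoc, ← comp_actPt]
      exact congrArg (r ≫ ·) hgm₀
    rw [actPt_cancel_right P.isTorsor.1 (hδ.trans hx.symm), ← hr₁, ← hr₂, Category.assoc, Category.assoc,
      ← comp_actPt]
    exact congrArg (r ≫ ·) hσ
  -- descent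
  have hloc : NonAbH1.IsLocallyTrivialFor Scheme.fpqcPrecoverage (VecGrp.pt V W) := by
    let w := Spec.map (CommRingCat.ofHom (algebraMap V W))
    obtain ⟨_, _⟩ : Flat w ∧ Surjective w := (flat_and_surjective_SpecMap_iff _).mpr
      (RingHom.faithfullyFlat_algebraMap_iff.mpr ‹_›)
    refine ⟨Presieve.singleton w, w.singleton_mem_fpqcPrecoverage, ?_⟩
    rintro _ _ ⟨⟩
    exact ⟨𝟙 _, Category.id_comp _⟩
  let rel : ∀ Z : Over (Spec (CommRingCat.of V)), (Z ⟶ P.X) → (Z ⟶ Q.X) → Prop := fun Z g y =>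
    ∀ (Z' : Over (Spec (CommRingCat.of V))) (l : Z' ⟶ Z) (k : Z' ⟶ VecGrp.pt V W) (gm : Z' ⟶ M),
      actPt P.act gm (k ≫ x₀) = l ≫ g → l ≫ y = actPt Q.act gm (k ≫ y₀)
  obtain ⟨F₀, hF₀⟩ := Sga84.exists_glue hloc (T := P.X) (Y := Q.X) rel
    (fun Z Z' k g y h Z'' l k' gm hh => by
      rw [← Category.assoc] at hh ⊢
      exact h Z'' (l ≫ k) k' gm hh)
    (fun Z g k₀ => by
      obtain ⟨gm, hgm, -⟩ := existsUnique_actPt P.act P.isTorsor.1 (k₀ ≫ x₀) g
      refine ⟨actPt Q.act gm (k₀ ≫ y₀), fun Z' l k gm' hgm' => ?_, fun y hy => ?_⟩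
      · obtain ⟨δ, hδ, -⟩ := existsUnique_actPt P.act P.isTorsor.1 (k ≫ x₀) ((l ≫ k₀) ≫ x₀)
        have hgm'' : gm' = (l ≫ gm) * δ := actPt_cancel_right P.isTorsor.1 (hgm'.trans (by
          rw [actPt_mul, hδ, Category.assoc, ← comp_actPt, hgm]))
        rw [hgm'', actPt_mul, hpair _ k (l ≫ k₀) δ hδ, Category.assoc, comp_actPt]
      · have := hy Z (𝟙 Z) k₀ gm (by rw [Category.id_comp, hgm])
        rwa [Category.id_comp] at this)
  have hequiv : AlgGrp.Action.IsEquivariant P.act Q.act F₀ := by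
    refine Sga84.hom_ext_of_point hloc fun Z g k => ?_
    have e : g = lift (g ≫ fst _ _) (g ≫ snd _ _) := by rw [← comp_lift, lift_fst_snd, Category.comp_id]
    rw [e, lift_whiskerLeft_assoc, ← Category.assoc]
    let h := g ≫ fst M P.X
    let x := g ≫ snd M P.X
    show actPt P.act h x ≫ F₀ = actPt Q.act h (x ≫ F₀)
    obtain ⟨gm, hgm, -⟩ := existsUnique_actPt P.act P.isTorsor.1 (k ≫ x₀) x
    have h1 := hF₀ Z x k Z (𝟙 Z) k gm (by rw [Category.id_comp, hgm])
    have h2 := hF₀ Z (actPt P.act h x) k Z (𝟙 Z) k (h * gm) (by rw [Category.id_comp, actPt_mul, hgm])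
    rw [Category.id_comp] at h1 h2
    rw [h1, h2, actPt_mul]
  have : IsIso F₀ := Groth.Agent.S18858.result P.act Q.act P.isTorsor Q.isTorsor F₀ hequiv
  exact ⟨⟨asIso F₀, hequiv⟩⟩

end Groth.Agent.Tors37.MultTorsor
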