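import Groth.Agent.Tors37.CritFun
import Groth.Agent.WC97.Dim
import Mathlib.RingTheory.Unramified.Field
import Mathlib.AlgebraicGeometry.Morphisms.Smooth
import Mathlib.AlgebraicGeometry.Noetherian

/-! Morphisms to the affine line given by a function, and their smooth loci. -/

set_option autoImplicit false
set_option linter.style.haveILetI false
universe u

open CategoryTheory AlgebraicGeometry KaehlerDifferential

namespace Groth.Agent.Tors37.CritFun

variable {k : Type u} [Field k]

/-- Membership in the smooth locus of a morphism of spectra. -/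
theorem mem_smoothLocus_spec_iff {A B : Type u} [CommRing A] [CommRing B] [Algebra A B]
    [LocallyOfFinitePresentation (Spec.map (CommRingCat.ofHom (algebraMap A B)))] (P : Spec (CommRingCat.of B)) :
    P ∈ (Spec.map (CommRingCat.ofHom (algebraMap A B))).smoothLocus ↔ Algebra.IsSmoothAt A P.asIdeal := by
  let p := P.asIdeal.comap (algebraMap A B)
  have : P.asIdeal.LiesOver p := ⟨rfl⟩
  let := Localization.AtPrime.algebraOfLiesOver p P.asIdeal
  rw [Scheme.Hom.mem_smoothLocus]
  refine Iff.trans ?_ (Algebra.FormallySmooth.iff_restrictScalars (R := A)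
    (A := Localization.AtPrime p) (B := Localization.AtPrime P.asIdeal)).symm
  rw [← RingHom.formallySmooth_algebraMap]
  exact RingHom.FormallySmooth.respectsIso.arrow_mk_iso_iff
    (Scheme.arrowStalkMapSpecIso (CommRingCat.ofHom (algebraMap A B)) P)

/-- No functional on the differentials at a smooth prime: the prime is an open point. -/
theorem isOpen_singleton_of_subsingleton {B : Type u} [CommRing B] [Algebra k B] [Algebra.FiniteType k B]
    (P : PrimeSpectrum B) [Algebra.IsSmoothAt k P.asIdeal]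
    (h : Subsingleton (Ω[B⁄k] →ₗ[B] P.asIdeal.ResidueField)) : IsOpen ({P} : Set (PrimeSpectrum B)) := by
  let p := P.asIdeal
  let T := Localization.AtPrime p
  haveI : IsNoetherianRing B := Algebra.FiniteType.isNoetherianRing k B
  haveI : Algebra.EssFiniteType k T := Algebra.EssFiniteType.comp k B T
  haveI : Module.Free T Ω[T⁄k] := Module.free_of_flat_of_isLocalRing
  haveI : Subsingleton Ω[T⁄k] := by
    let e := Module.Free.chooseBasis T Ω[T⁄k]
    suffices IsEmpty (Module.Free.ChooseBasisIndex T Ω[T⁄k]) from e.repr.toEquiv.subsingleton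
    refine ⟨fun j => ?_⟩
    let res : T →ₗ[B] p.ResidueField := (IsScalarTower.toAlgHom B T p.ResidueField).toLinearMap
    let l := res ∘ₗ (e.coord j).restrictScalars B ∘ₗ KaehlerDifferential.map k k B T
    obtain ⟨⟨w, s⟩, hw⟩ := IsLocalizedModule.surj p.primeCompl (KaehlerDifferential.map k k B T) (e j)
    have h0 : l w = 0 := by rw [Subsingleton.elim l 0]; rfl
    have h1 : l w = algebraMap B p.ResidueField s := by
      show algebraMap T p.ResidueField (e.coord j (KaehlerDifferential.map k k B T w)) = _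
      rw [← hw]
      rw [Submonoid.smul_def, ← IsScalarTower.algebraMap_smul T (s : B) (e j), map_smul, smul_eq_mul,
        Module.Basis.coord_apply, Module.Basis.repr_self, Finsupp.single_eq_same, mul_one,
        ← IsScalarTower.algebraMap_apply]
    exact s.2 (Ideal.algebraMap_residueField_eq_zero.1 (h1.symm.trans h0))
  haveI : Algebra.FormallyUnramified k T := ⟨inferInstance⟩
  haveI : Module.Finite k T := Algebra.FormallyUnramified.finite_of_free k T
  haveI : IsReduced T := Algebra.FormallyUnramified.isReduced_of_field k T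
  haveI : IsArtinianRing T := IsArtinianRing.of_finite k T
  haveI hpmax : p.IsMaximal := by
    haveI := finite_residueField_of_subsingleton p h
    haveI : Module.Finite k (B ⧸ p) := Module.Finite.of_injective (IsScalarTower.toAlgHom k (B ⧸ p) p.ResidueField).toLinearMap
      (IsFractionRing.injective (B ⧸ p) p.ResidueField)
    exact Ideal.Quotient.maximal_of_isField _
      (isField_of_isIntegral_of_isField' (R := k) (S := B ⧸ p) (Field.toIsField k))
  -- the point is also minimal
  have hmin : ∀ q : PrimeSpectrum B, q.asIdeal ≤ p → q = P := by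
    intro q hq
    refine PrimeSpectrum.ext (le_antisymm hq fun b hb => ?_)
    haveI : (IsLocalRing.maximalIdeal T).IsPrime := inferInstance
    have hnil : IsNilpotent (algebraMap B T b) := by
      have := IsArtinianRing.isNilpotent_jacobson_bot (R := T)
      obtain ⟨N, hN⟩ := this
      refine ⟨N, ?_⟩
      have hm : algebraMap B T b ∈ Ideal.jacobson (⊥ : Ideal T) := by
        rw [IsLocalRing.jacobson_eq_maximalIdeal (⊥ : Ideal T) bot_ne_top]
        exact (IsLocalization.AtPrime.to_map_mem_maximal_iff T p b).2 hb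
      have := Ideal.pow_mem_pow hm N
      rw [hN] at this
      exact this
    obtain ⟨s, hs⟩ := (IsLocalization.map_eq_zero_iff p.primeCompl T b).1 (IsReduced.eq_zero _ hnil)
    exact (q.isPrime.mem_or_mem (hs ▸ q.asIdeal.zero_mem)).resolve_left fun h1 => s.2 (hq h1)
  have hfin := minimalPrimes.finite_of_isNoetherianRing B
  have heq : ({P} : Set (PrimeSpectrum B)) =
      (⋃ Q ∈ (minimalPrimes B \ {p}), PrimeSpectrum.zeroLocus (Q : Set B))ᶜ := by
    ext q
    simp only [Set.mem_singleton_iff, Set.mem_compl_iff, Set.mem_iUnion, not_exists, Set.mem_sdiff,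
      PrimeSpectrum.mem_zeroLocus, SetLike.coe_subset_coe, and_imp]
    constructor
    · rintro rfl Q hQ hQp hle
      exact hQp (PrimeSpectrum.ext_iff.1 (hmin ⟨Q, Ideal.minimalPrimes_isPrime hQ⟩ hle))
    · intro hq
      obtain ⟨Q, hQ, hQq⟩ := Ideal.exists_minimalPrimes_le (bot_le : (⊥ : Ideal B) ≤ q.asIdeal)
      by_cases hQp : Q = p
      · exact PrimeSpectrum.ext (hpmax.eq_of_le q.isPrime.ne_top (hQp ▸ hQq)).symm
      · exact absurd hQq (hq Q hQ hQp)
  rw [heq, isOpen_compl_iff]
  exact (hfin.sdiff).isClosed_biUnion fun Q _ => PrimeSpectrum.isClosed_zeroLocus _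

variable {X : Scheme.{u}} (f : X ⟶ Spec (CommRingCat.of k)) {V : X.Opens} (hV : IsAffineOpen V)

/-- The morphism to the line given by a section. -/
noncomputable def toLine (v : Γ(X, V)) : (↑V : Scheme.{u}) ⟶ Spec (CommRingCat.of (Polynomial k)) :=
  hV.isoSpec.hom ≫ Spec.map (CommRingCat.ofHom (Polynomial.eval₂RingHom (WC97.kSec f hV) v))

lemma toLine_comp (v : Γ(X, V)) :
    toLine f hV v ≫ Spec.map (CommRingCat.ofHom (Polynomial.C : k →+* Polynomial k)) = V.ι ≫ f := by
  rw [toLine, Category.assoc, ← Spec.map_comp, ← CommRingCat.ofHom_comp]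
  have : (Polynomial.eval₂RingHom (WC97.kSec f hV) v).comp Polynomial.C = WC97.kSec f hV :=
    RingHom.ext fun r => Polynomial.eval₂_C _ _
  rw [this, show Spec.map (CommRingCat.ofHom (WC97.kSec f hV)) = hV.fromSpec ≫ f from Spec.map_preimage _,
    ← Category.assoc, IsAffineOpen.isoSpec_hom, IsAffineOpen.toSpecΓ_fromSpec]

lemma toLine_appTop (v : Γ(X, V)) :
    V.topIso.hom ((toLine f hV v).appTop ((Scheme.ΓSpecIso (CommRingCat.of (Polynomial k))).inv Polynomial.X)) = v := by
  have h1 : (Scheme.ΓSpecIso (CommRingCat.of (Polynomial k))).inv ≫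
      (Spec.map (CommRingCat.ofHom (Polynomial.eval₂RingHom (WC97.kSec f hV) v))).appTop ≫
        (hV.isoSpec.hom).appTop ≫ V.topIso.hom =
      CommRingCat.ofHom (Polynomial.eval₂RingHom (WC97.kSec f hV) v) := by
    rw [← Scheme.ΓSpecIso_inv_naturality_assoc, IsAffineOpen.isoSpec_hom, Scheme.Opens.toSpecΓ_appTop, Category.assoc]
    erw [Iso.inv_hom_id_assoc, Iso.inv_hom_id, Category.comp_id]
  have := congrArg (fun φ => φ.hom Polynomial.X) h1
  simp only [CommRingCat.hom_comp, RingHom.comp_apply, CommRingCat.hom_ofHom, Polynomial.coe_eval₂RingHom,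
    Polynomial.eval₂_X] at this
  rw [toLine, Scheme.Hom.comp_appTop]
  exact this

/-- Points of the affine open that are smooth over the field. -/
lemma isSmoothAt_primeIdealOf [LocallyOfFiniteType f] {U : X.Opens} [Smooth (U.ι ≫ f)] {y : X} (hy : y ∈ V)
    (hyU : y ∈ U) :
    letI := (WC97.kSec f hV).toAlgebra
    Algebra.IsSmoothAt k (hV.primeIdealOf ⟨y, hy⟩).asIdeal := by
  letI := (WC97.kSec f hV).toAlgebra
  have h1 : y ∈ f.smoothLocus := by
    have : (⟨y, hyU⟩ : U.toScheme) ∈ U.ι ⁻¹ᵁ f.smoothLocus := by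
      rw [Scheme.Hom.preimage_smoothLocus_eq, Scheme.Hom.smoothLocus_eq_top]; trivial
    exact this
  have hmap : hV.fromSpec ≫ f = Spec.map (CommRingCat.ofHom (algebraMap k Γ(X, V))) := (Spec.map_preimage _).symm
  haveI : LocallyOfFinitePresentation (Spec.map (CommRingCat.ofHom (algebraMap k Γ(X, V)))) := by
    rw [← hmap]; infer_instance
  rw [← mem_smoothLocus_spec_iff]
  have h2 : hV.primeIdealOf ⟨y, hy⟩ ∈ hV.fromSpec ⁻¹ᵁ f.smoothLocus := by
    show hV.fromSpec (hV.primeIdealOf ⟨y, hy⟩) ∈ f.smoothLocus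
    rw [hV.fromSpec_primeIdealOf]; exact h1
  rw [Scheme.Hom.preimage_smoothLocus_eq] at h2
  convert! h2 using 2
  exact hmap.symm

instance [LocallyOfFiniteType f] (v : Γ(X, V)) : LocallyOfFinitePresentation (toLine f hV v) := by
  haveI : LocallyOfFiniteType (toLine f hV v) := by
    have : LocallyOfFiniteType (toLine f hV v ≫ Spec.map (CommRingCat.ofHom (Polynomial.C : k →+* Polynomial k))) := by
      rw [toLine_comp]; infer_instance
    exact locallyOfFiniteType_of_comp _ (Spec.map (CommRingCat.ofHom (Polynomial.C : k →+* Polynomial k)))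
  infer_instance

/-- The morphism to the line is smooth where the differential of the section does not vanish. -/
theorem mem_smoothLocus_toLine [LocallyOfFiniteType f] {U : X.Opens} [Smooth (U.ι ≫ f)] (v : Γ(X, V)) {y : X}
    (hy : y ∈ V) (hyU : y ∈ U)
    (h : letI := (WC97.kSec f hV).toAlgebra
      ∃ l : Ω[Γ(X, V)⁄k] →ₗ[Γ(X, V)] (hV.primeIdealOf ⟨y, hy⟩).asIdeal.ResidueField, l (D k Γ(X, V) v) ≠ 0) :
    (⟨y, hy⟩ : (↑V : Scheme.{u})) ∈ (toLine f hV v).smoothLocus := by
  letI := (WC97.kSec f hV).toAlgebra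
  haveI : Algebra.FiniteType k Γ(X, V) := WC97.kSec_finiteType f hV
  obtain ⟨l, hl⟩ := h
  let φ := Polynomial.eval₂RingHom (WC97.kSec f hV) v
  letI : Algebra (Polynomial k) Γ(X, V) := φ.toAlgebra
  haveI : IsScalarTower k (Polynomial k) Γ(X, V) :=
    .of_algebraMap_eq fun r => (Polynomial.eval₂_C (WC97.kSec f hV) v).symm
  haveI := isSmoothAt_primeIdealOf f hV hy hyU
  have hX : algebraMap (Polynomial k) Γ(X, V) Polynomial.X = v := Polynomial.eval₂_X _ _
  have hsm : Algebra.IsSmoothAt (Polynomial k) (hV.primeIdealOf ⟨y, hy⟩).asIdeal :=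
    isSmoothAt_of_functional _ Polynomial.X (span_D_polynomial k) l (by rw [hX]; exact hl)
  haveI : Algebra.FiniteType (Polynomial k) Γ(X, V) := .of_restrictScalars_finiteType k _ _
  haveI : LocallyOfFinitePresentation (Spec.map (CommRingCat.ofHom (algebraMap (Polynomial k) Γ(X, V)))) := by
    haveI : Algebra.FinitePresentation (Polynomial k) Γ(X, V) := Algebra.FinitePresentation.of_finiteType.1 ‹_›
    exact (HasRingHomProperty.Spec_iff (P := @LocallyOfFinitePresentation)).2 (RingHom.finitePresentation_algebraMap.2 ‹_›)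
  rw [← mem_smoothLocus_spec_iff] at hsm
  show (⟨y, hy⟩ : (↑V : Scheme.{u})) ∈ (hV.isoSpec.hom ≫ Spec.map (CommRingCat.ofHom φ)).smoothLocus
  rw [← Scheme.Hom.preimage_smoothLocus_eq]
  exact hsm

/-- A functional on the differentials is determined by its values on generators. -/
lemma exists_generator_ne_zero {B : Type u} [CommRing B] [Algebra k B] [Algebra.FiniteType k B] {n : ℕ}
    (a : Fin n → B) (ha : Algebra.adjoin k (Set.range a) = ⊤) (p : Ideal B) [p.IsPrime]
    (h : ¬ Subsingleton (Ω[B⁄k] →ₗ[B] p.ResidueField)) :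
    ∃ (l : Ω[B⁄k] →ₗ[B] p.ResidueField) (i : Fin n), l (D k B (a i)) ≠ 0 := by
  by_contra hh
  push Not at hh
  refine h (subsingleton_of_forall_eq 0 fun l => LinearMap.ext_on (span_range_D_of_adjoin a ha) ?_)
  rintro _ ⟨i, rfl⟩
  exact hh l i

/-- Generators of the sections on an affine open. -/
lemma exists_generators [LocallyOfFiniteType f] :
    letI := (WC97.kSec f hV).toAlgebra
    ∃ (n : ℕ) (a : Fin n → Γ(X, V)), Algebra.adjoin k (Set.range a) = ⊤ := by
  letI := (WC97.kSec f hV).toAlgebra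
  haveI : Algebra.FiniteType k Γ(X, V) := WC97.kSec_finiteType f hV
  obtain ⟨s, hs⟩ := Algebra.FiniteType.out (R := k) (A := Γ(X, V))
  exact ⟨s.card, fun i => (s.equivFin.symm i : Γ(X, V)), by
    rw [← hs]; congr 1; ext z
    exact ⟨fun ⟨i, hi⟩ => hi ▸ (s.equivFin.symm i).2, fun hz => ⟨s.equivFin ⟨z, hz⟩, by simp⟩⟩⟩

lemma notMem_primeIdealOf_iff {y : X} (hy : y ∈ V) (b : Γ(X, V)) :
    b ∉ (hV.primeIdealOf ⟨y, hy⟩).asIdeal ↔ y ∈ X.basicOpen b := by
  have := SetLike.ext_iff.1 (hV.fromSpec_preimage_basicOpen b) (hV.primeIdealOf ⟨y, hy⟩)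
  refine (PrimeSpectrum.mem_basicOpen b (hV.primeIdealOf ⟨y, hy⟩)).symm.trans (this.symm.trans ?_)
  show hV.fromSpec (hV.primeIdealOf ⟨y, hy⟩) ∈ X.basicOpen b ↔ _
  rw [hV.fromSpec_primeIdealOf]

lemma topIso_homOfLE_appTop {W : X.Opens} (e : W ≤ V) (s : Γ((↑V : Scheme.{u}), ⊤)) :
    W.topIso.hom ((X.homOfLE e).appTop s) = X.presheaf.map (homOfLE e).op (V.topIso.hom s) := by
  have : (X.homOfLE e).appTop ≫ W.topIso.hom = V.topIso.hom ≫ X.presheaf.map (homOfLE e).op := by
    rw [Scheme.homOfLE_appTop, Scheme.Opens.topIso_hom, Scheme.Opens.topIso_hom]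
    erw [← X.presheaf.map_comp, ← X.presheaf.map_comp]
    rfl
  exact congrArg (fun φ => φ.hom s) this

/-- Where the differential does not vanish, the restriction of the morphism to the line is smooth. -/
theorem smooth_restrict [LocallyOfFiniteType f] (v : Γ(X, V)) {W : X.Opens} (hW : W ≤ V)
    (h : ∀ y, ∀ hy : y ∈ W, (⟨y, hW hy⟩ : (↑V : Scheme.{u})) ∈ (toLine f hV v).smoothLocus) :
    Smooth (X.homOfLE hW ≫ toLine f hV v) := by
  rw [← Scheme.Hom.smoothLocus_eq_top_iff, ← Scheme.Hom.preimage_smoothLocus_eq, eq_top_iff]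
  rintro ⟨y, hy⟩ -
  show X.homOfLE hW ⟨y, hy⟩ ∈ (toLine f hV v).smoothLocus
  convert! h y hy using 1
  refine V.ι.isOpenEmbedding.injective ?_
  rw [← Scheme.Hom.comp_apply, Scheme.homOfLE_ι]
  rfl

end Groth.Agent.Tors37.CritFun
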