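import Groth.Agent.Tors37.TwistDescend

/-! Twisted points from descents, over any base, and torsors with the same cocycle. -/

set_option autoImplicit false
universe u

open AlgebraicGeometry CategoryTheory CategoryTheory.Limits MonoidalCategory CartesianMonoidalCategory
  MonObj GrpObj

namespace Groth.Agent.Tors37

/-- Torsors with points over a cover having the same cocycle are isomorphic. -/
theorem equivIso_of_cocycle {S : Scheme.{u}} {G P X : Over S} [GrpObj G] {aP : AlgGrp.Action G P}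
    {aX : AlgGrp.Action G X} (hP : NonAbH1.IsTorsorFor Scheme.fpqcPrecoverage aP)
    (hX : NonAbH1.IsPseudoTorsorSch aX) {Q Q'' : Over S}
    (hQ : NonAbH1.IsLocallyTrivialFor Scheme.fpqcPrecoverage Q) (p p' : Q'' ⟶ Q)
    (hpairs : ∀ (Z : Over S) (m m' : Z ⟶ Q), ∃ m'' : Z ⟶ Q'', m'' ≫ p = m ∧ m'' ≫ p' = m')
    (d : Q'' ⟶ G) (y : Q ⟶ P) (x : Q ⟶ X)
    (hy : p ≫ y = Sga84.actPt aP d (p' ≫ y)) (hx : p ≫ x = Sga84.actPt aX d (p' ≫ x)) :
    Nonempty (NonAbH1.EquivIso aP aX) := by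
  let rel : ∀ Z : Over S, (Z ⟶ P) → (Z ⟶ X) → Prop := fun Z t v =>
    ∀ (Z' : Over S) (c : Z' ⟶ Z) (q : Z' ⟶ Q) (g : Z' ⟶ G),
      Sga84.actPt aP g (q ≫ y) = c ≫ t → c ≫ v = Sga84.actPt aX g (q ≫ x)
  have hnat : ∀ (Z Z' : Over S) (c : Z' ⟶ Z) (t : Z ⟶ P) (v : Z ⟶ X),
      rel Z t v → rel Z' (c ≫ t) (c ≫ v) := fun Z Z' c t v h Z'' c' q g hg => by
    rw [← Category.assoc]
    exact h Z'' (c' ≫ c) q g (by rw [Category.assoc]; exact hg)
  have huniq : ∀ (Z : Over S) (t : Z ⟶ P), (Z ⟶ Q) → ∃! v, rel Z t v := by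
    intro Z t q₀
    obtain ⟨g₀, hg₀, -⟩ := Sga84.existsUnique_actPt aP hP.1 (q₀ ≫ y) t
    refine ⟨Sga84.actPt aX g₀ (q₀ ≫ x), fun Z' c q g hg => ?_, fun v hv => ?_⟩
    · obtain ⟨m'', h1, h2⟩ := hpairs Z' (c ≫ q₀) q
      have eY : c ≫ q₀ ≫ y = Sga84.actPt aP (m'' ≫ d) (q ≫ y) := by
        rw [← Category.assoc, ← h1, Category.assoc, hy, Sga84.comp_actPt, ← Category.assoc, h2]
      have eX : c ≫ q₀ ≫ x = Sga84.actPt aX (m'' ≫ d) (q ≫ x) := by
        rw [← Category.assoc, ← h1, Category.assoc, hx, Sga84.comp_actPt, ← Category.assoc, h2]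
      have hg' : g = (c ≫ g₀) * (m'' ≫ d) :=
        (Sga84.existsUnique_actPt aP hP.1 (q ≫ y) (c ≫ t)).unique hg (by
          rw [Sga84.actPt_mul, ← eY, ← Sga84.comp_actPt, hg₀])
      rw [Sga84.comp_actPt, eX, ← Sga84.actPt_mul, hg']
    · simpa only [Category.id_comp] using hv Z (𝟙 Z) q₀ g₀ (by simpa only [Category.id_comp] using hg₀)
  obtain ⟨F, hF⟩ := Sga84.exists_glue hQ rel hnat huniq
  have hFe : AlgGrp.Action.IsEquivariant aP aX F := by
    refine Sga84.hom_ext_of_point hQ fun Z c q => ?_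
    have ht : ∀ (u : Z ⟶ P) (g : Z ⟶ G), Sga84.actPt aP g (q ≫ y) = u →
        u ≫ F = Sga84.actPt aX g (q ≫ x) := fun u g h => by
      simpa only [Category.id_comp] using hF Z u q Z (𝟙 Z) q g (by simpa only [Category.id_comp] using h)
    obtain ⟨g₀, hg₀, -⟩ := Sga84.existsUnique_actPt aP hP.1 (q ≫ y) (c ≫ snd _ _)
    have e1 : c ≫ aP.act = Sga84.actPt aP (c ≫ fst _ _) (c ≫ snd _ _) := by
      rw [Sga84.actPt, ← comp_lift_assoc, lift_fst_snd, Category.id_comp]
    have e2 : c ≫ (G ◁ F) = lift (c ≫ fst _ _) ((c ≫ snd _ _) ≫ F) :=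
      CartesianMonoidalCategory.hom_ext _ _ (by simp) (by simp)
    rw [← Category.assoc, e1, ht _ (c ≫ fst _ _ * g₀) (by rw [Sga84.actPt_mul, hg₀]), Sga84.actPt_mul,
      ← Category.assoc, e2, ht _ g₀ hg₀]
    rfl
  have := Torsor99.isIso_of_equivariant hP hX F hFe
  exact ⟨⟨asIso F, hFe⟩⟩

/-- A descent of the torsor gives a compatible point. -/
theorem exists_point_of_descent {S : Scheme.{u}} {G : Over S} [GrpObj G] {T : Scheme.{u}} {π : T ⟶ S}
    {X : Over T} {a : AlgGrp.Action (Red.bc π G) X} {Q Q'' : Over S} (p p' : Q'' ⟶ Q) (hη : Q ⟶ Q)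
    (hη'' : Q'' ⟶ Q'') (h1 : hη'' ≫ p = p ≫ hη) (h2 : hη'' ≫ p' = p' ≫ hη) (base : Q.left ⟶ T)
    (base_eq : p.left ≫ base = p'.left ≫ base) (hbπ : base ≫ π = Q.hom)
    (y : Q ⟶ (Over.map π).obj X) (y_base : y.left ≫ X.hom = hη.left ≫ base) (d : Q'' ⟶ G)
    (y_tw : p ≫ y = gact a d (p' ≫ y))
    {S' : Scheme.{u}} (j : S' ⟶ S) [Mono j] (k : Q.left ⟶ pullback π j) (hk : k ≫ pullback.fst π j = base)
    {P : Over S'} (aP : AlgGrp.Action (Red.bc j G) P)
    (e : NonAbH1.EquivIso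
      ((aP.bc (pullback.snd π j)).restrict (ActBC.bcCompIso (pullback.snd π j) j G rfl).inv)
      ((a.bc (pullback.fst π j)).restrict (ActBC.bcCompIso (pullback.fst π j) π G pullback.condition).inv)) :
    ∃ x : Q ⟶ (Over.map π).obj X, x.left ≫ X.hom = base ∧ p ≫ x = gact a d (p' ≫ x) := by
  let f1 := pullback.fst π j
  let f2 := pullback.snd π j
  have hj : k ≫ f2 ≫ j = Q.hom := by
    rw [← pullback.condition, reassoc_of% hk, hbπ]
  have hη2 : hη.left ≫ k ≫ f2 = k ≫ f2 := by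
    rw [← cancel_mono j]
    simp only [Category.assoc]
    rw [hj, Over.w]
  have hkk : p.left ≫ k = p'.left ≫ k := by
    refine pullback.hom_ext ?_ ?_
    · simp only [Category.assoc, hk]
      exact base_eq
    · rw [← cancel_mono j]
      simp only [Category.assoc]
      rw [hj, Over.w, Over.w]
  have hb0 : y.left ≫ X.hom = (hη.left ≫ k) ≫ f1 := by
    rw [Category.assoc, hk]; exact y_base
  let x0 := pullLift f1 (k := f2 ≫ j) pullback.condition y (hη.left ≫ k) hb0
  have hx0 : p ≫ x0 =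
      gact ((a.bc f1).restrict (ActBC.bcCompIso f1 π G pullback.condition).inv) d (p' ≫ x0) := by
    refine pull_ext f1 (k := f2 ≫ j) pullback.condition ?_ ?_
    · rw [gact_pullPr, Category.assoc, Category.assoc, pullLift_pullPr]
      exact y_tw
    · rw [gact_base, Over.comp_left, Over.comp_left, Category.assoc, Category.assoc, pullLift_base,
        ← Category.assoc, ← Category.assoc, ← Over.comp_left, ← Over.comp_left, ← h1, ← h2, Over.comp_left,
        Over.comp_left, Category.assoc, Category.assoc, hkk]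
  let σ : Q ⟶ (Over.map j).obj P := (x0 ≫ (Over.map (f2 ≫ j)).map e.iso.inv) ≫ pullPr f2 rfl P
  have hσ : p ≫ σ = gact aP d (p' ≫ σ) := by
    simp only [σ]
    rw [← Category.assoc p, ← Category.assoc p, hx0, gact_equivariant _ (equivIso_inv_comm e),
      gact_pullPr, Category.assoc, Category.assoc, Category.assoc]
  have hσb : σ.left ≫ P.hom = k ≫ f2 := by
    refine (pullPr_base f2 rfl (x0 ≫ (Over.map (f2 ≫ j)).map e.iso.inv)).trans ?_
    rw [Over.comp_left, Over.map_map_left, Category.assoc, Category.assoc, Over.w_assoc, ← Category.assoc,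
      pullLift_base, Category.assoc, hη2]
  let x := (pullLift f2 (k := f2 ≫ j) rfl σ k hσb ≫ (Over.map (f2 ≫ j)).map e.iso.hom) ≫
    pullPr f1 (k := f2 ≫ j) pullback.condition X
  refine ⟨x, ?_, ?_⟩
  · refine (pullPr_base f1 pullback.condition (pullLift f2 (k := f2 ≫ j) rfl σ k hσb ≫
      (Over.map (f2 ≫ j)).map e.iso.hom)).trans ?_
    rw [Over.comp_left, Over.map_map_left, Category.assoc, Category.assoc, Over.w_assoc, ← Category.assoc,
      pullLift_base, hk]
  · have hlift : p ≫ pullLift f2 (k := f2 ≫ j) rfl σ k hσb =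
        gact ((aP.bc f2).restrict (ActBC.bcCompIso f2 j G rfl).inv) d
          (p' ≫ pullLift f2 (k := f2 ≫ j) rfl σ k hσb) := by
      refine pull_ext f2 (k := f2 ≫ j) rfl ?_ ?_
      · rw [gact_pullPr, Category.assoc, Category.assoc, pullLift_pullPr]
        exact hσ
      · rw [gact_base, Over.comp_left, Over.comp_left, Category.assoc, Category.assoc, pullLift_base, hkk]
    simp only [x]
    rw [← Category.assoc p, ← Category.assoc p, hlift, gact_equivariant _ e.comm, gact_pullPr,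
      Category.assoc, Category.assoc, Category.assoc]

end Groth.Agent.Tors37
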