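import Groth.Agent.Tors37.QuillenIdeal
import Groth.Agent.Tors37.TwistPoint

/-! Torsors on an affine space over an affine scheme which descend locally descend. -/

set_option autoImplicit false
universe u

open AlgebraicGeometry CategoryTheory CategoryTheory.Limits MonoidalCategory CartesianMonoidalCategory
  MonObj GrpObj
open scoped TensorProduct

namespace Groth.Agent.Tors37

open H98QP

section Change

variable {S S₁ : Scheme.{u}} (e : S₁ ⟶ S) {G : Over S} [GrpObj G] {T : Scheme.{u}} {π : T ⟶ S} {π' : T ⟶ S₁}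
  (hπ : π' ≫ e = π) {X : Over T}

/-- A point read over the other base. -/
noncomputable def chgX {Z : Over S₁} (x : Z ⟶ (Over.map π').obj X) : (Over.map e).obj Z ⟶ (Over.map π).obj X :=
  Over.homMk x.left (by
    show x.left ≫ X.hom ≫ π = Z.hom ≫ e
    rw [← hπ]
    simp only [← Category.assoc]
    congr 1
    rw [Category.assoc]; exact Over.w x)

theorem chgX_inj {Z : Over S₁} {x y : Z ⟶ (Over.map π').obj X} (h : chgX e hπ x = chgX e hπ y) : x = y := by
  apply Over.OverMorphism.ext
  simpa [chgX] using congrArg CommaMorphism.left h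

theorem comp_chgX {Z Z' : Over S₁} (c : Z' ⟶ Z) (x : Z ⟶ (Over.map π').obj X) :
    chgX e hπ (c ≫ x) = (Over.map e).map c ≫ chgX e hπ x := Over.OverMorphism.ext rfl

/-- The action after a change of base. -/
theorem gact_chg (a : AlgGrp.Action (Red.bc π G) X) {Z : Over S₁} (g : Z ⟶ Red.bc e G)
    (x : Z ⟶ (Over.map π').obj X) :
    chgX e hπ (gact (a.restrict (ActBC.bcCompIso π' e G hπ).hom) g x) =
      gact a (((Over.mapPullbackAdj e).homEquiv Z G).symm g) (chgX e hπ x) := by
  obtain ⟨V, l, x', rfl⟩ := exists_transpose x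
  let c : (Over.map e).obj ((Over.map π').obj V) ≅ (Over.map π).obj V := Over.isoMk (Iso.refl V.left) (by
    show 𝟙 _ ≫ V.hom ≫ π = (V.hom ≫ π') ≫ e
    rw [Category.id_comp, Category.assoc, hπ])
  have hX : ∀ v : V ⟶ X, chgX e hπ (l.hom ≫ (Over.map π').map v) =
      ((Over.map e).map l.hom ≫ c.hom) ≫ (Over.map π).map v := fun v => Over.OverMorphism.ext (by
    show l.hom.left ≫ v.left = (l.hom.left ≫ 𝟙 V.left) ≫ v.left
    erw [Category.comp_id])
  have hG : ∀ ξ : (Over.map π').obj V ⟶ Red.bc e G,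
      (Over.mapPullbackAdj π').homEquiv V (Red.bc e G) ξ ≫ (ActBC.bcCompIso π' e G hπ).hom =
        (Over.mapPullbackAdj π).homEquiv V G
          (c.inv ≫ ((Over.mapPullbackAdj e).homEquiv ((Over.map π').obj V) G).symm ξ) := by
    intro ξ
    refine Over.OverMorphism.ext (pullback.hom_ext ?_ ((Over.w _).trans (Over.w _).symm))
    rw [homEquiv_fst, Over.comp_left, Category.assoc, ActBC.bcCompIso_hom_left_fst, ← Category.assoc, homEquiv_fst]
    show ξ.left ≫ pullback.fst G.hom e = 𝟙 V.left ≫ (((Over.mapPullbackAdj e).homEquiv _ G).symm ξ).left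
    rw [Category.id_comp, ← homEquiv_fst e (((Over.mapPullbackAdj e).homEquiv _ G).symm ξ), Equiv.apply_symm_apply]
  have hg : ((Over.mapPullbackAdj e).homEquiv Z G).symm g = ((Over.map e).map l.hom ≫ c.hom) ≫ c.inv ≫
      ((Over.mapPullbackAdj e).homEquiv ((Over.map π').obj V) G).symm (l.inv ≫ g) := by
    rw [Category.assoc, Iso.hom_inv_id_assoc, ← Adjunction.homEquiv_naturality_left_symm, Iso.hom_inv_id_assoc]
  conv_lhs => rw [show g = l.hom ≫ l.inv ≫ g by simp]
  rw [gact_transpose, hX, hX, hg, gact_transpose]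
  congr 2
  rw [Sga84.actPt, Sga84.actPt, AlgGrp.Action.restrict_act, lift_whiskerRight_assoc, hG]

end Change

section Section

variable {S T : Scheme.{u}} (π : T ⟶ S) (z : S ⟶ T) (hz : z ≫ π = 𝟙 S) {G : Over S} [GrpObj G]

/-- An `S`-scheme seen through the section. -/
noncomputable def secIso (V : Over S) : (Over.map π).obj ((Over.map z).obj V) ≅ V :=
  Over.isoMk (Iso.refl V.left) (by
    show 𝟙 _ ≫ V.hom = (V.hom ≫ z) ≫ π
    rw [Category.id_comp, Category.assoc, hz, Category.comp_id])

variable (G) in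
/-- A group as the pullback of its pullback along a section. -/
noncomputable def secHom : G ⟶ Red.bc z (Red.bc π G) :=
  (Over.mapPullbackAdj z).homEquiv G (Red.bc π G)
    ((Over.mapPullbackAdj π).homEquiv ((Over.map z).obj G) G (secIso π z hz G).hom)

theorem comp_secHom {V : Over S} (δ : V ⟶ G) : δ ≫ secHom π z hz G =
    (Over.mapPullbackAdj z).homEquiv V (Red.bc π G)
      ((Over.mapPullbackAdj π).homEquiv ((Over.map z).obj V) G ((secIso π z hz V).hom ≫ δ)) := by
  rw [secHom, ← Adjunction.homEquiv_naturality_left]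
  congr 1
  rw [← Adjunction.homEquiv_naturality_left]
  congr 1

theorem mul_comp_secHom {V : Over S} (δ δ' : V ⟶ G) :
    (δ * δ') ≫ secHom π z hz G = (δ ≫ secHom π z hz G) * (δ' ≫ secHom π z hz G) := by
  simp only [comp_secHom, MonObj.comp_mul, AlgGrp.Action.homEquiv_mul]

theorem isMonHom_secHom : IsMonHom (secHom π z hz G) where
  one_hom := by
    refine mul_left_cancel (a := (1 : 𝟙_ (Over S) ⟶ G) ≫ secHom π z hz G) ?_
    have h1 : (1 : 𝟙_ (Over S) ⟶ G) = η := by
      rw [Hom.one_def, toUnit_unique (toUnit _) (𝟙 _), Category.id_comp]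
    have h1' : (1 : 𝟙_ (Over S) ⟶ Red.bc z (Red.bc π G)) = η := by
      rw [Hom.one_def, toUnit_unique (toUnit _) (𝟙 _), Category.id_comp]
    rw [← h1, ← h1', ← mul_comp_secHom, _root_.one_mul, _root_.mul_one]
  mul_hom := by
    have h : μ[G] = fst G G * snd G G := by rw [Hom.mul_def, lift_fst_snd, Category.id_comp]
    rw [h, mul_comp_secHom, Hom.mul_def]
    congr 1

theorem isIso_secHom : IsIso (secHom π z hz G) := by
  let i : Red.bc z (Red.bc π G) ⟶ G := Over.homMk (pullback.fst (Red.bc π G).hom z ≫ pullback.fst G.hom π) (by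
    rw [Category.assoc, pullback.condition]
    show pullback.fst (Red.bc π G).hom z ≫ (Red.bc π G).hom ≫ π = pullback.snd (Red.bc π G).hom z
    rw [pullback.condition_assoc, hz, Category.comp_id])
  have hl : (secHom π z hz G).left ≫ pullback.fst (Red.bc π G).hom z ≫ pullback.fst G.hom π = 𝟙 _ := by
    rw [secHom, ← Category.assoc, homEquiv_fst, homEquiv_fst]
    rfl
  refine ⟨i, Over.OverMorphism.ext hl, Over.OverMorphism.ext ?_⟩
  apply pullback.hom_ext
  · apply pullback.hom_ext
    · show (((pullback.fst (Red.bc π G).hom z ≫ pullback.fst G.hom π) ≫ (secHom π z hz G).left) ≫ _) ≫ _ = _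
      simp only [Category.assoc, hl, Category.comp_id]
      exact congrArg (· ≫ pullback.fst G.hom π) (Category.id_comp _).symm
    · show ((_ ≫ (secHom π z hz G).left) ≫ pullback.fst (Red.bc π G).hom z) ≫ (Red.bc π G).hom =
        ((𝟙 _ : _ ⟶ _) ≫ pullback.fst (Red.bc π G).hom z) ≫ (Red.bc π G).hom
      simp only [Category.id_comp, Category.assoc, pullback.condition]
      have hw : (secHom π z hz G).left ≫ pullback.snd (Red.bc π G).hom z = G.hom := Over.w (secHom π z hz G)
      have hi : (pullback.fst (Red.bc π G).hom z ≫ pullback.fst G.hom π) ≫ G.hom =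
          pullback.snd (Red.bc π G).hom z := Over.w i
      rw [reassoc_of% hw]
      exact (Category.assoc _ _ _).symm.trans (congrArg (· ≫ z) (Over.w i))
  · exact (Over.w _).trans (Over.w (𝟙 _)).symm

end Section

/-- A torsor over a contractible affine base is constant if it is so over each member of an open cover. -/
theorem exists_descent_of_locally {R : Type u} [CommRing R] {S : Scheme.{u}} (e : Spec (CommRingCat.of R) ≅ S)
    {G : Over S} [GrpObj G] [LocallyOfFinitePresentation G.hom] (n : Type u) {T : Scheme.{u}} {π : T ⟶ S}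
    (σT : Spec (CommRingCat.of (MvPolynomial n R)) ≅ T)
    (hσT : σT.hom ≫ π = sm (algebraMap R (MvPolynomial n R)) ≫ e.hom)
    {X : Over T} {a : AlgGrp.Action (Red.bc π G) X} (ha : NonAbH1.IsTorsorFor Scheme.fppfPrecoverage a)
    (hloc : ∀ s : S, ∃ (U : Scheme.{u}) (j : U ⟶ S) (_ : IsOpenImmersion j), s ∈ Set.range j.base ∧
      ∃ P : NonAbH1.TorsorSch (Red.bc j G) Scheme.fppfPrecoverage,
        Nonempty (NonAbH1.EquivIso
          ((P.act.bc (pullback.snd π j)).restrict (ActBC.bcCompIso (pullback.snd π j) j G rfl).inv)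
          ((a.bc (pullback.fst π j)).restrict
            (ActBC.bcCompIso (pullback.fst π j) π G pullback.condition).inv))) :
    ∃ P : NonAbH1.TorsorSch G Scheme.fppfPrecoverage, Nonempty (NonAbH1.EquivIso (P.act.bc π) a) := by
  let π' := π ≫ e.inv
  have hπ : π' ≫ e.hom = π := by simp [π']
  have : LocallyOfFinitePresentation (Red.bc e.hom G).hom :=
    inferInstanceAs (LocallyOfFinitePresentation (pullback.snd G.hom e.hom))
  let a' := a.restrict (ActBC.bcCompIso π' e.hom G hπ).hom
  have ha' : NonAbH1.IsTorsorFor Scheme.fppfPrecoverage a' := isTorsorFor_restrict _ ha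
  obtain ⟨R', _, _, hff, ⟨D⟩⟩ := exists_datum (a := a') n ha' σT (by
    rw [← Category.assoc, hσT, Category.assoc, e.hom_inv_id, Category.comp_id])
  have := hff
  -- translation of a level
  have trans : ∀ {A A'' : Type u} [CommRing A] [CommRing A''] [Algebra R A] [Algebra R A''] (L : Lev a' A A''),
      (Over.map e.hom).map (spA L.i) ≫ chgX e.hom hπ L.y =
        gact a (((Over.mapPullbackAdj e.hom).homEquiv (pt R A'') G).symm L.d)
          ((Over.map e.hom).map (spA L.i') ≫ chgX e.hom hπ L.y) := by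
    intro A A'' _ _ _ _ L
    rw [← comp_chgX, ← comp_chgX, L.y_tw]
    exact gact_chg e.hom hπ a L.d _
  have hI : D.ideal = ⊤ := by
    by_contra hne
    obtain ⟨m, hm, hle⟩ := Ideal.exists_le_maximal _ hne
    obtain ⟨U, j, _, hs, P, ⟨φ⟩⟩ := hloc (e.hom ⟨m, hm.isPrime⟩)
    obtain ⟨_, ⟨r, rfl⟩, hr, hsub⟩ := (PrimeSpectrum.isTopologicalBasis_basic_opens (R := R)).exists_subset_of_mem_open
      (show (⟨m, hm.isPrime⟩ : PrimeSpectrum R) ∈ e.hom ⁻¹' Set.range j.base from hs)
      (e.hom.continuous.isOpen_preimage _ j.opensRange.2)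
    refine hr (hle (show r ∈ D.ideal from ?_))
    let jr := IsOpenImmersion.lift j (sm (algebraMap R (Localization.Away r)) ≫ e.hom) (by
      rintro _ ⟨w, rfl⟩
      rw [Scheme.Hom.comp_apply]
      exact hsub ((mem_range_away r _).mp ⟨w, rfl⟩))
    have hjr : jr ≫ j = sm (algebraMap R (Localization.Away r)) ≫ e.hom := IsOpenImmersion.lift_fac _ _ _
    let L := D.lev.away r
    let σ := IsLocalization.Away.lift (S := Localization.Away r) r
      (g := algebraMap R (Localization.Away (algebraMap R (MvPolynomial n R ⊗[R] R') r))) (isUnit_loc r)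
    have hbπ : L.base ≫ π = sm (algebraMap R (Localization.Away (algebraMap R (MvPolynomial n R ⊗[R] R') r))) ≫
        e.hom := by
      rw [← hπ, ← Category.assoc, D.hbπ]
    obtain ⟨x, hx, hxt⟩ := exists_point_of_descent (a := a) (G := G)
      ((Over.map e.hom).map (spA L.i)) ((Over.map e.hom).map (spA L.i')) ((Over.map e.hom).map (spA L.η))
      ((Over.map e.hom).map (spA ((ev0A _).comp L.c'')))
      (by rw [← Functor.map_comp, ← Functor.map_comp, spA_comp, spA_comp, ← L.η''_i.1])
      (by rw [← Functor.map_comp, ← Functor.map_comp, spA_comp, spA_comp, ← L.η''_i.2]) L.base L.base_eq hbπ (chgX e.hom hπ L.y)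
      L.y_base _ (trans L) j (pullback.lift (f := π) (g := j) L.base (sm σ ≫ jr) (by
        rw [hbπ, Category.assoc, hjr, ← Category.assoc, ← sm_comp, IsLocalization.Away.lift_comp]))
      (pullback.lift_fst _ _ _) P.act φ
    · let x' : pt R _ ⟶ (Over.map π').obj X := Over.homMk x.left (by
        show x.left ≫ X.hom ≫ π' = sm _
        rw [reassoc_of% hx]; exact D.hbπ r)
      refine ⟨x', hx, chgX_inj e.hom hπ ?_⟩
      rw [comp_chgX, gact_chg, comp_chgX]
      exact hxt
  obtain ⟨x, hx⟩ : D.Desc 1 := show (1 : R) ∈ D.ideal by rw [hI]; exact Submodule.mem_top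
  let Lid : D.lev.Hom D.lev :=
    { φ := AlgHom.id R _
      φ'' := AlgHom.id R _
      hi := rfl
      hi' := rfl
      hc := AlgHom.ext fun p => Polynomial.map_id
      hc'' := AlgHom.ext fun p => Polynomial.map_id
      hbase := by rw [show sm (AlgHom.id R (MvPolynomial n R ⊗[R] R')).toRingHom = 𝟙 _ from Spec.map_id _,
        Category.id_comp]
      hd := by rw [spA_id, Category.id_comp]
      hy := by rw [spA_id, Category.id_comp] }
  have hx1 := hx.map (Lid.liftAway 1 (by rw [map_one]; exact isUnit_one))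
  set x₁ := spA (Lid.liftAway 1 (by rw [map_one]; exact isUnit_one)).φ ≫ x
  let z := e.inv ≫ D.z
  have hz : z ≫ π = 𝟙 S := by
    rw [← hπ, Category.assoc, ← Category.assoc D.z, D.hz, Category.id_comp, e.inv_hom_id]
  have := isMonHom_secHom π z hz (G := G)
  have := isIso_secHom π z hz (G := G)
  let aS := (a.bc z).restrict (secHom π z hz G)
  have haS : NonAbH1.IsTorsorFor Scheme.fppfPrecoverage aS :=
    isTorsorFor_restrict _ (NonAbH1.isTorsorFor_bc _ _ ha)
  refine ⟨⟨_, aS, haS⟩, ?_⟩
  show Nonempty (NonAbH1.EquivIso (aS.bc π) a)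
  have hP : NonAbH1.IsTorsorFor Scheme.fppfPrecoverage (aS.bc π) := NonAbH1.isTorsorFor_bc _ _ haS
  let F := MvPolynomial n R ⊗[R] R'
  let Q : Over T := Over.mk D.lev.base
  let Q'' : Over T := Over.mk (sm D.lev.i.toRingHom ≫ D.lev.base)
  let p : Q'' ⟶ Q := Over.homMk (sm D.lev.i.toRingHom) rfl
  let p' : Q'' ⟶ Q := Over.homMk (sm D.lev.i'.toRingHom) D.lev.base_eq.symm
  have hbπ0 : D.lev.base ≫ π = sm (algebraMap R F) ≫ e.hom := by
    rw [← hπ, ← Category.assoc, ← hx1.base, Category.assoc (x₁.left)]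
    exact congrArg (· ≫ e.hom) (Over.w x₁)
  let c : (Over.map π).obj Q'' ≅ (Over.map e.hom).obj (pt R (F ⊗[MvPolynomial n R] F)) :=
    Over.isoMk (Iso.refl _) (by
      show 𝟙 _ ≫ sm (algebraMap R _) ≫ e.hom = (sm D.lev.i.toRingHom ≫ D.lev.base) ≫ π
      rw [Category.id_comp, Category.assoc, hbπ0, ← Category.assoc, ← sm_comp]
      exact congrArg (fun f => sm f ≫ e.hom) D.lev.i.comp_algebraMap.symm)
  let δ : (Over.map π).obj Q'' ⟶ G := c.hom ≫ ((Over.mapPullbackAdj e.hom).homEquiv _ G).symm D.lev.d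
  let yX : Q ⟶ X := Over.homMk x₁.left hx1.base
  have hQ : NonAbH1.IsLocallyTrivialFor Scheme.fpqcPrecoverage Q := by
    obtain ⟨_, _⟩ := (flat_and_surjective_SpecMap_iff
      (CommRingCat.ofHom (algebraMap (MvPolynomial n R) F))).mpr
      (RingHom.faithfullyFlat_algebraMap_iff.mpr inferInstance)
    have : Flat D.lev.base := inferInstanceAs (Flat (sm (algebraMap (MvPolynomial n R) F) ≫ D.σT.hom))
    have : Surjective D.lev.base := inferInstanceAs (Surjective (sm (algebraMap (MvPolynomial n R) F) ≫ D.σT.hom))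
    have : QuasiCompact D.lev.base :=
      inferInstanceAs (QuasiCompact (sm (algebraMap (MvPolynomial n R) F) ≫ D.σT.hom))
    refine ⟨Presieve.singleton D.lev.base, Scheme.Hom.singleton_mem_fpqcPrecoverage _, ?_⟩
    rintro _ _ ⟨⟩
    exact ⟨𝟙 _, Category.id_comp _⟩
  have hpairs : ∀ (Z : Over T) (m m' : Z ⟶ Q), ∃ m'' : Z ⟶ Q'', m'' ≫ p = m ∧ m'' ≫ p' = m' := by
    intro Z m m'
    obtain ⟨φ, hφ⟩ := exists_toSpec m.left
    obtain ⟨φ', hφ'⟩ := exists_toSpec m'.left
    have h : m.left ≫ D.lev.base = m'.left ≫ D.lev.base := (Over.w m).trans (Over.w m').symm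
    rw [hφ, hφ', show D.lev.base = sm (algebraMap (MvPolynomial n R) F) ≫ D.σT.hom from rfl, ← Category.assoc,
      ← Category.assoc, cancel_mono, Category.assoc, Category.assoc, ← sm_comp, ← sm_comp] at h
    have hE := toSpec_inj h
    have e1 : (liftBase φ φ' hE).comp D.lev.i.toRingHom = φ := RingHom.ext fun v => liftBase_left φ φ' hE v
    have e2 : (liftBase φ φ' hE).comp D.lev.i'.toRingHom = φ' := RingHom.ext fun v => liftBase_right φ φ' hE v
    refine ⟨Over.homMk (Z.left.toSpecΓ ≫ sm (liftBase φ φ' hE)) ?_, ?_, ?_⟩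
    · show _ ≫ sm D.lev.i.toRingHom ≫ D.lev.base = Z.hom
      rw [Category.assoc, ← Category.assoc (sm (liftBase φ φ' hE)), ← sm_comp, e1, ← Category.assoc, ← hφ]
      exact Over.w m
    · apply Over.OverMorphism.ext
      show (_ ≫ _) ≫ sm D.lev.i.toRingHom = _
      rw [Category.assoc, ← sm_comp, e1, hφ]
    · apply Over.OverMorphism.ext
      show (_ ≫ _) ≫ sm D.lev.i'.toRingHom = _
      rw [Category.assoc, ← sm_comp, e2, hφ']
  -- the point of the pulled back torsor
  let yt : (Over.map z).obj ((Over.map π).obj Q) ⟶ X := Over.homMk D.lev.y.left (by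
    show D.lev.y.left ≫ X.hom = (D.lev.base ≫ π) ≫ z
    rw [D.lev.y_base, hbπ0]
    simp only [z, Category.assoc, Iso.hom_inv_id_assoc]
    exact (D.hyz0).symm)
  let yP : Q ⟶ Red.bc π (Red.bc z X) :=
    (Over.mapPullbackAdj π).homEquiv Q _ ((Over.mapPullbackAdj z).homEquiv _ X yt)
  refine equivIso_of_cocycle (aP := aS.bc π) (aX := a)
    ⟨hP.1, hP.2.imp fun C hC => ⟨Scheme.fppfPrecoverage_le_fpqcPrecoverage _ hC.1, hC.2⟩⟩ ha.1 hQ p p' hpairs
    ((Over.mapPullbackAdj π).homEquiv Q'' G δ) yP yX ?_ ?_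
  · simp only [yP]
    rw [Sga84.actPt, ← Adjunction.homEquiv_naturality_left _ p, ← Adjunction.homEquiv_naturality_left _ p',
      AlgGrp.Action.lift_homEquiv_bc_act]
    congr 1
    rw [← Adjunction.homEquiv_naturality_left, ← Adjunction.homEquiv_naturality_left,
      AlgGrp.Action.restrict_act, lift_whiskerRight_assoc, comp_secHom,
      AlgGrp.Action.lift_homEquiv_bc_act]
    congr 1
    apply Over.OverMorphism.ext
    have hm : (gact a ((secIso π z hz _).hom ≫ δ)
        ((Over.map π).map ((Over.map z).map ((Over.map π).map p') ≫ yt))).left =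
        (Sga84.actPt a ((Over.mapPullbackAdj π).homEquiv _ G ((secIso π z hz _).hom ≫ δ))
          ((Over.map z).map ((Over.map π).map p') ≫ yt)).left :=
      congrArg CommaMorphism.left (gact_map a ((secIso π z hz _).hom ≫ δ)
        ((Over.map z).map ((Over.map π).map p') ≫ yt))
    refine Eq.trans ?_ hm
    let w : (Over.map π).obj ((Over.map z).obj ((Over.map π).obj Q'')) ⟶
        (Over.map e.hom).obj (pt R (F ⊗[MvPolynomial n R] F)) := (secIso π z hz _).hom ≫ c.hom
    have h' : w ≫ ((Over.map e.hom).map (spA D.lev.i') ≫ chgX e.hom hπ D.lev.y) =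
        (Over.map π).map ((Over.map z).map ((Over.map π).map p') ≫ yt) := Over.OverMorphism.ext (by
      show (𝟙 _ ≫ 𝟙 _) ≫ sm D.lev.i'.toRingHom ≫ D.lev.y.left = sm D.lev.i'.toRingHom ≫ D.lev.y.left
      simp)
    rw [← h', show (secIso π z hz _).hom ≫ δ = w ≫ _ from (Category.assoc _ _ _).symm, ← comp_gact, ← trans D.lev]
    show sm D.lev.i.toRingHom ≫ D.lev.y.left = (𝟙 _ ≫ 𝟙 _) ≫ sm D.lev.i.toRingHom ≫ D.lev.y.left
    simp
  · apply Over.OverMorphism.ext
    have hm : (gact a δ ((Over.map π).map (p' ≫ yX))).left =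
        (Sga84.actPt a ((Over.mapPullbackAdj π).homEquiv Q'' G δ) (p' ≫ yX)).left :=
      congrArg CommaMorphism.left (gact_map a δ (p' ≫ yX))
    refine Eq.trans ?_ hm
    have h' : c.hom ≫ (Over.map e.hom).map (spA D.lev.i') ≫ chgX e.hom hπ x₁ =
        (Over.map π).map (p' ≫ yX) := Over.OverMorphism.ext (by
      show 𝟙 _ ≫ sm D.lev.i'.toRingHom ≫ x₁.left = sm D.lev.i'.toRingHom ≫ x₁.left
      simp)
    rw [← h', ← comp_gact]
    have := gact_chg e.hom hπ a D.lev.d (spA D.lev.i' ≫ x₁)
    rw [← hx1.tw, comp_chgX e.hom hπ (spA D.lev.i) x₁, comp_chgX e.hom hπ (spA D.lev.i') x₁] at this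
    rw [← this]
    show sm D.lev.i.toRingHom ≫ x₁.left = 𝟙 _ ≫ sm D.lev.i.toRingHom ≫ x₁.left
    simp

end Groth.Agent.Tors37
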