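import Groth.Agent.Tors37.QuillenLevel0
import Mathlib.AlgebraicGeometry.AffineSpace

/-! The elements over which a torsor on a contractible base descends form an ideal. -/

set_option autoImplicit false
universe u

open AlgebraicGeometry CategoryTheory CategoryTheory.Limits MonoidalCategory CartesianMonoidalCategory
  MonObj GrpObj
open scoped TensorProduct

namespace Groth.Agent.Tors37

open H98QP

variable {R : Type u} [CommRing R] {G : Over (Spec (CommRingCat.of R))} [GrpObj G] {T : Scheme.{u}}
  {π : T ⟶ Spec (CommRingCat.of R)} {X : Over T} {a : AlgGrp.Action (Red.bc π G) X}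
  {E R' : Type u} [CommRing E] [Algebra R E] [CommRing R'] [Algebra R R'] (D : Datum a E R')

/-- The torsor has a twisted point over the basic open of `r`. -/
def Datum.Desc (r : R) : Prop := ∃ x, (D.lev.away r).Twisted x

theorem Datum.desc_zero : D.Desc 0 := by
  have : Subsingleton (Localization.Away (algebraMap R (E ⊗[R] R') 0)) :=
    IsLocalization.subsingleton (M := Submonoid.powers (algebraMap R (E ⊗[R] R') 0)) ⟨1, by simp⟩
  have : Subsingleton (Localization.Away (algebraMap R ((E ⊗[R] R') ⊗[E] (E ⊗[R] R')) 0)) :=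
    IsLocalization.subsingleton (M := Submonoid.powers (algebraMap R ((E ⊗[R] R') ⊗[E] (E ⊗[R] R')) 0)) ⟨1, by simp⟩
  refine ⟨(D.lev.away 0).y, ?_, Over.OverMorphism.ext ?_⟩
  · haveI : IsEmpty (pt R (Localization.Away (algebraMap R (E ⊗[R] R') 0))).left :=
      inferInstanceAs (IsEmpty (PrimeSpectrum (Localization.Away (algebraMap R (E ⊗[R] R') 0))))
    exact isInitialOfIsEmpty.hom_ext _ _
  · haveI : IsEmpty (pt R (Localization.Away (algebraMap R ((E ⊗[R] R') ⊗[E] (E ⊗[R] R')) 0))).left :=
      inferInstanceAs (IsEmpty (PrimeSpectrum (Localization.Away (algebraMap R ((E ⊗[R] R') ⊗[E] (E ⊗[R] R')) 0))))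
    exact isInitialOfIsEmpty.hom_ext _ _

theorem Datum.desc_mul {r : R} (c : R) (h : D.Desc r) : D.Desc (c * r) := by
  obtain ⟨x, hx⟩ := h
  refine ⟨_, hx.map ((D.lev.toAway (c * r)).liftAway r ?_)⟩
  refine isUnit_of_mul_isUnit_right (x := algebraMap R (Localization.Away (algebraMap R (E ⊗[R] R') (c * r))) c) ?_
  rw [← map_mul]
  exact isUnit_loc (c * r)

theorem Datum.desc_add [LocallyOfFinitePresentation G.hom] {r r' : R} (h : D.Desc r) (h' : D.Desc r') :
    D.Desc (r + r') := by
  obtain ⟨x, hx⟩ := h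
  obtain ⟨x', hx'⟩ := h'
  refine Lev.exists_twisted_of_cover D.ha (D.lev.away (r + r')) r r' 1 1 ?_
    ⟨_, hx.map (((D.lev.toAway (r + r')).comp ((D.lev.away (r + r')).toAway r)).liftAway r (isUnit_loc r))⟩
    ⟨_, hx'.map (((D.lev.toAway (r + r')).comp ((D.lev.away (r + r')).toAway r')).liftAway r' (isUnit_loc r'))⟩
  rw [_root_.one_mul, _root_.one_mul]
  exact isUnit_loc (r + r')

/-- The ideal of elements over which the torsor has a twisted point. -/
def Datum.ideal [LocallyOfFinitePresentation G.hom] : Ideal R where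
  carrier := {r | D.Desc r}
  zero_mem' := D.desc_zero
  add_mem' := D.desc_add
  smul_mem' := fun c _ h => D.desc_mul c h

theorem Datum.desc_of_descent {r : R} {S' : Scheme.{u}} (j : S' ⟶ Spec (CommRingCat.of R)) [Mono j]
    (jr : Spec (CommRingCat.of (Localization.Away r)) ⟶ S')
    (hjr : jr ≫ j = sm (algebraMap R (Localization.Away r)))
    {P : Over S'} (aP : AlgGrp.Action (Red.bc j G) P)
    (e : NonAbH1.EquivIso
      ((aP.bc (pullback.snd π j)).restrict (ActBC.bcCompIso (pullback.snd π j) j G rfl).inv)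
      ((a.bc (pullback.fst π j)).restrict (ActBC.bcCompIso (pullback.fst π j) π G pullback.condition).inv)) :
    D.Desc r := by
  let σ := IsLocalization.Away.lift (S := Localization.Away r) r
    (g := algebraMap R (Localization.Away (algebraMap R (E ⊗[R] R') r))) (isUnit_loc r)
  refine Lev.exists_twisted_of_descent (D.lev.away r) j
    (pullback.lift (D.lev.away r).base (sm σ ≫ jr) ?_) (pullback.lift_fst _ _ _) (D.hbπ r) aP e
  rw [D.hbπ, Category.assoc, hjr, ← sm_comp, IsLocalization.Away.lift_comp]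

theorem Datum.descent_of_desc [Module.FaithfullyFlat R R'] (ha : NonAbH1.IsTorsorFor Scheme.fppfPrecoverage a)
    {r : R} (h : D.Desc r) {S' : Scheme.{u}} (j : S' ⟶ Spec (CommRingCat.of R)) [Mono j]
    (jr : S' ⟶ Spec (CommRingCat.of (Localization.Away r)))
    (hjr : jr ≫ sm (algebraMap R (Localization.Away r)) = j)
    (jr' : Spec (CommRingCat.of (Localization.Away r)) ⟶ S')
    (hjr' : jr' ≫ j = sm (algebraMap R (Localization.Away r))) :
    ∃ P : NonAbH1.TorsorSch (Red.bc j G) Scheme.fppfPrecoverage,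
      Nonempty (NonAbH1.EquivIso
        ((P.act.bc (pullback.snd π j)).restrict (ActBC.bcCompIso (pullback.snd π j) j G rfl).inv)
        ((a.bc (pullback.fst π j)).restrict
          (ActBC.bcCompIso (pullback.fst π j) π G pullback.condition).inv)) := by
  obtain ⟨x, hx⟩ := h
  let σ := IsLocalization.Away.lift (S := Localization.Away r) r
    (g := algebraMap R (Localization.Away (algebraMap R (E ⊗[R] R') r))) (isUnit_loc r)
  let k := pullback.lift (f := π) (g := j) (D.lev.away r).base (sm σ ≫ jr') (by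
    rw [D.hbπ, Category.assoc, hjr', ← sm_comp, IsLocalization.Away.lift_comp])
  have hk : k ≫ pullback.fst π j = (D.lev.away r).base := pullback.lift_fst _ _ _
  exact Lev.exists_descent_of_twisted (D.lev.away r) j k ha hx hk D.z D.hz (D.hyz r)
    (D.cover r j ⟨jr, hjr⟩ k hk) fun Z m m' h => D.pairs r Z m m' (by
      rw [← hk, ← Category.assoc, ← Category.assoc, h])

/-- A locally trivial scheme over an affine base has a point over a faithfully flat algebra. -/
theorem exists_ff_section {Y : Over (Spec (CommRingCat.of R))}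
    (h : NonAbH1.IsLocallyTrivialFor Scheme.fpqcPrecoverage Y) :
    ∃ (R' : Type u) (_ : CommRing R') (_ : Algebra R R'), Module.FaithfullyFlat R R' ∧ Nonempty (pt R R' ⟶ Y) := by
  obtain ⟨W, _, w, hw, hsec⟩ := Sga84.exists_affine_section h (isAffineOpen_top _)
  obtain ⟨s, hs⟩ := hsec
  let v : Spec Γ(W, ⊤) ⟶ Spec (CommRingCat.of R) :=
    W.isoSpec.inv ≫ w ≫ Scheme.Opens.ι (⊤ : (Spec (CommRingCat.of R)).Opens)
  let φ := Spec.preimage v
  let _ : Algebra R Γ(W, ⊤) := φ.hom.toAlgebra
  have hv : Spec.map (CommRingCat.ofHom (algebraMap R Γ(W, ⊤))) = v := Spec.map_preimage v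
  refine ⟨Γ(W, ⊤), inferInstance, inferInstance, RingHom.faithfullyFlat_algebraMap_iff.mp ?_,
    ⟨Over.homMk (W.isoSpec.inv ≫ s) (by
      show (_ ≫ s) ≫ Y.hom = Spec.map _
      rw [hv, Category.assoc, hs])⟩⟩
  have hflat : Flat w := hw.1.2
  have hsurj : Surjective w := hw.1.1
  have : IsIso (Scheme.Opens.ι (⊤ : (Spec (CommRingCat.of R)).Opens)) :=
    inferInstanceAs (IsIso (Spec (CommRingCat.of R)).topIso.hom)
  refine (flat_and_surjective_SpecMap_iff (CommRingCat.ofHom (algebraMap R Γ(W, ⊤)))).mp ?_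
  rw [hv]
  exact ⟨inferInstance, inferInstance⟩

/-- The datum of a torsor over a polynomial algebra. -/
theorem exists_datum (n : Type u) {T : Scheme.{u}} {π : T ⟶ Spec (CommRingCat.of R)} {X : Over T}
    {a : AlgGrp.Action (Red.bc π G) X} (ha : NonAbH1.IsTorsorFor Scheme.fppfPrecoverage a)
    (σT : Spec (CommRingCat.of (MvPolynomial n R)) ≅ T)
    (hσT : σT.hom ≫ π = sm (algebraMap R (MvPolynomial n R))) :
    ∃ (R' : Type u) (_ : CommRing R') (_ : Algebra R R'),
      Module.FaithfullyFlat R R' ∧ Nonempty (Datum a (MvPolynomial n R) R') := by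
  let ε : MvPolynomial n R →ₐ[R] R := MvPolynomial.aeval fun _ => 0
  let cE : MvPolynomial n R →ₐ[R] Polynomial (MvPolynomial n R) :=
    MvPolynomial.aeval fun i => Polynomial.C (MvPolynomial.X i) * Polynomial.X
  let z : Spec (CommRingCat.of R) ⟶ T := sm ε.toRingHom ≫ σT.hom
  obtain ⟨R', _, _, hff, ⟨s⟩⟩ := exists_ff_section (Y := Red.bc z X) (by
    obtain ⟨C, hC, hsec⟩ := (NonAbH1.isLocallyTrivialFor_bc z _ ha.2)
    exact ⟨C, Scheme.fppfPrecoverage_le_fpqcPrecoverage _ hC, hsec⟩)
  have hz : z ≫ π = 𝟙 _ := by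
    simp only [z, Category.assoc, hσT, ← sm_comp]
    exact (congrArg sm ε.comp_algebraMap).trans (Spec.map_id _)
  refine ⟨R', ‹_›, ‹_›, hff, ⟨{
    ε := ε
    cE := cE
    cE0 := fun x => ?_
    cE1 := fun x => ?_
    σT := σT
    hσT := hσT
    y0 := Over.homMk (s.left ≫ pullback.fst X.hom z) (by
      show (s.left ≫ _) ≫ X.hom ≫ π = Spec.map _
      rw [Category.assoc, pullback.condition_assoc, hz, Category.comp_id]
      exact Over.w s)
    hy0 := by
      show (s.left ≫ _) ≫ X.hom = _
      rw [Category.assoc, pullback.condition, ← Category.assoc, show s.left ≫ pullback.snd X.hom z = _ from Over.w s]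
      show sm (algebraMap R R') ≫ sm ε.toRingHom ≫ σT.hom = _
      rw [← Category.assoc, ← sm_comp]
    ha := ha.1 }⟩⟩
  · have : ({ Polynomial.evalRingHom (0 : MvPolynomial n R) with commutes' := fun x => Polynomial.eval_C } :
        Polynomial (MvPolynomial n R) →ₐ[R] MvPolynomial n R).comp cE =
        (Algebra.ofId R (MvPolynomial n R)).comp ε :=
      MvPolynomial.algHom_ext fun i => by simp [cE, ε]
    exact DFunLike.congr_fun this x
  · have : ({ Polynomial.evalRingHom (1 : MvPolynomial n R) with commutes' := fun x => Polynomial.eval_C } :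
        Polynomial (MvPolynomial n R) →ₐ[R] MvPolynomial n R).comp cE = AlgHom.id R _ :=
      MvPolynomial.algHom_ext fun i => by simp [cE]
    exact DFunLike.congr_fun this x

end Groth.Agent.Tors37
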