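import Groth.Agent.Tors37.GlueTwoOpens
import Groth.Agent.Tors37.GAct
import Groth.Agent.Tors37.BC
import Mathlib.AlgebraicGeometry.Sites.Fpqc

/-! Gluing torsors along two opens of the base. -/

set_option autoImplicit false
universe u

open CategoryTheory CategoryTheory.Limits MonoidalCategory CartesianMonoidalCategory MonObj GrpObj AlgebraicGeometry

namespace Groth.Agent.Tors37

section

variable {T V W : Scheme.{u}} (v : V ⟶ T) (w : W ⟶ T) [IsOpenImmersion v] [IsOpenImmersion w]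
  (hcov : Set.range v ∪ Set.range w = Set.univ)

include hcov

theorem over_glue_two {M N : Over T} (fv : Over.mk (pullback.fst M.hom v ≫ M.hom) ⟶ N)
    (fw : Over.mk (pullback.fst M.hom w ≫ M.hom) ⟶ N)
    (h : ∀ (Z : Over T) (p : Z ⟶ Over.mk (pullback.fst M.hom v ≫ M.hom))
      (q : Z ⟶ Over.mk (pullback.fst M.hom w ≫ M.hom)),
      p.left ≫ pullback.fst M.hom v = q.left ≫ pullback.fst M.hom w → p ≫ fv = q ≫ fw) :
    ∃ f : M ⟶ N, Over.homMk (pullback.fst M.hom v) rfl ≫ f = fv ∧ Over.homMk (pullback.fst M.hom w) rfl ≫ f = fw := by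
  obtain ⟨f, h1, h2⟩ := exists_glue_two_hom v w hcov M.hom fv.left fw.left fun Z p q e =>
    congrArg CommaMorphism.left (h (Over.mk (p ≫ pullback.fst M.hom v ≫ M.hom)) (Over.homMk p rfl)
      (Over.homMk q (by show q ≫ pullback.fst M.hom w ≫ M.hom = _; rw [← reassoc_of% e]; rfl)) e)
  exact ⟨Over.homMk f (hom_ext_two v w hcov M.hom (by rw [reassoc_of% h1]; exact Over.w fv)
    (by rw [reassoc_of% h2]; exact Over.w fw)), Over.OverMorphism.ext h1, Over.OverMorphism.ext h2⟩

theorem over_ext_two {M N : Over T} {f f' : M ⟶ N}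
    (h₁ : Over.homMk (U := Over.mk (pullback.fst M.hom v ≫ M.hom)) (pullback.fst M.hom v) rfl ≫ f =
      Over.homMk (pullback.fst M.hom v) rfl ≫ f')
    (h₂ : Over.homMk (U := Over.mk (pullback.fst M.hom w ≫ M.hom)) (pullback.fst M.hom w) rfl ≫ f =
      Over.homMk (pullback.fst M.hom w) rfl ≫ f') : f = f' :=
  Over.OverMorphism.ext (hom_ext_two v w hcov M.hom (congrArg CommaMorphism.left h₁) (congrArg CommaMorphism.left h₂))

end

/-- A pseudo-torsor from uniqueness of the translation. -/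
theorem isPseudoTorsorSch_of_existsUnique_glue {S : Scheme.{u}} {G X : Over S} [GrpObj G] (a : AlgGrp.Action G X)
    (h : ∀ (Z : Over S) (x x' : Z ⟶ X), ∃! g : Z ⟶ G, Sga84.actPt a g x = x') :
    NonAbH1.IsPseudoTorsorSch a := by
  obtain ⟨g₀, hg₀, -⟩ := h (X ⊗ X) (snd X X) (fst X X)
  show IsIso (lift a.act (snd G X))
  refine ⟨lift g₀ (snd X X), ?_, ?_⟩
  · refine CartesianMonoidalCategory.hom_ext _ _ ?_ ?_
    · rw [Category.assoc, lift_fst, Category.id_comp]
      refine (h (G ⊗ X) (snd G X) a.act).unique ?_ ?_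
      · have := congrArg (lift a.act (snd G X) ≫ ·) hg₀
        simp only [Sga84.comp_actPt, lift_fst, lift_snd] at this
        exact this
      · rw [Sga84.actPt, lift_fst_snd, Category.id_comp]
    · rw [Category.assoc, lift_snd, lift_snd, Category.id_comp]
  · refine CartesianMonoidalCategory.hom_ext _ _ ?_ ?_
    · rw [Category.assoc, lift_fst, Category.id_comp]
      exact hg₀
    · rw [Category.assoc, lift_snd, lift_snd, Category.id_comp]

set_option maxHeartbeats 1600000 in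
/-- Torsors on two opens, isomorphic on the overlap, glue. -/
theorem exists_glue_torsor {T V W : Scheme.{u}} (v : V ⟶ T) (w : W ⟶ T) [IsOpenImmersion v] [IsOpenImmersion w]
    (hcov : Set.range v ∪ Set.range w = Set.univ) {H : Over T} [GrpObj H]
    {A : Over V} (aA : AlgGrp.Action (Red.bc v H) A) (hA : NonAbH1.IsTorsorFor Scheme.fppfPrecoverage aA)
    {B : Over W} (aB : AlgGrp.Action (Red.bc w H) B) (hB : NonAbH1.IsTorsorFor Scheme.fppfPrecoverage aB)
    (e : NonAbH1.EquivIso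
      ((aA.bc (pullback.fst v w)).restrict (ActBC.bcCompIso (pullback.fst v w) v H rfl).inv)
      ((aB.bc (pullback.snd v w)).restrict (ActBC.bcCompIso (pullback.snd v w) w H pullback.condition.symm).inv)) :
    ∃ (Y : NonAbH1.TorsorSch H Scheme.fppfPrecoverage) (i : (Over.map v).obj A ⟶ Y.X)
      (_ : (Over.map w).obj B ⟶ Y.X),
      ∀ (Z : Over T) (y : Z ⟶ Y.X) (c : Z.left ⟶ V), c ≫ v = Z.hom →
        ∃ x : Z ⟶ (Over.map v).obj A, x ≫ i = y := by
  let o := pullback.fst v w ≫ v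
  let pa := pullback.fst v w
  let pb := pullback.snd v w
  let el : pullback A.hom pa ≅ pullback B.hom pb := (Over.forget _).mapIso e.iso
  obtain ⟨P, p, i₀, j₀, hi₀, hj₀, hip, hjp, hsq, hVi, hWj⟩ :=
    exists_glue_schemes v w hcov A.hom B.hom el (Over.w e.iso.hom)
  let Y : Over T := Over.mk p
  let i : (Over.map v).obj A ⟶ Y := Over.homMk i₀ hip
  let j : (Over.map w).obj B ⟶ Y := Over.homMk j₀ hjp
  haveI : Mono i₀ := inferInstance
  haveI : Mono j₀ := inferInstance
  have imono : ∀ {Z : Over T} {x x' : Z ⟶ (Over.map v).obj A}, x ≫ i = x' ≫ i → x = x' := fun h =>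
    Over.OverMorphism.ext ((cancel_mono i₀).mp (congrArg CommaMorphism.left h))
  have jmono : ∀ {Z : Over T} {x x' : Z ⟶ (Over.map w).obj B}, x ≫ j = x' ≫ j → x = x' := fun h =>
    Over.OverMorphism.ext ((cancel_mono j₀).mp (congrArg CommaMorphism.left h))
  have ifac : ∀ (Z : Over T) (y : Z ⟶ Y) (c : Z.left ⟶ V), c ≫ v = Z.hom →
      ∃ x : Z ⟶ (Over.map v).obj A, x ≫ i = y := fun Z y c hc => by
    obtain ⟨x, hx⟩ := exists_factor_of_range v p i₀ hVi y.left c (hc.trans (Over.w y).symm)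
    exact ⟨Over.homMk x (by
      show x ≫ A.hom ≫ v = Z.hom
      rw [← hip, reassoc_of% hx]; exact Over.w y), Over.OverMorphism.ext hx⟩
  have jfac : ∀ (Z : Over T) (y : Z ⟶ Y) (c : Z.left ⟶ W), c ≫ w = Z.hom →
      ∃ x : Z ⟶ (Over.map w).obj B, x ≫ j = y := fun Z y c hc => by
    obtain ⟨x, hx⟩ := exists_factor_of_range w p j₀ hWj y.left c (hc.trans (Over.w y).symm)
    exact ⟨Over.homMk x (by
      show x ≫ B.hom ≫ w = Z.hom
      rw [← hjp, reassoc_of% hx]; exact Over.w y), Over.OverMorphism.ext hx⟩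
  have compat : ∀ {Z : Over T} (g : Z ⟶ H) (x : Z ⟶ (Over.map v).obj A) (x' : Z ⟶ (Over.map w).obj B),
      x ≫ i = x' ≫ j → gact aA g x ≫ i = gact aB g x' ≫ j := by
    intro Z g x x' h
    let b : Z.left ⟶ pullback v w := pullback.lift (x.left ≫ A.hom) (x'.left ≫ B.hom) (by
      rw [Category.assoc, Category.assoc]
      exact (Over.w x).trans (Over.w x').symm)
    let ζ := pullLift pa (k := o) rfl x b (pullback.lift_fst _ _ _).symm
    have hsq' : ∀ ξ : Z ⟶ (Over.map o).obj (Red.bc pa A), ξ ≫ pullPr pa rfl A ≫ i =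
        ξ ≫ (Over.map o).map e.iso.hom ≫ pullPr pb pullback.condition.symm B ≫ j := fun ξ =>
      congrArg (ξ ≫ ·) (Over.OverMorphism.ext hsq)
    have hx' : (ζ ≫ (Over.map o).map e.iso.hom) ≫ pullPr pb pullback.condition.symm B = x' := jmono (by
      simp only [Category.assoc, ← hsq']
      rw [← Category.assoc, pullLift_pullPr, h])
    conv_lhs => rw [← pullLift_pullPr pa (k := o) rfl x b (pullback.lift_fst _ _ _).symm, ← gact_pullPr,
      Category.assoc, hsq']
    rw [← Category.assoc, gact_equivariant _ e.comm, ← Category.assoc, gact_pullPr, hx']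
  let M := H ⊗ Y
  let kv : Over.mk (pullback.fst M.hom v ≫ M.hom) ⟶ M := Over.homMk (pullback.fst M.hom v) rfl
  let kw : Over.mk (pullback.fst M.hom w ≫ M.hom) ⟶ M := Over.homMk (pullback.fst M.hom w) rfl
  obtain ⟨xv, hxv⟩ := ifac _ (kv ≫ snd H Y) (pullback.snd M.hom v) pullback.condition.symm
  obtain ⟨xw, hxw⟩ := jfac _ (kw ≫ snd H Y) (pullback.snd M.hom w) pullback.condition.symm
  obtain ⟨act, hactv, hactw⟩ := over_glue_two v w hcov (M := M) (N := Y) (gact aA (kv ≫ fst H Y) xv ≫ i)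
    (gact aB (kw ≫ fst H Y) xw ≫ j) fun Z c d hcd => by
      have hk : c ≫ kv = d ≫ kw := Over.OverMorphism.ext hcd
      rw [← Category.assoc, ← Category.assoc, comp_gact, comp_gact, ← Category.assoc c, hk, Category.assoc d]
      exact compat _ _ _ (by rw [Category.assoc, Category.assoc, hxv, hxw, ← Category.assoc, hk, Category.assoc])
  have hi : ∀ {Z : Over T} (g : Z ⟶ H) (x : Z ⟶ (Over.map v).obj A), lift g (x ≫ i) ≫ act = gact aA g x ≫ i := by
    intro Z g x
    have hb : (lift g (x ≫ i)).left ≫ M.hom = (x.left ≫ A.hom) ≫ v := by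
      rw [Over.w (lift g (x ≫ i)), Category.assoc]; exact (Over.w x).symm
    let c : Z ⟶ Over.mk (pullback.fst M.hom v ≫ M.hom) := Over.homMk (pullback.lift _ _ hb) (by
      show pullback.lift _ _ hb ≫ pullback.fst M.hom v ≫ M.hom = Z.hom
      rw [pullback.lift_fst_assoc]; exact Over.w (lift g (x ≫ i)))
    have hc : c ≫ kv = lift g (x ≫ i) := Over.OverMorphism.ext (pullback.lift_fst _ _ _)
    have hx : c ≫ xv = x := imono (by rw [Category.assoc, hxv, ← Category.assoc, hc, lift_snd])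
    rw [← hc, Category.assoc, hactv, ← Category.assoc, comp_gact, hx, ← Category.assoc, hc, lift_fst]
  have hj : ∀ {Z : Over T} (g : Z ⟶ H) (x : Z ⟶ (Over.map w).obj B), lift g (x ≫ j) ≫ act = gact aB g x ≫ j := by
    intro Z g x
    have hb : (lift g (x ≫ j)).left ≫ M.hom = (x.left ≫ B.hom) ≫ w := by
      rw [Over.w (lift g (x ≫ j)), Category.assoc]; exact (Over.w x).symm
    let c : Z ⟶ Over.mk (pullback.fst M.hom w ≫ M.hom) := Over.homMk (pullback.lift _ _ hb) (by
      show pullback.lift _ _ hb ≫ pullback.fst M.hom w ≫ M.hom = Z.hom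
      rw [pullback.lift_fst_assoc]; exact Over.w (lift g (x ≫ j)))
    have hc : c ≫ kw = lift g (x ≫ j) := Over.OverMorphism.ext (pullback.lift_fst _ _ _)
    have hx : c ≫ xw = x := jmono (by rw [Category.assoc, hxw, ← Category.assoc, hc, lift_snd])
    rw [← hc, Category.assoc, hactw, ← Category.assoc, comp_gact, hx, ← Category.assoc, hc, lift_fst]
  have ext2 : ∀ {N Z : Over T} (y : Z ⟶ Y) (f f' : Z ⟶ N),
      (∀ (Z' : Over T) (c : Z' ⟶ Z) (x : Z' ⟶ (Over.map v).obj A), x ≫ i = c ≫ y → c ≫ f = c ≫ f') →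
      (∀ (Z' : Over T) (c : Z' ⟶ Z) (x : Z' ⟶ (Over.map w).obj B), x ≫ j = c ≫ y → c ≫ f = c ≫ f') →
      f = f' := by
    intro N Z y f f' h1 h2
    refine over_ext_two v w hcov ?_ ?_
    · let c : Over.mk (pullback.fst Z.hom v ≫ Z.hom) ⟶ Z := Over.homMk (pullback.fst Z.hom v) rfl
      obtain ⟨x, hx⟩ := ifac _ (c ≫ y) (pullback.snd Z.hom v) pullback.condition.symm
      exact h1 _ c x hx
    · let c : Over.mk (pullback.fst Z.hom w ≫ Z.hom) ⟶ Z := Over.homMk (pullback.fst Z.hom w) rfl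
      obtain ⟨x, hx⟩ := jfac _ (c ≫ y) (pullback.snd Z.hom w) pullback.condition.symm
      exact h2 _ c x hx
  let aY : AlgGrp.Action H Y :=
    { act := act
      one_act := by
        refine ext2 (λ_ Y).hom _ _ (fun Z c x hx => ?_) fun Z c x hx => ?_
        · have : c ≫ (η ▷ Y) = lift (1 : Z ⟶ H) (x ≫ i) :=
            CartesianMonoidalCategory.hom_ext _ _
              (by rw [lift_fst, Category.assoc, whiskerRight_fst, ← Category.assoc, Hom.one_def,
                toUnit_unique (c ≫ fst _ _) (toUnit Z)])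
              (by rw [lift_snd, Category.assoc, whiskerRight_snd, hx, leftUnitor_hom])
          rw [← Category.assoc, this, hi, gact_one, hx]
        · have : c ≫ (η ▷ Y) = lift (1 : Z ⟶ H) (x ≫ j) :=
            CartesianMonoidalCategory.hom_ext _ _
              (by rw [lift_fst, Category.assoc, whiskerRight_fst, ← Category.assoc, Hom.one_def,
                toUnit_unique (c ≫ fst _ _) (toUnit Z)])
              (by rw [lift_snd, Category.assoc, whiskerRight_snd, hx, leftUnitor_hom])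
          rw [← Category.assoc, this, hj, gact_one, hx]
      mul_act := by
        refine ext2 (snd (H ⊗ H) Y) _ _ (fun Z c x hx => ?_) fun Z c x hx => ?_
        · have hc : c = lift (lift (c ≫ fst _ _ ≫ fst _ _) (c ≫ fst _ _ ≫ snd _ _)) (x ≫ i) :=
            CartesianMonoidalCategory.hom_ext _ _ (CartesianMonoidalCategory.hom_ext _ _ (by simp) (by simp))
              (by rw [lift_snd, hx])
          rw [hc, lift_whiskerRight_assoc, lift_lift_associator_hom_assoc, lift_whiskerLeft_assoc, ← Hom.mul_def,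
            hi, hi, hi, gact_mul]
        · have hc : c = lift (lift (c ≫ fst _ _ ≫ fst _ _) (c ≫ fst _ _ ≫ snd _ _)) (x ≫ j) :=
            CartesianMonoidalCategory.hom_ext _ _ (CartesianMonoidalCategory.hom_ext _ _ (by simp) (by simp))
              (by rw [lift_snd, hx])
          rw [hc, lift_whiskerRight_assoc, lift_lift_associator_hom_assoc, lift_whiskerLeft_assoc, ← Hom.mul_def,
            hj, hj, hj, gact_mul] }
  have hps : NonAbH1.IsPseudoTorsorSch aY := by
    refine isPseudoTorsorSch_of_existsUnique_glue aY fun Z y y' => ?_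
    have huA : ∀ {Z' : Over T} (c : Z' ⟶ Z) (x x' : Z' ⟶ (Over.map v).obj A), x ≫ i = c ≫ y → x' ≫ i = c ≫ y' →
        ∃! g : Z' ⟶ H, Sga84.actPt aY g (c ≫ y) = c ≫ y' := by
      intro Z' c x x' hx hx'
      obtain ⟨g, hg, hu⟩ := existsUnique_gact aA hA.1 x x' ((cancel_mono v).mp (by
        rw [Category.assoc, Category.assoc]; exact (Over.w x).trans (Over.w x').symm))
      refine ⟨g, ?_, fun g' hg' => hu g' (imono ?_)⟩
      · show lift g (c ≫ y) ≫ act = _
        rw [← hx, hi, hg, hx']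
      · rw [← hi, hx, hx']; exact hg'
    have huB : ∀ {Z' : Over T} (c : Z' ⟶ Z) (x x' : Z' ⟶ (Over.map w).obj B), x ≫ j = c ≫ y → x' ≫ j = c ≫ y' →
        ∃! g : Z' ⟶ H, Sga84.actPt aY g (c ≫ y) = c ≫ y' := by
      intro Z' c x x' hx hx'
      obtain ⟨g, hg, hu⟩ := existsUnique_gact aB hB.1 x x' ((cancel_mono w).mp (by
        rw [Category.assoc, Category.assoc]; exact (Over.w x).trans (Over.w x').symm))
      refine ⟨g, ?_, fun g' hg' => hu g' (jmono ?_)⟩
      · show lift g (c ≫ y) ≫ act = _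
        rw [← hx, hj, hg, hx']
      · rw [← hj, hx, hx']; exact hg'
    have hpv : ∀ {Z' : Over T} (c : Z' ⟶ Z) (d : Z'.left ⟶ V), d ≫ v = Z'.hom →
        ∃! g : Z' ⟶ H, Sga84.actPt aY g (c ≫ y) = c ≫ y' := fun c d hd => by
      obtain ⟨x, hx⟩ := ifac _ (c ≫ y) d hd
      obtain ⟨x', hx'⟩ := ifac _ (c ≫ y') d hd
      exact huA c x x' hx hx'
    have hpw : ∀ {Z' : Over T} (c : Z' ⟶ Z) (d : Z'.left ⟶ W), d ≫ w = Z'.hom →
        ∃! g : Z' ⟶ H, Sga84.actPt aY g (c ≫ y) = c ≫ y' := fun c d hd => by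
      obtain ⟨x, hx⟩ := jfac _ (c ≫ y) d hd
      obtain ⟨x', hx'⟩ := jfac _ (c ≫ y') d hd
      exact huB c x x' hx hx'
    let cv : Over.mk (pullback.fst Z.hom v ≫ Z.hom) ⟶ Z := Over.homMk (pullback.fst Z.hom v) rfl
    let cw : Over.mk (pullback.fst Z.hom w ≫ Z.hom) ⟶ Z := Over.homMk (pullback.fst Z.hom w) rfl
    obtain ⟨gv, hgv, huv⟩ := hpv cv (pullback.snd Z.hom v) pullback.condition.symm
    obtain ⟨gw, hgw, huw⟩ := hpw cw (pullback.snd Z.hom w) pullback.condition.symm
    obtain ⟨g, h1, h2⟩ := over_glue_two v w hcov (M := Z) (N := H) gv gw fun Z' c d hcd => by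
      have hk : c ≫ cv = d ≫ cw := Over.OverMorphism.ext hcd
      refine (hpv (c ≫ cv) (c.left ≫ pullback.snd Z.hom v) ?_).unique ?_ ?_
      · rw [Category.assoc, ← pullback.condition]; exact Over.w c
      · rw [Category.assoc, Category.assoc, ← Sga84.comp_actPt, hgv]
      · rw [hk, Category.assoc, Category.assoc, ← Sga84.comp_actPt, hgw]
    refine ⟨g, over_ext_two v w hcov ?_ ?_, fun g' hg' => over_ext_two v w hcov ?_ ?_⟩
    · rw [Sga84.comp_actPt, h1]; exact hgv
    · rw [Sga84.comp_actPt, h2]; exact hgw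
    · exact (huv _ (by
        show Sga84.actPt aY _ _ = _
        rw [← Sga84.comp_actPt, hg'])).trans h1.symm
    · exact (huw _ (by
        show Sga84.actPt aY _ _ = _
        rw [← Sga84.comp_actPt, hg'])).trans h2.symm
  have hloc : NonAbH1.IsLocallyTrivialFor Scheme.fppfPrecoverage Y := by
    obtain ⟨RA, hRA, hsA⟩ := hA.2
    obtain ⟨RB, hRB, hsB⟩ := hB.2
    let 𝒰 := twoOpenCover v w hcov
    let R : ∀ b : 𝒰.I₀, Presieve (𝒰.X b) := fun b => match b with | ⟨true⟩ => RA | ⟨false⟩ => RB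
    have hR : ∀ b, Presieve.ofArrows (fun s : { q : Σ Z, Z ⟶ 𝒰.X b // R b q.2 } => s.1.1) (fun s => s.1.2) ∈
        Scheme.fppfPrecoverage (𝒰.X b) := by
      intro b
      have e1 : Presieve.ofArrows (fun s : { q : Σ Z, Z ⟶ 𝒰.X b // R b q.2 } => s.1.1) (fun s => s.1.2) = R b :=
        le_antisymm (fun Z f ⟨s⟩ => s.2) fun Z f hf =>
          Presieve.ofArrows.mk (⟨⟨Z, f⟩, hf⟩ : { q : Σ Z, Z ⟶ 𝒰.X b // R b q.2 })
      rw [e1]
      rcases b with ⟨_ | _⟩
      · exact hRB
      · exact hRA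
    refine ⟨_, Precoverage.comp_mem_coverings 𝒰.f
      (Scheme.zariskiPrecoverage_le_fppfPrecoverage _ 𝒰.mem₀) _ hR, ?_⟩
    rintro _ _ ⟨⟨b, ⟨⟨Z, f⟩, hf⟩⟩⟩
    rcases b with ⟨_ | _⟩
    · obtain ⟨s, hs⟩ := hsB f hf
      exact ⟨s ≫ j₀, by rw [Category.assoc]; show s ≫ j₀ ≫ p = f ≫ w; rw [hjp, reassoc_of% hs]; rfl⟩
    · obtain ⟨s, hs⟩ := hsA f hf
      exact ⟨s ≫ i₀, by rw [Category.assoc]; show s ≫ i₀ ≫ p = f ≫ v; rw [hip, reassoc_of% hs]; rfl⟩
  exact ⟨⟨Y, aY, hps, hloc⟩, i, j, ifac⟩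

end Groth.Agent.Tors37
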