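import Groth.Agent.Tors37.QuillenSection
import Groth.Agent.Tors37.GlueTwoTorsor
import Groth.Agent.Tors37.TwistPoint
import Mathlib.Algebra.Polynomial.Reverse
import Mathlib.RingTheory.Polynomial.Quotient
import Mathlib.RingTheory.IntegralClosure.IsIntegralClosure.Basic

/-! Torsors over the affine line trivial away from a finite closed subscheme: from local rings to the ring. -/

set_option autoImplicit false
universe u

open AlgebraicGeometry CategoryTheory CategoryTheory.Limits MonoidalCategory CartesianMonoidalCategory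
  MonObj GrpObj

namespace Groth.Agent.Tors37

open H98QP

variable {R : Type u} [CommRing R]

theorem exists_monic_mem (I : Ideal (Polynomial R)) (hI : Module.Finite R (Polynomial R ⧸ I)) :
    ∃ f ∈ I, f.Monic := by
  obtain ⟨f, hf, he⟩ := IsIntegral.of_finite R (Ideal.Quotient.mkₐ R I Polynomial.X)
  refine ⟨f, ?_, hf⟩
  rw [← Ideal.Quotient.eq_zero_iff_mem, ← Ideal.Quotient.mkₐ_eq_mk R, ← Polynomial.aeval_X_left_apply f,
    ← Polynomial.aeval_algHom_apply]
  exact he

/-- The contraction of the affine line to a point `c`. -/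
noncomputable def lineCE (c : R) : Polynomial R →ₐ[R] Polynomial (Polynomial R) :=
  Polynomial.aeval (Polynomial.C (Polynomial.C c) +
    Polynomial.X * Polynomial.C (Polynomial.X - Polynomial.C c))

theorem lineCE_zero (c : R) (x : Polynomial R) :
    (lineCE c x).eval 0 = algebraMap R (Polynomial R) (Polynomial.aeval c x) := by
  have : ({ Polynomial.evalRingHom (0 : Polynomial R) with commutes' := fun x => Polynomial.eval_C } :
      Polynomial (Polynomial R) →ₐ[R] Polynomial R).comp (lineCE c) =
      (Algebra.ofId R (Polynomial R)).comp (Polynomial.aeval c) :=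
    Polynomial.algHom_ext (by simp [lineCE])
  exact DFunLike.congr_fun this x

theorem lineCE_one (c : R) (x : Polynomial R) : (lineCE c x).eval 1 = x := by
  have : ({ Polynomial.evalRingHom (1 : Polynomial R) with commutes' := fun x => Polynomial.eval_C } :
      Polynomial (Polynomial R) →ₐ[R] Polynomial R).comp (lineCE c) = AlgHom.id R _ :=
    Polynomial.algHom_ext (by simp [lineCE])
  exact DFunLike.congr_fun this x

/-- The map of affine lines of a localisation. -/
noncomputable abbrev locLine (m : Ideal R) [m.IsPrime] :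
    Spec (CommRingCat.of (Polynomial (Localization.AtPrime m))) ⟶ Spec (CommRingCat.of (Polynomial R)) :=
  sm (Polynomial.mapRingHom (algebraMap R (Localization.AtPrime m)))

variable {G : Over (Spec (CommRingCat.of R))} [GrpObj G]

/-- Triviality for local rings gives points over the lines of the local rings. -/
theorem exists_point_locLine
    (hloc : ∀ (m : Ideal R) [m.IsMaximal]
      (Y : NonAbH1.TorsorSch (Red.bc (Spec.map (CommRingCat.ofHom (algebraMap (Localization.AtPrime m) (Polynomial (Localization.AtPrime m))))) (Red.bc (Spec.map (CommRingCat.ofHom (algebraMap R (Localization.AtPrime m)))) G)) Scheme.fppfPrecoverage),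
      (∃ I : Ideal (Polynomial (Localization.AtPrime m)), Module.Finite (Localization.AtPrime m) (Polynomial (Localization.AtPrime m) ⧸ I) ∧
        NonAbH1.HasSectionOver Y.X (Scheme.Opens.ι
          (⟨(PrimeSpectrum.zeroLocus (I : Set (Polynomial (Localization.AtPrime m))))ᶜ,
            (PrimeSpectrum.isClosed_zeroLocus _).isOpen_compl⟩ : (Spec (CommRingCat.of (Polynomial (Localization.AtPrime m)))).Opens))) →
      NonAbH1.HasSectionOver Y.X (𝟙 (Spec (CommRingCat.of (Polynomial (Localization.AtPrime m))))))
    {X : Over (Spec (CommRingCat.of (Polynomial R)))}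
    {a : AlgGrp.Action (Red.bc (sm (algebraMap R (Polynomial R))) G) X}
    (ha : NonAbH1.IsTorsorFor Scheme.fppfPrecoverage a) (g : Polynomial R) (hg : g.Monic)
    (m : Ideal R) [m.IsMaximal]
    (s : Spec (CommRingCat.of (Localization.Away (g.map (algebraMap R (Localization.AtPrime m))))) ⟶ X.left)
    (hs : s ≫ X.hom = sm (algebraMap (Polynomial (Localization.AtPrime m)) _) ≫ locLine m) :
    ∃ x : Spec (CommRingCat.of (Polynomial (Localization.AtPrime m))) ⟶ X.left, x ≫ X.hom = locLine m := by
  let πm := sm (algebraMap (Localization.AtPrime m) (Polynomial (Localization.AtPrime m)))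
  let jm := sm (algebraMap R (Localization.AtPrime m))
  have h : locLine m ≫ sm (algebraMap R (Polynomial R)) = πm ≫ jm := by
    rw [← sm_comp, ← sm_comp]
    congr 1
    ext r
    simp [Polynomial.algebraMap_apply]
  let φ : Red.bc πm (Red.bc jm G) ⟶ Red.bc (locLine m) (Red.bc (sm (algebraMap R (Polynomial R))) G) :=
    (ActBC.bcCompIso πm jm G rfl).hom ≫ (ActBC.bcCompIso (locLine m) (sm (algebraMap R (Polynomial R))) G h).inv
  let gm := g.map (algebraMap R (Localization.AtPrime m))
  let U : (Spec (CommRingCat.of (Polynomial (Localization.AtPrime m)))).Opens :=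
    ⟨(PrimeSpectrum.zeroLocus ((Ideal.span {gm} : Ideal _) : Set (Polynomial (Localization.AtPrime m))))ᶜ,
      (PrimeSpectrum.isClosed_zeroLocus _).isOpen_compl⟩
  have hmono : (gm).Monic := hg.map _
  haveI : IsOpenImmersion (sm (algebraMap (Polynomial (Localization.AtPrime m)) (Localization.Away gm))) :=
    IsOpenImmersion.of_isLocalization gm
  let q := IsOpenImmersion.lift (sm (algebraMap (Polynomial (Localization.AtPrime m)) (Localization.Away gm))) U.ι (by
    rw [Scheme.Opens.range_ι]
    intro p hp
    refine (mem_range_away gm p).mpr ?_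
    intro hgp
    exact hp ((PrimeSpectrum.mem_zeroLocus _ _).mpr fun y hy =>
      (Ideal.span_le.mpr (Set.singleton_subset_iff.mpr hgp)) hy))
  let Y' : NonAbH1.TorsorSch (Red.bc πm (Red.bc jm G)) Scheme.fppfPrecoverage :=
    ⟨Red.bc (locLine m) X, (a.bc (locLine m)).restrict φ,
      isTorsorFor_restrict _ (NonAbH1.isTorsorFor_bc _ _ ha)⟩
  have hfin : Module.Finite (Localization.AtPrime m) (Polynomial (Localization.AtPrime m) ⧸ Ideal.span {gm}) :=
    hmono.finite_quotient
  have hsec : NonAbH1.HasSectionOver (Red.bc (locLine m) X) U.ι := ⟨pullback.lift (q ≫ s) U.ι (by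
      rw [Category.assoc, hs, ← Category.assoc, IsOpenImmersion.lift_fac]), pullback.lift_snd _ _ _⟩
  obtain ⟨ψ, hψ⟩ := hloc m Y' ⟨_, hfin, hsec⟩
  refine ⟨ψ ≫ pullback.fst X.hom (locLine m), ?_⟩
  rw [Category.assoc, pullback.condition, ← Category.assoc]
  exact (congrArg (· ≫ locLine m) hψ).trans (Category.id_comp _)

set_option maxHeartbeats 1600000 in
/-- A torsor on the line trivial away from a finite subscheme is trivial if this holds for the local rings. -/
theorem hasSection_of_local [LocallyOfFinitePresentation G.hom]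
    (hloc : ∀ (m : Ideal R) [m.IsMaximal]
      (Y : NonAbH1.TorsorSch (Red.bc (Spec.map (CommRingCat.ofHom (algebraMap (Localization.AtPrime m) (Polynomial (Localization.AtPrime m))))) (Red.bc (Spec.map (CommRingCat.ofHom (algebraMap R (Localization.AtPrime m)))) G)) Scheme.fppfPrecoverage),
      (∃ I : Ideal (Polynomial (Localization.AtPrime m)), Module.Finite (Localization.AtPrime m) (Polynomial (Localization.AtPrime m) ⧸ I) ∧
        NonAbH1.HasSectionOver Y.X (Scheme.Opens.ι
          (⟨(PrimeSpectrum.zeroLocus (I : Set (Polynomial (Localization.AtPrime m))))ᶜ,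
            (PrimeSpectrum.isClosed_zeroLocus _).isOpen_compl⟩ : (Spec (CommRingCat.of (Polynomial (Localization.AtPrime m)))).Opens))) →
      NonAbH1.HasSectionOver Y.X (𝟙 (Spec (CommRingCat.of (Polynomial (Localization.AtPrime m))))))
    {X : Over (Spec (CommRingCat.of (Polynomial R)))}
    {a : AlgGrp.Action (Red.bc (sm (algebraMap R (Polynomial R))) G) X}
    (ha : NonAbH1.IsTorsorFor Scheme.fppfPrecoverage a) (f : Polynomial R) (hf : f.Monic)
    (σ : Spec (CommRingCat.of (Localization.Away f)) ⟶ X.left)
    (hσ : σ ≫ X.hom = sm (algebraMap (Polynomial R) (Localization.Away f))) :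
    NonAbH1.HasSectionOver X (𝟙 (Spec (CommRingCat.of (Polynomial R)))) := by
  let π := sm (algebraMap R (Polynomial R))
  -- points over the lines of the local rings
  have hXm : ∀ (m : Ideal R) [m.IsMaximal], ∃ x : Spec (CommRingCat.of (Polynomial (Localization.AtPrime m))) ⟶ X.left,
      x ≫ X.hom = locLine m := by
    intro m _
    let lm := IsLocalization.Away.lift (S := Localization.Away f) f
      (g := (algebraMap _ (Localization.Away (f.map (algebraMap R (Localization.AtPrime m))))).comp
        (Polynomial.mapRingHom (algebraMap R (Localization.AtPrime m))))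
      (IsLocalization.Away.algebraMap_isUnit (f.map (algebraMap R (Localization.AtPrime m))))
    refine exists_point_locLine hloc ha f hf m (sm lm ≫ σ) ?_
    rw [Category.assoc, hσ, ← sm_comp, ← sm_comp, IsLocalization.Away.lift_comp]
  let S1 := Localization.Away (Polynomial.X : Polynomial R)
  let fr := f.reverse
  have hfr : fr.coeff 0 = 1 := by rw [Polynomial.coeff_zero_reverse]; exact hf.leadingCoeff
  let v1 := sm (algebraMap (Polynomial R) S1)
  let w := sm (algebraMap (Polynomial R) (Localization.Away fr))
  haveI : IsOpenImmersion v1 := IsOpenImmersion.of_isLocalization (Polynomial.X : Polynomial R)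
  haveI : IsOpenImmersion w := IsOpenImmersion.of_isLocalization fr
  have hcov : Set.range v1 ∪ Set.range w = Set.univ := by
    refine Set.eq_univ_of_forall fun p => ?_
    by_cases hp : (Polynomial.X : Polynomial R) ∈ p.asIdeal
    · refine Or.inr ((mem_range_away fr p).mpr ?_)
      intro hq
      apply p.2.ne_top
      rw [Ideal.eq_top_iff_one]
      have := Polynomial.X_mul_divX_add fr
      rw [hfr, map_one] at this
      have h1 : (1 : Polynomial R) = fr - Polynomial.X * fr.divX := eq_sub_of_add_eq' this
      rw [h1]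
      exact sub_mem hq (Ideal.mul_mem_right _ _ hp)
    · exact Or.inl ((mem_range_away Polynomial.X p).mpr hp)
  let t : S1 := IsLocalization.Away.invSelf (Polynomial.X : Polynomial R)
  let i1 : R →+* S1 := (algebraMap (Polynomial R) S1).comp Polynomial.C
  let uh : Polynomial R →+* S1 := Polynomial.eval₂RingHom i1 t
  let u := sm uh
  have huπ : u ≫ π = v1 ≫ π := by
    rw [← sm_comp, ← sm_comp]
    congr 1
    ext r
    simp [uh, i1, Polynomial.algebraMap_apply]
  let H : Over (Spec (CommRingCat.of (Polynomial R))) := Red.bc π G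
  let φ1 : Red.bc v1 H ⟶ Red.bc u H :=
    (ActBC.bcCompIso v1 π G rfl).hom ≫ (ActBC.bcCompIso u π G huπ).inv
  let aA := (a.bc u).restrict φ1
  have hA : NonAbH1.IsTorsorFor Scheme.fppfPrecoverage aA :=
    isTorsorFor_restrict _ (NonAbH1.isTorsorFor_bc _ _ ha)
  let aB := NonAbH1.trivialAction (Red.bc w H)
  have hB : NonAbH1.IsTorsorFor Scheme.fppfPrecoverage aB :=
    NonAbH1.isTorsorFor_trivialAction _ _
  let pa := pullback.fst v1 w
  let pb := pullback.snd v1 w
  haveI : IsOpenImmersion (sm (algebraMap (Polynomial R) (Localization.Away f))) :=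
    IsOpenImmersion.of_isLocalization f
  let qf := IsOpenImmersion.lift (sm (algebraMap (Polynomial R) (Localization.Away f))) (pa ≫ u) (by
    rintro _ ⟨z, rfl⟩
    refine (mem_range_away f _).mpr ?_
    let p1 : PrimeSpectrum S1 := pa z
    have h2 : algebraMap (Polynomial R) S1 fr ∉ p1.asIdeal := by
      have : (v1 (pa z) : PrimeSpectrum (Polynomial R)) ∈ Set.range w := ⟨pb z, by
        rw [← Scheme.Hom.comp_apply, ← Scheme.Hom.comp_apply, pullback.condition]⟩
      exact (mem_range_away fr _).mp this
    intro hmem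
    let inst : Invertible t := ⟨algebraMap (Polynomial R) S1 Polynomial.X,
      IsLocalization.Away.mul_invSelf _, (mul_comm _ _).trans (IsLocalization.Away.mul_invSelf _)⟩
    have e1 : Polynomial.eval₂ i1 (⅟t) fr = algebraMap (Polynomial R) S1 fr := by
      have : Polynomial.eval₂RingHom i1 (⅟t) = algebraMap (Polynomial R) S1 :=
        Polynomial.ringHom_ext (fun r => by simp [i1]) (by simp; rfl)
      exact RingHom.congr_fun this fr
    have key := Polynomial.eval₂_reverse_mul_pow i1 t f
    rw [e1] at key
    have hm : uh f ∈ p1.asIdeal := hmem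
    rw [show uh f = _ from key.symm] at hm
    rcases p1.2.mem_or_mem hm with h | h
    · exact h2 h
    · exact p1.2.ne_top (Ideal.eq_top_of_isUnit_mem _ h ((isUnit_of_invertible t).pow _)))
  have hqf : qf ≫ sm (algebraMap (Polynomial R) (Localization.Away f)) = pa ≫ u := IsOpenImmersion.lift_fac _ _ _
  let Q : Over (pullback v1 w) := Over.mk (𝟙 _)
  let yA : Q ⟶ Red.bc pa (Red.bc u X) := Over.homMk
    (pullback.lift (pullback.lift (qf ≫ σ) pa (by rw [Category.assoc, hσ, hqf])) (𝟙 _)
      (by exact (pullback.lift_snd _ _ _).trans (Category.id_comp _).symm)) (pullback.lift_snd _ _ _)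
  have hQ : NonAbH1.IsLocallyTrivialFor Scheme.fpqcPrecoverage Q :=
    ⟨_, Scheme.fppfPrecoverage_le_fpqcPrecoverage _ (Scheme.fppfPrecoverage.mem_coverings_of_isIso (𝟙 _)),
      fun _ g _ => ⟨g, Category.comp_id _⟩⟩
  let aA' := (aA.bc pa).restrict (ActBC.bcCompIso pa v1 H rfl).inv
  let aB' := (aB.bc pb).restrict (ActBC.bcCompIso pb w H pullback.condition.symm).inv
  have hA' : NonAbH1.IsTorsorFor Scheme.fppfPrecoverage aA' :=
    isTorsorFor_restrict _ (NonAbH1.isTorsorFor_bc _ _ hA)
  have hB' : NonAbH1.IsTorsorFor Scheme.fppfPrecoverage aB' :=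
    isTorsorFor_restrict _ (NonAbH1.isTorsorFor_bc _ _ hB)
  obtain ⟨e⟩ := equivIso_of_cocycle (aP := aA') (aX := aB')
    ⟨hA'.1, hA'.2.imp fun C hC => ⟨Scheme.fppfPrecoverage_le_fpqcPrecoverage _ hC.1, hC.2⟩⟩ hB'.1 hQ (𝟙 Q) (𝟙 Q)
    (fun Z m m' => ⟨m, Category.comp_id m, by
      apply Over.OverMorphism.ext
      have h1 : m.left = Z.hom := by simpa [Q] using Over.w m
      have h2 : m'.left = Z.hom := by simpa [Q] using Over.w m'
      rw [Category.comp_id, h1, h2]⟩)
    1 yA (1 : Q ⟶ Red.bc pb (Red.bc w H))
    (by rw [Category.id_comp, Sga84.actPt, AlgGrp79.one_act'])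
    (by rw [Category.id_comp, Sga84.actPt, AlgGrp79.one_act'])
  obtain ⟨Y, i, jj, ifac⟩ := exists_glue_torsor v1 w hcov aA hA aB hB e
  -- the fibre at the origin
  let w0 := IsLocalization.Away.lift (S := Localization.Away fr) fr (g := (Polynomial.aeval (0 : R)).toRingHom) (by
    show IsUnit (Polynomial.aeval (0 : R) fr)
    rw [← Polynomial.coeff_zero_eq_aeval_zero, hfr]
    exact isUnit_one)
  let W0 : Over (Spec (CommRingCat.of (Localization.Away fr))) := Over.mk (sm w0)
  let b0 : W0 ⟶ Red.bc w H := 1
  have hρY : (b0.left ≫ jj.left) ≫ Y.X.hom = sm (Polynomial.aeval (0 : R)).toRingHom := by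
    rw [Category.assoc, Over.w jj]
    show b0.left ≫ (Red.bc w H).hom ≫ w = _
    rw [← Category.assoc, Over.w b0]
    show sm w0 ≫ w = _
    rw [← sm_comp, IsLocalization.Away.lift_comp]
  obtain ⟨ψ, hψ⟩ := exists_section_of_local (Polynomial.aeval (0 : R)) (lineCE 0) (lineCE_zero 0) (lineCE_one 0)
    Y.isTorsor (b0.left ≫ jj.left) hρY fun m hm => by
      obtain ⟨xm, hxm⟩ := hXm m
      let Km := Polynomial (Localization.AtPrime m)
      let hM : Polynomial R →+* Km := Polynomial.mapRingHom (algebraMap R (Localization.AtPrime m))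
      let gm := (Polynomial.X : Polynomial R).map (algebraMap R (Localization.AtPrime m))
      let Lm := Localization.Away gm
      let l1 := IsLocalization.Away.lift (S := S1) (Polynomial.X : Polynomial R)
        (g := (algebraMap Km Lm).comp hM) (IsLocalization.Away.algebraMap_isUnit gm)
      let ρm : Km →+* Lm := Polynomial.eval₂RingHom ((algebraMap Km Lm).comp Polynomial.C) (l1 t)
      have hρm : ρm.comp hM = l1.comp uh := by
        refine Polynomial.ringHom_ext (fun r => ?_) ?_
        · show Polynomial.eval₂ ((algebraMap Km Lm).comp Polynomial.C) (l1 t)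
              ((Polynomial.C r).map (algebraMap R (Localization.AtPrime m))) = l1 (uh (Polynomial.C r))
          rw [Polynomial.map_C, Polynomial.eval₂_C,
            show uh (Polynomial.C r) = algebraMap (Polynomial R) S1 (Polynomial.C r) from Polynomial.eval₂_C _ _,
            IsLocalization.Away.lift_eq, RingHom.comp_apply, RingHom.comp_apply]
          exact congrArg (algebraMap Km Lm) (Polynomial.map_C _).symm
        · show Polynomial.eval₂ ((algebraMap Km Lm).comp Polynomial.C) (l1 t)
              ((Polynomial.X : Polynomial R).map (algebraMap R (Localization.AtPrime m))) = l1 (uh Polynomial.X)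
          rw [Polynomial.map_X, Polynomial.eval₂_X, show uh Polynomial.X = t from Polynomial.eval₂_X _ _]
      let pA : Spec (CommRingCat.of Lm) ⟶ pullback X.hom u := pullback.lift (sm ρm ≫ xm) (sm l1) (by
        rw [Category.assoc, hxm, ← sm_comp, ← sm_comp, hρm])
      have hpA : (pA ≫ i.left) ≫ Y.X.hom = sm (algebraMap Km Lm) ≫ locLine m := by
        rw [Category.assoc, Over.w i]
        show pA ≫ pullback.snd X.hom u ≫ v1 = _
        rw [pullback.lift_snd_assoc, ← sm_comp, ← sm_comp, IsLocalization.Away.lift_comp]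
      obtain ⟨ym, hym⟩ := exists_point_locLine hloc Y.isTorsor Polynomial.X Polynomial.monic_X m (pA ≫ i.left) hpA
      let _ : Algebra (Polynomial R) Km := hM.toAlgebra
      refine ⟨m.primeCompl.map (Polynomial.C : R →+* Polynomial R), Km, inferInstance, hM.toAlgebra,
        Polynomial.isLocalization m.primeCompl (Localization.AtPrime m), ?_, ym, hym⟩
      rintro _ ⟨r, hr, rfl⟩
      exact ⟨r, hr, rfl⟩
  -- the fibre at one
  let c1 := IsLocalization.Away.lift (S := S1) (Polynomial.X : Polynomial R) (g := (Polynomial.aeval (1 : R)).toRingHom)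
    (by show IsUnit (Polynomial.aeval (1 : R) Polynomial.X); simp)
  let Z1 : Over (Spec (CommRingCat.of (Polynomial R))) := Over.mk (sm (Polynomial.aeval (1 : R)).toRingHom)
  let y1 : Z1 ⟶ Y.X := Over.homMk (sm (Polynomial.aeval (1 : R)).toRingHom ≫ ψ) (by
    show (sm (Polynomial.aeval (1 : R)).toRingHom ≫ ψ) ≫ Y.X.hom = _
    rw [Category.assoc, hψ, Category.comp_id]
    rfl)
  obtain ⟨x1, hx1⟩ := ifac Z1 y1 (sm c1) (by
    rw [← sm_comp, IsLocalization.Away.lift_comp]
    rfl)
  have hx1b : x1.left ≫ (Red.bc u X).hom = sm c1 := by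
    rw [← cancel_mono v1, ← sm_comp, IsLocalization.Away.lift_comp, Category.assoc]
    exact Over.w x1
  refine exists_section_of_local (Polynomial.aeval (1 : R)) (lineCE 1) (lineCE_zero 1) (lineCE_one 1) ha
    (x1.left ≫ pullback.fst X.hom u) ?_ fun m hm => ?_
  · rw [Category.assoc, pullback.condition, ← Category.assoc,
      show x1.left ≫ pullback.snd X.hom u = sm c1 from hx1b, ← sm_comp]
    congr 1
    refine Polynomial.ringHom_ext (fun r => ?_) ?_
    · simp [uh, i1, c1]
    · show c1 (uh Polynomial.X) = Polynomial.aeval (1 : R) Polynomial.X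
      simp only [uh, Polynomial.coe_eval₂RingHom, Polynomial.eval₂_X, Polynomial.aeval_X]
      have := congrArg c1 (IsLocalization.Away.mul_invSelf (S := S1) (Polynomial.X : Polynomial R))
      rw [map_mul, map_one, IsLocalization.Away.lift_eq] at this
      simpa using this
  · obtain ⟨xm, hxm⟩ := hXm m
    let _ : Algebra (Polynomial R) (Polynomial (Localization.AtPrime m)) :=
      (Polynomial.mapRingHom (algebraMap R (Localization.AtPrime m))).toAlgebra
    refine ⟨m.primeCompl.map (Polynomial.C : R →+* Polynomial R), Polynomial (Localization.AtPrime m), inferInstance,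
      (Polynomial.mapRingHom (algebraMap R (Localization.AtPrime m))).toAlgebra,
      Polynomial.isLocalization m.primeCompl (Localization.AtPrime m), ?_, xm, hxm⟩
    rintro _ ⟨r, hr, rfl⟩
    exact ⟨r, hr, rfl⟩

end Groth.Agent.Tors37
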