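import Groth.Prelude.Def_ActBC
import Groth.Prelude.Def_CInt
import Groth.Agent.Tors37.FinQuot
import Groth.Agent.Torsor99.Basic
import Groth.Agent.Sga84.TorsorDesc
import Groth.Agent.SGA3a.SchemDense
import Groth.Agent.LimTop61.SchDenseLim
import Mathlib.AlgebraicGeometry.EffectiveEpi
import Mathlib.AlgebraicGeometry.Sites.Fpqc

/-! A closed invariant subscheme which is a torsor over a dense open is a torsor. -/

set_option autoImplicit false
set_option backward.isDefEq.respectTransparency.types false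
universe u

open CategoryTheory MonoidalCategory CartesianMonoidalCategory MonObj AlgebraicGeometry TopologicalSpace

noncomputable section

namespace Groth.Agent.Tors37

variable {X : Scheme.{u}}

theorem eq_of_schemDense {Y : Scheme.{u}} {W : Y.Opens} (hW : CInt.IsSchematicallyDense W)
    {a b : Γ(Y, ⊤)} (h : W.ι.appTop a = W.ι.appTop b) : a = b := by
  refine hW ⊤ ?_
  have h' : Y.presheaf.map (homOfLE (x := W.ι ''ᵁ ⊤) le_top).op a =
      Y.presheaf.map (homOfLE (x := W.ι ''ᵁ ⊤) le_top).op b := h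
  have hle : (⊤ ⊓ W : Y.Opens) ≤ W.ι ''ᵁ ⊤ := by simp
  have e : ∀ t : Γ(Y, ⊤), Y.presheaf.map (homOfLE (inf_le_left : ⊤ ⊓ W ≤ ⊤)).op t =
      Y.presheaf.map (homOfLE hle).op (Y.presheaf.map (homOfLE (x := W.ι ''ᵁ ⊤) le_top).op t) := fun t =>
    congr($(Y.presheaf.map_comp (homOfLE (x := W.ι ''ᵁ ⊤) le_top).op (homOfLE hle).op) t)
  rw [e, e, h']

theorem dense_of_schemDense {Y : Scheme.{u}} {W : Y.Opens} (hW : CInt.IsSchematicallyDense W) :
    Dense (W : Set Y) := by
  rw [dense_iff_inter_open]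
  intro V hV ⟨y, hy⟩
  by_contra hne
  let V' : Y.Opens := ⟨V, hV⟩
  have hbot : (V' ⊓ W : Y.Opens) = ⊥ := Opens.ext (Set.not_nonempty_iff_eq_empty.mp hne)
  have : Subsingleton Γ(Y, V' ⊓ W) := CommRingCat.subsingleton_of_isTerminal
    (Y.sheaf.isTerminalOfEqEmpty hbot)
  have h01 : (1 : Γ(Y, V')) = 0 := hW V' (Subsingleton.elim _ _)
  have h := congrArg (Y.presheaf.germ V' y hy) h01
  rw [map_one, map_zero] at h
  exact one_ne_zero h

theorem isUnit_ι_appTop {Y : Scheme.{u}} {W : Y.Opens} {r : Γ(Y, ⊤)} (h : W ≤ Y.basicOpen r) :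
    IsUnit (W.ι.appTop r) := by
  refine RingedSpace.isUnit_of_isUnit_germ (W : Scheme.{u}).toRingedSpace ⊤ _ fun y hy => ?_
  have hy' : y ∈ W.ι ⁻¹ᵁ Y.basicOpen r := h y.2
  rw [Scheme.preimage_basicOpen_top] at hy'
  exact ((W : Scheme.{u}).mem_basicOpen _ y hy).mp hy'

/-- An invariant morphism out of a torsor factors through the base. -/
theorem exists_desc_of_invariant {H Z : Over X} [GrpObj H] {b : AlgGrp.Action H Z}
    (hb : NonAbH1.IsPseudoTorsorSch b) [QuasiCompact Z.hom] [Flat Z.hom] [Surjective Z.hom]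
    {T : Scheme.{u}} (g : Z.left ⟶ T) (hg : b.act.left ≫ g = (snd H Z).left ≫ g) :
    ∃ h : X ⟶ T, Z.hom ≫ h = g := by
  have hiso : IsIso (lift b.act (snd H Z)) := hb
  have : IsIso (lift b.act (snd H Z)).left := Functor.map_isIso (Over.forget X) (lift b.act (snd H Z))
  have key : Limits.pullback.fst Z.hom Z.hom ≫ g = Limits.pullback.snd Z.hom Z.hom ≫ g := by
    refine (cancel_epi (lift b.act (snd H Z)).left).mp ?_
    show (lift b.act (snd H Z)).left ≫ (fst Z Z).left ≫ g = (lift b.act (snd H Z)).left ≫ (snd Z Z).left ≫ g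
    rw [← Over.comp_left_assoc, ← Over.comp_left_assoc, lift_fst, lift_snd]
    exact hg
  have hcond : ∀ {W : Scheme.{u}} (g₁ g₂ : W ⟶ Z.left), g₁ ≫ Z.hom = g₂ ≫ Z.hom → g₁ ≫ g = g₂ ≫ g := by
    intro W g₁ g₂ h12
    have h := congrArg (Limits.pullback.lift g₁ g₂ h12 ≫ ·) key
    simp only [← Category.assoc, Limits.pullback.lift_fst, Limits.pullback.lift_snd] at h
    exact h
  exact ⟨EffectiveEpi.desc Z.hom g hcond, EffectiveEpi.fac _ _ _⟩

/-- A closed subscheme, stable under a free action, which is a torsor over a schematically dense open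
defined by a prime-like element, is a torsor. -/
theorem isTorsorFor_of_generic [IsAffine X] [IsReduced X] (ϖ : Γ(X, ⊤))
    (hrad : (Ideal.span {ϖ}).IsRadical)
    {H P Z : Over X} [GrpObj H] [IsFinite H.hom] [Flat H.hom] [LocallyOfFinitePresentation H.hom]
    [IsAffine P.left] (a : AlgGrp.Action H P) (hmono : Mono (lift a.act (snd H P)).left)
    (j : Z ⟶ P) [IsClosedImmersion j.left] [IsFinite Z.hom]
    (b : AlgGrp.Action H Z) (hj : AlgGrp.Action.IsEquivariant b a j)
    (hdense : ∀ {Y : Scheme.{u}} (g : Y ⟶ X), Flat g →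
      CInt.IsSchematicallyDense (g ⁻¹ᵁ X.basicOpen ϖ))
    (hdenseZ : CInt.IsSchematicallyDense (Z.hom ⁻¹ᵁ X.basicOpen ϖ))
    (hU : NonAbH1.IsTorsorFor Scheme.fpqcPrecoverage (b.bc (X.basicOpen ϖ).ι)) :
    NonAbH1.IsTorsorFor Scheme.fpqcPrecoverage b := by
  classical
  obtain ⟨M, π, hMaff, hπ1, hπ2, hπ3, hπ4, sq⟩ := exists_affine_quotient a hmono
  let U := X.basicOpen ϖ
  let Z₀ := Red.bc U.ι Z
  -- properties of the generic part
  have hZ₀fin : IsFinite Z₀.hom := MorphismProperty.pullback_snd (P := @IsFinite) _ _ ‹_›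
  have hZ₀flat : Flat Z₀.hom := by
    have := Sga84.flat_descendsAlong.{u}
    exact Sga84.hom_of_isTorsorFor @Flat (MorphismProperty.pullback_snd (P := @Flat) _ _ ‹_›) hU
  have hZ₀surj : Surjective Z₀.hom := Sga84.surjective_of_isLocallyTrivialFor hU.2
  -- surjectivity of Z → X
  have hUdense : CInt.IsSchematicallyDense U := by
    have := hdense (𝟙 X) inferInstance
    exact this
  have hsurj : Surjective Z.hom := by
    refine ⟨Set.range_eq_univ.mp (Set.eq_univ_of_univ_subset ?_)⟩
    rw [← (dense_of_schemDense hUdense).closure_eq]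
    refine closure_minimal (fun x hx => ?_) Z.hom.isClosedMap.isClosed_range
    obtain ⟨z, hz⟩ := hZ₀surj.surj (⟨x, hx⟩ : (U : Scheme.{u}))
    refine ⟨Limits.pullback.fst Z.hom U.ι z, ?_⟩
    rw [← Scheme.Hom.comp_apply, Limits.pullback.condition, Scheme.Hom.comp_apply,
      show Limits.pullback.snd Z.hom U.ι z = ⟨x, hx⟩ from hz]
    rfl
  -- the invariant morphism to the quotient
  let g : Z.left ⟶ M.left := j.left ≫ π.left
  have hginv : b.act.left ≫ g = (snd H Z).left ≫ g := by
    have e1 : b.act.left ≫ j.left = (H ◁ j).left ≫ a.act.left :=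
      congrArg (fun f => CommaMorphism.left f) hj
    have e2 : (H ◁ j).left ≫ (snd H P).left = (snd H Z).left ≫ j.left :=
      congrArg (fun f => CommaMorphism.left f) (whiskerLeft_snd H j)
    show b.act.left ≫ j.left ≫ π.left = (snd H Z).left ≫ j.left ≫ π.left
    rw [reassoc_of% e1, sq.w, reassoc_of% e2]
  let g₀ : Z₀.left ⟶ M.left := Limits.pullback.fst Z.hom U.ι ≫ g
  have hg₀ : (b.bc U.ι).act.left ≫ g₀ = (snd (Red.bc U.ι H) Z₀).left ≫ g₀ := by
    have e1 : (Functor.LaxMonoidal.μ (Over.pullback U.ι) H Z).left ≫ Limits.pullback.fst (H ⊗ Z).hom U.ι ≫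
        (snd H Z).left = (snd (Red.bc U.ι H) Z₀).left ≫ Limits.pullback.fst Z.hom U.ι :=
      ActBC.μ_left_fst_snd (g := U.ι) (X := H) (Y := Z)
    show _ ≫ Limits.pullback.fst Z.hom U.ι ≫ g = _ ≫ Limits.pullback.fst Z.hom U.ι ≫ g
    rw [AlgGrp.Action.bc_act, Over.comp_left, Category.assoc, ActBC.pullback_map_left_fst_assoc, hginv,
      reassoc_of% e1]
  obtain ⟨h₀, hh₀⟩ := exists_desc_of_invariant hU.1 g₀ hg₀
  -- functions
  have hUalg : IsAffineOpen (⊤ : X.Opens) := isAffineOpen_top X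
  let zA : Γ(X, ⊤) →+* Γ(Z.left, ⊤) := Z.hom.appTop.hom
  have hzA : Function.Injective zA := by
    rw [injective_iff_map_eq_zero]
    intro x hx
    refine (basicOpen_eq_bot_iff x).mp (Opens.ext (Set.eq_empty_iff_forall_notMem.mpr fun p hp => ?_))
    obtain ⟨z, rfl⟩ := hsurj.surj p
    have hz : z ∈ Z.hom ⁻¹ᵁ X.basicOpen x := hp
    rw [Scheme.preimage_basicOpen_top] at hz
    rw [show Z.hom.appTop x = 0 from hx, Scheme.basicOpen_zero] at hz
    exact hz.elim
  have hrange : ∀ c : Γ(M.left, ⊤), ∃ x : Γ(X, ⊤), zA x = g.appTop c := by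
    intro c
    let y : Γ((U : Scheme.{u}), ⊤) := h₀.appTop c
    letI : Algebra Γ(X, ⊤) Γ(X, U) := (X.presheaf.map (homOfLE (X.basicOpen_le ϖ)).op).hom.toAlgebra
    have := hUalg.isLocalization_basicOpen ϖ
    obtain ⟨⟨x, ⟨_, m, rfl⟩⟩, hx⟩ := IsLocalization.surj (Submonoid.powers ϖ) (U.topIso.hom y)
    have hU' : ∀ t : Γ(X, ⊤), U.topIso.hom (U.ι.appTop t) = algebraMap Γ(X, ⊤) Γ(X, U) t := fun t =>
      (congr($(X.presheaf.map_comp (homOfLE (x := U.ι ''ᵁ ⊤) le_top).op
        (eqToHom U.ι_image_top.symm).op) t)).symm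
    have h1 : U.ι.appTop x = y * (U.ι.appTop ϖ) ^ m := by
      apply U.topIso.commRingCatIsoToRingEquiv.injective
      show U.topIso.hom _ = U.topIso.hom _
      rw [map_mul, map_pow, hU', hU', ← hx, map_pow]
    have h2 : g.appTop c * zA ϖ ^ m = zA x := by
      refine eq_of_schemDense hdenseZ ?_
      let q := Limits.pullback.fst Z.hom U.ι
      have hq : ∀ t : Γ(X, ⊤), q.appTop (zA t) = (Limits.pullback.snd Z.hom U.ι).appTop (U.ι.appTop t) :=
        fun t => congr($(congrArg Scheme.Hom.appTop (Limits.pullback.condition (f := Z.hom) (g := U.ι))) t)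
      have hqc : q.appTop (g.appTop c) = (Limits.pullback.snd Z.hom U.ι).appTop y :=
        (congr($(congrArg Scheme.Hom.appTop hh₀) c)).symm
      have h3 : q.appTop (g.appTop c * zA ϖ ^ m) = q.appTop (zA x) := by
        rw [map_mul, map_pow, hqc, hq, hq, h1, map_mul, map_pow]
      have hqU : q.opensRange = Z.hom ⁻¹ᵁ U := by
        refine Opens.ext ?_
        show Set.range q = _
        rw [Scheme.Pullback.range_fst]
        simp
      let k : ((Z.hom ⁻¹ᵁ U : Z.left.Opens) : Scheme.{u}) ⟶ Z₀.left :=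
        IsOpenImmersion.lift q (Z.hom ⁻¹ᵁ U).ι (by
          rw [Scheme.Opens.range_ι]
          exact (congrArg SetLike.coe hqU).ge)
      have hk : k ≫ q = (Z.hom ⁻¹ᵁ U).ι := IsOpenImmersion.lift_fac _ _ _
      have h4 := congrArg k.appTop h3
      have e : ∀ t : Γ(Z.left, ⊤), k.appTop (q.appTop t) = (Z.hom ⁻¹ᵁ U).ι.appTop t := fun t =>
        congr($(congrArg Scheme.Hom.appTop hk) t)
      rw [e, e] at h4
      exact h4
    -- divide by ϖ
    clear hx h1
    induction m generalizing x with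
    | zero => exact ⟨x, by rw [← h2, pow_zero, _root_.mul_one]⟩
    | succ m ih =>
      have hmem : x ∈ Ideal.span {ϖ} := by
        refine hrad ((Ideal.radical_eq_sInf (Ideal.span {ϖ})).ge ?_)
        rw [Ideal.mem_sInf]
        rintro p ⟨hp, hpp⟩
        obtain ⟨z, hz⟩ := hsurj.surj (hUalg.fromSpec ⟨p, hpp⟩)
        have hmem' : ∀ t : Γ(X, ⊤), t ∈ p ↔ z ∉ Z.left.basicOpen (zA t) := by
          intro t
          rw [← Scheme.preimage_basicOpen_top]
          show _ ↔ Z.hom z ∉ X.basicOpen t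
          rw [hz]
          show _ ↔ (⟨p, hpp⟩ : PrimeSpectrum _) ∉ hUalg.fromSpec ⁻¹ᵁ X.basicOpen t
          rw [hUalg.fromSpec_preimage_basicOpen]
          exact Iff.symm not_not
        rw [hmem', ← h2, Scheme.basicOpen_mul, Scheme.basicOpen_pow _ _ (Nat.succ_pos m)]
        exact fun h' => (hmem' ϖ).mp (hp (Ideal.mem_span_singleton_self ϖ)) h'.2
      obtain ⟨x', rfl⟩ := Ideal.mem_span_singleton'.mp hmem
      refine ih x' ?_
      have h7 : zA ϖ * (g.appTop c * zA ϖ ^ m - zA x') = 0 := by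
        rw [mul_sub, ← map_mul zA, mul_comm ϖ x', ← h2]; ring
      refine sub_eq_zero.mp (eq_of_schemDense hdenseZ ?_)
      have hu : IsUnit ((Z.hom ⁻¹ᵁ U).ι.appTop (zA ϖ)) := isUnit_ι_appTop (by
        rw [← Scheme.preimage_basicOpen_top])
      have h8 := congrArg (Z.hom ⁻¹ᵁ U).ι.appTop h7
      rw [map_mul, map_zero] at h8
      rw [map_zero]
      exact hu.mul_right_eq_zero.mp h8
  choose χ hχ using hrange
  let χ' : Γ(M.left, ⊤) →+* Γ(X, ⊤) :=
    { toFun := χ
      map_one' := hzA (by rw [hχ, map_one, map_one])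
      map_mul' := fun c c' => hzA (by rw [hχ, map_mul, map_mul, hχ, hχ])
      map_zero' := hzA (by rw [hχ, map_zero, map_zero])
      map_add' := fun c c' => hzA (by rw [hχ, map_add, map_add, hχ, hχ]) }
  let s : X ⟶ M.left := X.isoSpec.hom ≫ Spec.map (CommRingCat.ofHom χ') ≫ M.left.isoSpec.inv
  have hgs : Z.hom ≫ s = g := by
    show Z.hom ≫ X.toSpecΓ ≫ Spec.map (CommRingCat.ofHom χ') ≫ M.left.isoSpec.inv = g
    rw [Scheme.toSpecΓ_naturality_assoc, ← Spec.map_comp_assoc,
      show CommRingCat.ofHom χ' ≫ Z.hom.appTop = g.appTop from CommRingCat.hom_ext (RingHom.ext fun c => hχ c),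
      ← Scheme.toSpecΓ_naturality_assoc, ← Scheme.isoSpec_hom, Iso.hom_inv_id, Category.comp_id]
  have hsM : s ≫ M.hom = 𝟙 X := by
    have e : g ≫ M.hom = Z.hom := by
      show (j.left ≫ π.left) ≫ M.hom = Z.hom
      rw [Category.assoc, Over.w, Over.w]
    have e2 : M.hom.appTop ≫ CommRingCat.ofHom χ' = 𝟙 _ := by
      refine CommRingCat.hom_ext (RingHom.ext fun x => hzA ?_)
      show zA (χ (M.hom.appTop x)) = zA x
      rw [hχ]
      exact congr($(congrArg Scheme.Hom.appTop e) x)
    simp only [s, Category.assoc]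
    rw [← Scheme.isoSpec_inv_naturality, ← Spec.map_comp_assoc, e2, Spec.map_id, Category.id_comp,
      Iso.hom_inv_id]
  -- the torsor cut out by the section
  let Z' : Over X := Over.mk (Limits.pullback.snd π.left s)
  let i' : Z' ⟶ P := Over.homMk (Limits.pullback.fst π.left s) (by
    show Limits.pullback.fst π.left s ≫ P.hom = Limits.pullback.snd π.left s
    rw [← Over.w π, Limits.pullback.condition_assoc, hsM, Category.comp_id])
  have hi'mono : Mono i' := by
    have : IsSeparated M.hom := inferInstance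
    have : IsClosedImmersion (s ≫ M.hom) := by rw [hsM]; infer_instance
    have : IsClosedImmersion s := IsClosedImmersion.of_comp s M.hom
    have : Mono i'.left := inferInstanceAs (Mono (Limits.pullback.fst π.left s))
    exact Over.mono_of_mono_left i'
  have hlift : ∀ {T : Over X} (q : T ⟶ P), q.left ≫ π.left = T.hom ≫ s → ∃ q' : T ⟶ Z', q' ≫ i' = q := by
    intro T q hq
    exact ⟨Over.homMk (Limits.pullback.lift q.left T.hom hq) (Limits.pullback.lift_snd _ _ _),
      Over.OverMorphism.ext (Limits.pullback.lift_fst _ _ _)⟩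
  have hi'π : i'.left ≫ π.left = Z'.hom ≫ s := Limits.pullback.condition
  obtain ⟨act', hact'⟩ := hlift ((H ◁ i') ≫ a.act) (by
    rw [Over.comp_left, Category.assoc, sq.w, ← Category.assoc, ← Over.comp_left, whiskerLeft_snd,
      Over.comp_left, Category.assoc, hi'π, Over.w_assoc])
  let b' : AlgGrp.Action H Z' :=
    { act := act'
      one_act := by
        rw [← cancel_mono i', Category.assoc, hact', ← whisker_exchange_assoc, a.one_act]
        exact leftUnitor_naturality i'
      mul_act := by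
        rw [← cancel_mono i']
        simp only [Category.assoc, MonoidalCategory.whiskerLeft_comp]
        rw [hact', ← whisker_exchange_assoc, a.mul_act, ← MonoidalCategory.whiskerLeft_comp_assoc, hact',
          MonoidalCategory.whiskerLeft_comp_assoc, associator_naturality_right_assoc] }
  have hb' : NonAbH1.IsPseudoTorsorSch b' := by
    refine Sga84.isPseudoTorsorSch_of_existsUnique b' fun T x y => ?_
    have hxy : (y ≫ i').left ≫ π.left = (x ≫ i').left ≫ π.left := by
      rw [Over.comp_left, Over.comp_left, Category.assoc, Category.assoc, hi'π, Over.w_assoc, Over.w_assoc]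
    let w : T.left ⟶ (H ⊗ P).left := sq.lift (y ≫ i').left (x ≫ i').left hxy
    let w' : T ⟶ H ⊗ P := Over.homMk w (by
      rw [← Over.w (snd H P), sq.lift_snd_assoc, Over.w])
    have hw1 : w' ≫ a.act = y ≫ i' := Over.OverMorphism.ext (sq.lift_fst _ _ _)
    have hw2 : w' ≫ snd H P = x ≫ i' := Over.OverMorphism.ext (sq.lift_snd _ _ _)
    have hpt : ∀ g : T ⟶ H, (lift g x ≫ b'.act) ≫ i' = lift g (x ≫ i') ≫ a.act := fun g => by
      rw [Category.assoc]
      show lift g x ≫ act' ≫ i' = _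
      rw [hact', lift_whiskerLeft_assoc]
    refine ⟨w' ≫ fst H P, ?_, fun g hg => ?_⟩
    · show lift (w' ≫ fst H P) x ≫ b'.act = y
      rw [← cancel_mono i', hpt, ← hw2, ← comp_lift, lift_fst_snd, Category.comp_id, hw1]
    · have hg' : lift g (x ≫ i') ≫ a.act = y ≫ i' := by
        rw [← hpt]; exact congrArg (· ≫ i') hg
      have e : lift g (x ≫ i') = w' := by
        refine Over.OverMorphism.ext (sq.hom_ext ?_ ?_)
        · rw [← Over.comp_left, ← Over.comp_left, hg', hw1]
        · rw [← Over.comp_left, ← Over.comp_left, lift_snd, hw2]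
      rw [← e, lift_fst]
  have hZ'fin : IsFinite Z'.hom := MorphismProperty.pullback_snd (P := @IsFinite) _ _ hπ1
  have hZ'flat : Flat Z'.hom := MorphismProperty.pullback_snd (P := @Flat) _ _ hπ2
  have hZ'surj : Surjective Z'.hom := MorphismProperty.pullback_snd (P := @Surjective) _ _ hπ4
  have ht' : NonAbH1.IsTorsorFor Scheme.fpqcPrecoverage b' := by
    refine ⟨hb', Presieve.singleton Z'.hom, Z'.hom.singleton_mem_fpqcPrecoverage, ?_⟩
    rintro S' f ⟨⟩
    exact ⟨𝟙 _, Category.id_comp _⟩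
  -- comparison
  obtain ⟨j', hj'⟩ := hlift j hgs.symm
  have hj'eq : AlgGrp.Action.IsEquivariant b b' j' := by
    show b.act ≫ j' = (H ◁ j') ≫ act'
    rw [← cancel_mono i', Category.assoc, hj', Category.assoc, hact', ← MonoidalCategory.whiskerLeft_comp_assoc, hj']
    exact hj
  have : IsClosedImmersion (j'.left ≫ i'.left) := by rw [← Over.comp_left, hj']; infer_instance
  have : IsClosedImmersion j'.left := IsClosedImmersion.of_comp j'.left i'.left
  have : IsIso ((Over.pullback U.ι).map j') := Torsor99.isIso_of_equivariant hU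
    (NonAbH1.isPseudoTorsorSch_bc U.ι hb') _ (AlgGrp.Action.isEquivariant_bc U.ι hj'eq)
  have : IsIso j'.left := by
    have hi : IsIso ((Over.pullback U.ι).map j').left :=
      Functor.map_isIso (Over.forget _) ((Over.pullback U.ι).map j')
    let k : ((Z'.hom ⁻¹ᵁ U : Z'.left.Opens) : Scheme.{u}) ⟶ Z.left :=
      IsOpenImmersion.lift (Limits.pullback.fst Z'.hom U.ι) (Z'.hom ⁻¹ᵁ U).ι (by
          rw [Scheme.Opens.range_ι, Scheme.Pullback.range_fst]
          simp) ≫ inv ((Over.pullback U.ι).map j').left ≫ Limits.pullback.fst Z.hom U.ι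
    refine SGA3a.isIso_of_schemDense j'.left (Z'.hom ⁻¹ᵁ U) (hdense Z'.hom hZ'flat) k ?_
    simp only [k, Category.assoc]
    rw [← ActBC.pullback_map_left_fst (g := U.ι) j', IsIso.inv_hom_id_assoc]
    exact IsOpenImmersion.lift_fac _ _ _
  have : IsIso j' := by
    have : IsIso ((Over.forget X).map j') := ‹IsIso j'.left›
    exact isIso_of_reflects_iso j' (Over.forget X)
  exact isTorsorFor_of_equivIso
    { iso := asIso j'
      comm := hj'eq } ht'

end Groth.Agent.Tors37
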