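import Groth.Prelude.Def_Red
import Mathlib.AlgebraicGeometry.Morphisms.Flat
import Mathlib.AlgebraicGeometry.Morphisms.Finite
import Mathlib.AlgebraicGeometry.Morphisms.FinitePresentation
import Mathlib.RingTheory.Finiteness.ModuleFinitePresentation
import Mathlib.RingTheory.Flat.EquationalCriterion
import Mathlib.RingTheory.Flat.FaithfullyFlat.Algebra
import Mathlib.RingTheory.Spectrum.Prime.RingHom
import Mathlib.CategoryTheory.Monoidal.Cartesian.Over
import Mathlib.AlgebraicGeometry.EffectiveEpi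

/-! The affine hull over a field, and closed subschemes containing all fibres. -/

set_option autoImplicit false
set_option backward.isDefEq.respectTransparency.types false
universe u

open CategoryTheory MonoidalCategory CartesianMonoidalCategory AlgebraicGeometry

noncomputable section

namespace Groth.Agent.Tors37

section Hull

variable {K : Scheme.{u}} [IsAffine K]

/-- The spectrum of the global functions, over an affine base. -/
def hull (T : Over K) : Over K :=
  Over.mk (Spec.map T.hom.appTop ≫ K.isoSpec.inv)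

instance (T : Over K) : IsAffine (hull T).left := inferInstanceAs (IsAffine (Spec _))

/-- The map to the affine hull. -/
def toHull (T : Over K) : T ⟶ hull T :=
  Over.homMk T.left.toSpecΓ (by
    show T.left.toSpecΓ ≫ Spec.map T.hom.appTop ≫ K.isoSpec.inv = T.hom
    rw [← Scheme.toSpecΓ_naturality_assoc, ← Scheme.isoSpec_hom, Iso.hom_inv_id, Category.comp_id])

theorem isIso_toHull_appTop (T : Over K) : IsIso (toHull T).left.appTop := by
  show IsIso T.left.toSpecΓ.appTop
  rw [Scheme.toSpecΓ_appTop]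
  infer_instance

theorem isPushout_appTop_prod (Z T : Over K) [IsAffine Z.left] [Flat Z.hom] [CompactSpace T.left]
    [QuasiSeparatedSpace T.left] :
    IsPushout T.hom.appTop Z.hom.appTop (snd Z T).left.appTop (fst Z T).left.appTop := by
  have H : CategoryTheory.IsPullback (snd Z T).left (fst Z T).left T.hom Z.hom :=
    (IsPullback.of_hasPullback Z.hom T.hom).flip
  have h := (isIso_pushoutSection_iff H (US := ⊤) (UT := ⊤) (UX := ⊤) (UY := ⊤) le_top le_top (by simp)).mp
    (isIso_pushoutSection_of_isQuasiSeparated_of_flat_right H _ _ _ (isAffineOpen_top K) (isAffineOpen_top _)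
      isCompact_univ (isQuasiSeparated_univ_iff.mpr inferInstance))
  have e : ∀ {X Y : Scheme.{u}} (f : X ⟶ Y) (h : (⊤ : X.Opens) ≤ f ⁻¹ᵁ ⊤), f.appLE ⊤ ⊤ h = f.appTop :=
    fun f h => Scheme.Hom.appLE_eq_app f
  rwa [e, e, e, e] at h

theorem isIso_whiskerLeft_toHull_appTop (Z T : Over K) [IsAffine Z.left] [Flat Z.hom] [CompactSpace T.left]
    [QuasiSeparatedSpace T.left] : IsIso (Z ◁ toHull T).left.appTop := by
  have := isIso_toHull_appTop T
  have : CompactSpace (hull T).left := inferInstanceAs (CompactSpace (Spec _))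
  have : QuasiSeparatedSpace (hull T).left := inferInstance
  have h1 := isPushout_appTop_prod Z T
  have h2 := isPushout_appTop_prod Z (hull T)
  have eu : (hull T).hom.appTop ≫ (toHull T).left.appTop = T.hom.appTop := by
    rw [← Scheme.Hom.comp_appTop, Over.w]
  have h3 : IsPushout T.hom.appTop Z.hom.appTop
      (inv (toHull T).left.appTop ≫ (snd Z (hull T)).left.appTop) (fst Z (hull T)).left.appTop := by
    refine h2.of_iso (Iso.refl _) (asIso (toHull T).left.appTop) (Iso.refl _) (Iso.refl _) ?_ ?_ ?_ ?_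
    · simpa using eu
    · simp
    · simp
    · simp
  have e : (Z ◁ toHull T).left.appTop = (h3.isoIsPushout _ _ h1).hom := by
    refine h3.hom_ext ?_ ?_
    · rw [IsPushout.inl_isoIsPushout_hom, Category.assoc, ← Scheme.Hom.comp_appTop, ← Over.comp_left,
        whiskerLeft_snd, Over.comp_left, Scheme.Hom.comp_appTop, IsIso.inv_hom_id_assoc]
    · rw [IsPushout.inr_isoIsPushout_hom, ← Scheme.Hom.comp_appTop, ← Over.comp_left, whiskerLeft_fst]
  rw [e]
  infer_instance

theorem hull_hom_ext (Z T : Over K) [IsAffine Z.left] [Flat Z.hom] [CompactSpace T.left]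
    [QuasiSeparatedSpace T.left] {W : Over K} [IsAffine W.left] {a b : Z ⊗ hull T ⟶ W}
    (h : (Z ◁ toHull T) ≫ a = (Z ◁ toHull T) ≫ b) : a = b := by
  have := isIso_whiskerLeft_toHull_appTop Z T
  refine Over.OverMorphism.ext (ext_of_isAffine ((cancel_mono (Z ◁ toHull T).left.appTop).mp ?_))
  rw [← Scheme.Hom.comp_appTop, ← Scheme.Hom.comp_appTop, ← Over.comp_left, ← Over.comp_left, h]

theorem exists_hull_desc (Z T : Over K) [IsAffine Z.left] [Flat Z.hom] [CompactSpace T.left]
    [QuasiSeparatedSpace T.left] {W : Over K} [IsAffine W.left] (f : Z ⊗ T ⟶ W) :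
    ∃ g : Z ⊗ hull T ⟶ W, (Z ◁ toHull T) ≫ g = f := by
  have := isIso_whiskerLeft_toHull_appTop Z T
  let g : (Z ⊗ hull T).left ⟶ W.left :=
    (Z ⊗ hull T).left.toSpecΓ ≫ Spec.map (f.left.appTop ≫ inv (Z ◁ toHull T).left.appTop) ≫ W.left.isoSpec.inv
  have hg : (Z ◁ toHull T).left ≫ g = f.left := by
    show (Z ◁ toHull T).left ≫ (Z ⊗ hull T).left.toSpecΓ ≫ _ = f.left
    rw [Scheme.toSpecΓ_naturality_assoc, ← Spec.map_comp_assoc, Category.assoc, IsIso.inv_hom_id,
      Category.comp_id, ← Scheme.toSpecΓ_naturality_assoc, ← Scheme.isoSpec_hom, Iso.hom_inv_id, Category.comp_id]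
  refine ⟨Over.homMk g ?_, Over.OverMorphism.ext hg⟩
  refine ext_of_isAffine ((cancel_mono (Z ◁ toHull T).left.appTop).mp ?_)
  rw [← Scheme.Hom.comp_appTop, ← Scheme.Hom.comp_appTop, reassoc_of% hg, Over.w, Over.w]

/-- A morphism to an affine scheme factors through the base when all global functions are constant. -/
theorem exists_point_of_bijective {T : Over K} (hT : Function.Bijective T.hom.appTop.hom) {W : Over K}
    [IsAffine W.left] (f : T ⟶ W) : ∃ m : 𝟙_ (Over K) ⟶ W, f = toUnit T ≫ m := by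
  have : IsIso T.hom.appTop := (ConcreteCategory.isIso_iff_bijective _).mpr hT
  let m : K ⟶ W.left := K.toSpecΓ ≫ Spec.map (f.left.appTop ≫ inv T.hom.appTop) ≫ W.left.isoSpec.inv
  have hm : T.hom ≫ m = f.left := by
    show T.hom ≫ K.toSpecΓ ≫ _ = f.left
    rw [Scheme.toSpecΓ_naturality_assoc, ← Spec.map_comp_assoc, Category.assoc, IsIso.inv_hom_id,
      Category.comp_id, ← Scheme.toSpecΓ_naturality_assoc, ← Scheme.isoSpec_hom, Iso.hom_inv_id, Category.comp_id]
  have hm' : m ≫ W.hom = 𝟙 K := by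
    refine ext_of_isAffine ((cancel_mono T.hom.appTop).mp ?_)
    rw [← Scheme.Hom.comp_appTop, ← Scheme.Hom.comp_appTop, reassoc_of% hm, Over.w, Category.comp_id]
  exact ⟨Over.homMk m hm', Over.OverMorphism.ext hm.symm⟩

end Hull

section Fibres

/-- A closed subscheme containing all fibres of a finite flat morphism to a reduced scheme is everything. -/
theorem isIso_of_fibres {X T P : Scheme.{u}} (f : T ⟶ X) [IsFinite f] [Flat f] [LocallyOfFinitePresentation f]
    [IsReduced X] (c : P ⟶ T) [IsClosedImmersion c]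
    (h : ∀ x : X, ∃ (L : Type u) (_ : Field L) (l : Spec (CommRingCat.of L) ⟶ X) (p : Limits.pullback f l ⟶ P),
      x ∈ Set.range l ∧ p ≫ c = Limits.pullback.fst f l) : IsIso c := by
  classical
  rw [IsClosedImmersion.isIso_iff_ker_eq_bot]
  refine Scheme.IdealSheafData.ext_of_iSup_eq_top (fun U : X.affineOpens =>
    (⟨f ⁻¹ᵁ U.1, U.2.preimage f⟩ : T.affineOpens)) ?_ fun U => ?_
  · rw [← Scheme.Hom.preimage_iSup, iSup_affineOpens_eq_top]; rfl
  refine le_antisymm (fun a ha => ?_) (by simp)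
  rw [Scheme.Hom.ker_apply, RingHom.mem_ker] at ha
  simp only [Scheme.IdealSheafData.ideal_bot, Pi.bot_apply, Submodule.mem_bot]
  obtain ⟨⟨U, hU⟩, rfl⟩ : ∃ V, V = U := ⟨U, rfl⟩
  have hV := hU.preimage f
  letI := (f.app U).hom.toAlgebra
  have : Module.Finite Γ(X, U) Γ(T, f ⁻¹ᵁ U) := RingHom.finite_algebraMap.mp (f.finite_app U hU)
  have : Module.Flat Γ(X, U) Γ(T, f ⁻¹ᵁ U) := RingHom.flat_algebraMap_iff.mp (by
    rw [RingHom.algebraMap_toAlgebra, Scheme.Hom.app_eq_appLE]
    exact f.flat_appLE hU hV le_rfl)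
  have : Algebra.FinitePresentation Γ(X, U) Γ(T, f ⁻¹ᵁ U) := RingHom.finitePresentation_algebraMap.mp (by
    rw [RingHom.algebraMap_toAlgebra, Scheme.Hom.app_eq_appLE]
    exact f.finitePresentation_appLE hU hV le_rfl)
  have : Module.FinitePresentation Γ(X, U) Γ(T, f ⁻¹ᵁ U) :=
    Module.FinitePresentation.of_finite_of_finitePresentation _ _
  have : Module.Projective Γ(X, U) Γ(T, f ⁻¹ᵁ U) := Module.Flat.projective_of_finitePresentation
  have : _root_.IsReduced Γ(X, U) := IsReduced.component_reduced U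
  obtain ⟨σ, hσ⟩ := (Module.projective_def' (R := Γ(X, U))).mp (inferInstance : Module.Projective Γ(X, U) Γ(T, f ⁻¹ᵁ U))
  suffices hσa : σ a = 0 by
    have := LinearMap.congr_fun hσ a
    rw [LinearMap.comp_apply, hσa, map_zero] at this
    exact this.symm
  ext j
  rw [Finsupp.zero_apply]
  refine IsNilpotent.eq_zero ((nilpotent_iff_mem_prime).mpr fun p hp => ?_)
  obtain ⟨L, _, l, q, hxl, hq⟩ := h (hU.fromSpec ⟨p, hp⟩)
  obtain ⟨y, hy⟩ := hxl
  -- the point as a ring homomorphism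
  have hle : (⊤ : (Spec (CommRingCat.of L)).Opens) ≤ l ⁻¹ᵁ U := fun z _ => by
    have : z = y := Subsingleton.elim _ _
    subst this
    show l z ∈ U
    rw [hy]
    have hmem : (⟨p, hp⟩ : PrimeSpectrum Γ(X, U)) ∈ hU.fromSpec ⁻¹ᵁ U := by
      rw [IsAffineOpen.fromSpec_preimage_self]; trivial
    exact hmem
  let χ : Γ(X, U) →+* L := ((l.appLE U ⊤ hle) ≫ (Scheme.ΓSpecIso (CommRingCat.of L)).hom).hom
  have hχ : ∀ r, χ r = 0 → r ∈ p := by
    intro r hr
    by_contra hrp
    have hmem : (⟨p, hp⟩ : PrimeSpectrum Γ(X, U)) ∈ hU.fromSpec ⁻¹ᵁ X.basicOpen r := by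
      rw [hU.fromSpec_preimage_basicOpen]; exact hrp
    have h1 : l y ∈ X.basicOpen r := by rw [hy]; exact hmem
    have h2 : y ∈ l ⁻¹ᵁ X.basicOpen r := h1
    rw [Scheme.preimage_basicOpen] at h2
    have h3 : IsUnit ((Spec (CommRingCat.of L)).presheaf.germ _ y (hle trivial) (l.app U r)) :=
      ((Spec (CommRingCat.of L)).mem_basicOpen _ y (hle trivial)).mp h2
    have h4 : l.appLE U ⊤ hle r = 0 := by
      refine (Scheme.ΓSpecIso (CommRingCat.of L)).commRingCatIsoToRingEquiv.injective ?_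
      rw [map_zero]
      exact hr
    have h5 : (Spec (CommRingCat.of L)).presheaf.germ ⊤ y trivial (l.appLE U ⊤ hle r) =
        (Spec (CommRingCat.of L)).presheaf.germ _ y (hle trivial) (l.app U r) := by
      show (Spec (CommRingCat.of L)).presheaf.germ ⊤ y trivial
        ((Spec (CommRingCat.of L)).presheaf.map (homOfLE hle).op (l.app U r)) = _
      exact TopCat.Presheaf.germ_res_apply _ _ _ _ _
    rw [h4, map_zero] at h5
    exact h3.ne_zero h5.symm
  refine hχ _ ?_
  letI := χ.toAlgebra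
  -- the fibre over the point
  let sq := isPullback_SpecMap_of_isPushout _ _ _ _
    (CommRingCat.isPushout_tensorProduct Γ(X, U) Γ(T, f ⁻¹ᵁ U) L)
  let zero : (TensorProduct Γ(X, U) Γ(T, f ⁻¹ᵁ U) L) := a ⊗ₜ 1
  have hz : zero = 0 := by
    let e1 := hV.fromSpec
    have el : Spec.map (CommRingCat.ofHom (algebraMap Γ(X, U) L)) ≫ hU.fromSpec = l := by
      show Spec.map (l.appLE U ⊤ hle ≫ (Scheme.ΓSpecIso (CommRingCat.of L)).hom) ≫ hU.fromSpec = l
      rw [Spec.map_comp, Category.assoc, IsAffineOpen.SpecMap_appLE_fromSpec _ hU (isAffineOpen_top _),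
        IsAffineOpen.fromSpec_top]
      rw [← Category.assoc]
      have : Spec.map (Scheme.ΓSpecIso (CommRingCat.of L)).hom ≫ (Spec (CommRingCat.of L)).isoSpec.inv = 𝟙 _ := by
        rw [Iso.comp_inv_eq, Category.id_comp, Scheme.isoSpec_Spec_hom]
      rw [this, Category.id_comp]
    have ef : Spec.map (CommRingCat.ofHom (algebraMap Γ(X, U) Γ(T, f ⁻¹ᵁ U))) ≫ hU.fromSpec = e1 ≫ f := by
      show Spec.map (f.app U) ≫ hU.fromSpec = hV.fromSpec ≫ f
      rw [Scheme.Hom.app_eq_appLE, IsAffineOpen.SpecMap_appLE_fromSpec _ hU hV]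
    let tens := CommRingCat.of (TensorProduct Γ(X, U) Γ(T, f ⁻¹ᵁ U) L)
    let i1 : Spec tens ⟶ Spec Γ(T, f ⁻¹ᵁ U) :=
      Spec.map (CommRingCat.ofHom Algebra.TensorProduct.includeLeftRingHom)
    let i2 : Spec tens ⟶ Spec (CommRingCat.of L) := Spec.map (CommRingCat.ofHom
      (Algebra.TensorProduct.includeRight (R := Γ(X, U)) (A := Γ(T, f ⁻¹ᵁ U)) (B := L)).toRingHom)
    have sqw : i1 ≫ Spec.map (CommRingCat.ofHom (algebraMap Γ(X, U) Γ(T, f ⁻¹ᵁ U))) =
        i2 ≫ Spec.map (CommRingCat.ofHom (algebraMap Γ(X, U) L)) := sq.w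
    have hw : (i1 ≫ e1) ≫ f = i2 ≫ l := by
      rw [Category.assoc, ← ef, reassoc_of% sqw, el]
    let r : Spec tens ⟶ P := Limits.pullback.lift (i1 ≫ e1) i2 hw ≫ q
    have hr : r ≫ c = i1 ≫ e1 := by rw [Category.assoc, hq, Limits.pullback.lift_fst]
    have hle' : (⊤ : (Spec tens).Opens) ≤ (r ≫ c) ⁻¹ᵁ (f ⁻¹ᵁ U) := by
      rw [hr, Scheme.Hom.comp_preimage, IsAffineOpen.fromSpec_preimage_self]; simp
    have key : (r ≫ c).appLE (f ⁻¹ᵁ U) ⊤ hle' a = 0 := by
      rw [Scheme.Hom.comp_appLE, CommRingCat.comp_apply]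
      erw [ha]
      rw [map_zero]
    have key2 : (r ≫ c).appLE (f ⁻¹ᵁ U) ⊤ hle' =
        CommRingCat.ofHom Algebra.TensorProduct.includeLeftRingHom ≫ (Scheme.ΓSpecIso tens).inv := by
      have e : ∀ (g : Spec tens ⟶ T) (_ : g = i1 ≫ e1) (hle'' : ⊤ ≤ g ⁻¹ᵁ (f ⁻¹ᵁ U)),
          g.appLE (f ⁻¹ᵁ U) ⊤ hle'' =
            CommRingCat.ofHom Algebra.TensorProduct.includeLeftRingHom ≫ (Scheme.ΓSpecIso tens).inv := by
        rintro _ rfl hle''
        rw [Scheme.Hom.comp_appLE, hV.fromSpec_app_self, Category.assoc, Scheme.Hom.map_appLE,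
          Scheme.ΓSpecIso_inv_naturality]
        congr 1
      exact e _ hr hle'
    rw [key2] at key
    exact (Scheme.ΓSpecIso tens).symm.commRingCatIsoToRingEquiv.injective (key.trans (map_zero _).symm)
  let coord : Γ(T, f ⁻¹ᵁ U) →ₗ[Γ(X, U)] Γ(X, U) := (Finsupp.lapply j).comp σ
  have h7 : (TensorProduct.lid Γ(X, U) L) ((coord.rTensor L) zero) = χ (coord a) := by
    simp only [zero, LinearMap.rTensor_tmul, TensorProduct.lid_tmul, Algebra.smul_def, mul_one]
    rfl
  rw [hz, map_zero, map_zero] at h7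
  exact h7.symm

end Fibres

end Groth.Agent.Tors37
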