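import Groth.Agent.Tors37.PointActions
import Groth.Agent.Tors37.AffineHull
import Groth.Agent.Tors37.Pseudo
import Groth.Agent.SGA3a.SubGrpOfMono
import Groth.Agent.Torsor99.Basic
import Groth.Agent.Sga84.TorsorDesc
import Groth.Agent.Unr55.DescProps
import Groth.Agent.LimTop61.SteinFinite
import Mathlib.AlgebraicGeometry.Morphisms.Integral
import Mathlib.AlgebraicGeometry.Morphisms.UniversallyOpen
import Mathlib.AlgebraicGeometry.Sites.Fpqc

/-! Pointed torsors under a finite group over a field, and their subtorsors. -/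

set_option autoImplicit false
set_option backward.isDefEq.respectTransparency.types false
universe u

open CategoryTheory MonoidalCategory CartesianMonoidalCategory MonObj AlgebraicGeometry

noncomputable section

namespace Groth.Agent.Tors37

theorem isPullback_whiskerLeft' {C : Type*} [Category C] [CartesianMonoidalCategory C] (A : C) {B B' : C}
    (p : B ⟶ B') : CategoryTheory.IsPullback (snd A B) (A ◁ p) p (snd A B') := by
  refine ⟨⟨(whiskerLeft_snd A p).symm⟩, ⟨Limits.PullbackCone.IsLimit.mk _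
    (fun c => lift (c.snd ≫ fst A B') c.fst) (fun c => lift_snd _ _) (fun c => ?_) (fun c m h1 h2 => ?_)⟩⟩
  · exact CartesianMonoidalCategory.hom_ext _ _ (by simp) (by simpa using c.condition)
  · exact CartesianMonoidalCategory.hom_ext _ _ (by simp [← h2]) (by simpa using h1)

theorem isPullback_whiskerRight' {C : Type*} [Category C] [CartesianMonoidalCategory C] (A : C) {B B' : C}
    (p : B ⟶ B') : CategoryTheory.IsPullback (fst B A) (p ▷ A) p (fst B' A) := by
  refine ⟨⟨(whiskerRight_fst p A).symm⟩, ⟨Limits.PullbackCone.IsLimit.mk _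
    (fun c => lift c.fst (c.snd ≫ snd B' A)) (fun c => lift_fst _ _) (fun c => ?_) (fun c m h1 h2 => ?_)⟩⟩
  · exact CartesianMonoidalCategory.hom_ext _ _ (by simpa using c.condition) (by simp)
  · exact CartesianMonoidalCategory.hom_ext _ _ (by simpa using h1) (by simp [← h2])

variable {k : Type u} [Field k] {X : Scheme.{u}} {s : X ⟶ Spec (CommRingCat.of k)}
  {G : Over (Spec (CommRingCat.of k))} [GrpObj G] [IsFinite G.hom] {T : Over X}
  (a : AlgGrp.Action (Red.bc s G) T)

/-- With only constant functions, there is no proper subtorsor. -/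
theorem isIso_subtorsor_of_bijective (ha : NonAbH1.IsTorsorFor Scheme.fppfPrecoverage a)
    (hbij : Function.Bijective (T.hom ≫ s).appTop.hom) [Nonempty X] [CompactSpace X]
    (H : Over (Spec (CommRingCat.of k))) [GrpObj H] (i : H ⟶ G) [IsMonHom i] [IsClosedImmersion i.left]
    (V : Over X) (j : V ⟶ T) [IsClosedImmersion j.left] (b : AlgGrp.Action (Red.bc s H) V)
    (hb : NonAbH1.IsTorsorFor Scheme.fppfPrecoverage b)
    (hj : AlgGrp.Action.IsEquivariant b (a.restrict ((Over.pullback s).map i)) j) : IsIso j := by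
  classical
  have hH : IsFinite H.hom := by rw [← Over.w i]; infer_instance
  have : IsAffine G.left := isAffine_of_isAffineHom G.hom
  have : Mono i := Over.mono_of_mono_left i
  obtain ⟨M, π, hMa, hπ1, hπ2, hπ3, hπ4, hinv, hfib⟩ := exists_coset_quotient i
  have hb' : NonAbH1.IsTorsorFor Scheme.fpqcPrecoverage b :=
    ⟨hb.1, hb.2.choose, Scheme.fppfPrecoverage_le_fpqcPrecoverage _ hb.2.choose_spec.1, hb.2.choose_spec.2⟩
  have ha' : NonAbH1.IsTorsorFor Scheme.fpqcPrecoverage a :=
    ⟨ha.1, ha.2.choose, Scheme.fppfPrecoverage_le_fpqcPrecoverage _ ha.2.choose_spec.1, ha.2.choose_spec.2⟩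
  have := Unr55.isFinite.{u}
  have := Sga84.flat_descendsAlong.{u}
  have hVfin : IsFinite V.hom := Sga84.hom_of_isTorsorFor @IsFinite
    (MorphismProperty.pullback_snd (P := @IsFinite) _ _ hH) hb'
  have hVflat : Flat V.hom := Sga84.hom_of_isTorsorFor @Flat
    (MorphismProperty.pullback_snd (P := @Flat) _ _ inferInstance) hb'
  have hVsurj : Surjective V.hom := Sga84.surjective_of_isLocallyTrivialFor hb'.2
  -- the cover of `T` by pairs of points in the same fibre
  let Tk := (Over.map s).obj T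
  let Vk := (Over.map s).obj V
  let jk : Vk ⟶ Tk := (Over.map s).map j
  let Wk := (Over.map s).obj (T ⊗ V)
  let pt : Wk ⟶ Tk := (Over.map s).map (fst T V)
  let pv : Wk ⟶ Vk := (Over.map s).map (snd T V)
  obtain ⟨g0, hg0, -⟩ := existsUnique_gact a ha.1 (pv ≫ jk) pt (by
    show (snd T V).left ≫ j.left ≫ T.hom = (fst T V).left ≫ T.hom
    rw [Over.w, Over.w, Over.w])
  have hjeq : ∀ {Z : Over (Spec (CommRingCat.of k))} (h : Z ⟶ H) (v : Z ⟶ Vk),
      gact b h v ≫ jk = gact a (h ≫ i) (v ≫ jk) := fun h v => by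
    rw [gact_equivariant b hj, gact_restrict]
  let ψ : Wk ⟶ M := g0 ≫ π
  have hcompat : ∀ {Z : Over (Spec (CommRingCat.of k))} (w₁ w₂ : Z ⟶ Wk),
      w₁ ≫ pt = w₂ ≫ pt → w₁ ≫ ψ = w₂ ≫ ψ := by
    intro Z w₁ w₂ e
    have e1 : ∀ w : Z ⟶ Wk, gact a (w ≫ g0) (w ≫ pv ≫ jk) = w ≫ pt := fun w => by
      rw [← comp_gact, hg0]
    have ebase : ∀ w : Z ⟶ Wk, (w ≫ pv).left ≫ V.hom = (w ≫ pt).left ≫ T.hom := fun w => by
      show (w.left ≫ (snd T V).left) ≫ V.hom = (w.left ≫ (fst T V).left) ≫ T.hom
      rw [Category.assoc, Category.assoc, Over.w, Over.w]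
    obtain ⟨h, hh, -⟩ := existsUnique_gact b hb.1 (w₁ ≫ pv) (w₂ ≫ pv) (by rw [ebase, ebase, e])
    have e2 : gact a ((w₂ ≫ g0) * (h ≫ i)) (w₁ ≫ pv ≫ jk) = gact a (w₁ ≫ g0) (w₁ ≫ pv ≫ jk) := by
      rw [gact_mul, e1, e, ← e1 w₂]
      congr 1
      rw [← Category.assoc, ← hjeq, hh, Category.assoc]
    show w₁ ≫ g0 ≫ π = w₂ ≫ g0 ≫ π
    rw [← Category.assoc, ← Category.assoc, ← gact_inj a ha.1 e2, hinv]
  have : IsFinite pt.left := MorphismProperty.pullback_fst (P := @IsFinite) T.hom V.hom hVfin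
  have : Flat pt.left := MorphismProperty.pullback_fst (P := @Flat) T.hom V.hom hVflat
  have : Surjective pt.left := MorphismProperty.pullback_fst (P := @Surjective) T.hom V.hom hVsurj
  have hker : ∀ {W : Scheme.{u}} (w₁ w₂ : W ⟶ Wk.left), w₁ ≫ pt.left = w₂ ≫ pt.left →
      w₁ ≫ ψ.left = w₂ ≫ ψ.left := by
    intro W w₁ w₂ e
    let Z : Over (Spec (CommRingCat.of k)) := Over.mk (w₁ ≫ Wk.hom)
    have hw₂ : w₂ ≫ Wk.hom = w₁ ≫ Wk.hom := by rw [← Over.w pt, ← Category.assoc, ← e, Category.assoc]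
    exact congrArg (fun f => Over.Hom.left f) (hcompat (Z := Z) (Over.homMk w₁ rfl) (Over.homMk w₂ hw₂)
      (Over.OverMorphism.ext e))
  let ψb : Tk.left ⟶ M.left := EffectiveEpi.desc pt.left ψ.left hker
  have hψb : pt.left ≫ ψb = ψ.left := EffectiveEpi.fac _ _ _
  let ψT : Tk ⟶ M := Over.homMk ψb (by
    rw [← cancel_epi pt.left, reassoc_of% hψb, Over.w, Over.w])
  have hψT : pt ≫ ψT = g0 ≫ π := Over.OverMorphism.ext hψb
  obtain ⟨m0, hm0⟩ := exists_point_of_bijective (T := Tk) hbij ψT
  -- the quotient is a point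
  let τ : G ⊗ Vk ⟶ Tk := gact a (fst G Vk) (snd G Vk ≫ jk)
  let w : G ⊗ Vk ⟶ Wk := Over.homMk (Limits.pullback.lift τ.left (snd G Vk).left (by
      rw [gact_base]
      show (snd G Vk).left ≫ j.left ≫ T.hom = _
      rw [Over.w])) (by
    show Limits.pullback.lift _ _ _ ≫ (Limits.pullback.fst T.hom V.hom ≫ T.hom) ≫ s = _
    rw [Category.assoc, Limits.pullback.lift_fst_assoc]
    exact Over.w τ)
  have hw1 : w ≫ pt = τ := Over.OverMorphism.ext (Limits.pullback.lift_fst _ _ _)
  have hw2 : w ≫ pv = snd G Vk := Over.OverMorphism.ext (Limits.pullback.lift_snd _ _ _)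
  have hg : w ≫ g0 = fst G Vk := by
    refine gact_inj a ha.1 (x := snd G Vk ≫ jk) ?_
    show gact a (w ≫ g0) (snd G Vk ≫ jk) = τ
    rw [← hw1, ← hg0, comp_gact, reassoc_of% hw2]
  have hV0 : Surjective Vk.hom := ⟨fun y => by
    obtain ⟨x⟩ := ‹Nonempty X›
    obtain ⟨v, -⟩ := hVsurj.surj x
    exact ⟨v, Subsingleton.elim _ _⟩⟩
  have hπc : π = toUnit G ≫ m0 := by
    have e : fst G Vk ≫ π = fst G Vk ≫ toUnit G ≫ m0 := by
      calc fst G Vk ≫ π = w ≫ g0 ≫ π := by rw [← Category.assoc, hg]
        _ = (τ ≫ toUnit Tk) ≫ m0 := by rw [← hψT, reassoc_of% hw1, hm0, Category.assoc]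
        _ = (fst G Vk ≫ toUnit G) ≫ m0 := by rw [toUnit_unique (τ ≫ toUnit Tk) (fst G Vk ≫ toUnit G)]
        _ = _ := Category.assoc _ _ _
    have : Epi (fst G Vk).left := by
      have : QuasiCompact Vk.hom := by
        have : CompactSpace Vk.left := QuasiCompact.compactSpace_of_compactSpace V.hom
        exact (quasiCompact_iff_compactSpace (f := Vk.hom)).mpr this
      have : Flat (fst G Vk).left := MorphismProperty.pullback_fst (P := @Flat) G.hom Vk.hom inferInstance
      have : QuasiCompact (fst G Vk).left :=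
        MorphismProperty.pullback_fst (P := @QuasiCompact) G.hom Vk.hom inferInstance
      have : Surjective (fst G Vk).left := MorphismProperty.pullback_fst (P := @Surjective) G.hom Vk.hom hV0
      infer_instance
    exact Over.OverMorphism.ext ((cancel_epi (fst G Vk).left).mp (congrArg (fun f => Over.Hom.left f) e))
  have hi : IsIso i := by
    obtain ⟨h, hh⟩ := hfib (1 : G ⟶ G) (𝟙 G) (by
      rw [hπc, ← Category.assoc, ← Category.assoc, toUnit_unique ((1 : G ⟶ G) ≫ toUnit G) (𝟙 G ≫ toUnit G)])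
    rw [_root_.one_mul] at hh
    have : IsSplitEpi i := IsSplitEpi.mk' ⟨h, hh.symm⟩
    exact isIso_of_mono_of_isSplitEpi i
  exact Torsor99.isIso_of_equivariant hb' (isTorsorFor_restrict _ ha').1 j hj

/-- A pointed torsor without proper subtorsors has only constant functions. -/
theorem bijective_of_forall_subtorsor [IsProper s] [IsReduced X] [ConnectedSpace X]
    (ha : NonAbH1.IsTorsorFor Scheme.fppfPrecoverage a) (t : Spec (CommRingCat.of k) ⟶ T.left)
    (ht : t ≫ T.hom ≫ s = 𝟙 _)
    (hNori : ∀ (H : Over (Spec (CommRingCat.of k))) [GrpObj H] (i : H ⟶ G) [IsMonHom i] [IsClosedImmersion i.left]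
        (V : Over X) (j : V ⟶ T) [IsClosedImmersion j.left] (b : AlgGrp.Action (Red.bc s H) V),
        NonAbH1.IsTorsorFor Scheme.fppfPrecoverage b →
        AlgGrp.Action.IsEquivariant b (a.restrict ((Over.pullback s).map i)) j → IsIso j) :
    Function.Bijective (T.hom ≫ s).appTop.hom := by
  classical
  have ha' : NonAbH1.IsTorsorFor Scheme.fpqcPrecoverage a :=
    ⟨ha.1, ha.2.choose, Scheme.fppfPrecoverage_le_fpqcPrecoverage _ ha.2.choose_spec.1, ha.2.choose_spec.2⟩
  have := Unr55.isFinite.{u}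
  have := Sga84.flat_descendsAlong.{u}
  have : MorphismProperty.DescendsAlong @LocallyOfFinitePresentation Unr55.fpqc.{u} := by infer_instance
  have hTfin : IsFinite T.hom := Sga84.hom_of_isTorsorFor @IsFinite
    (MorphismProperty.pullback_snd (P := @IsFinite) _ _ ‹_›) ha'
  have hTflat : Flat T.hom := Sga84.hom_of_isTorsorFor @Flat
    (MorphismProperty.pullback_snd (P := @Flat) _ _ inferInstance) ha'
  have hTlfp : LocallyOfFinitePresentation T.hom := Sga84.hom_of_isTorsorFor @LocallyOfFinitePresentation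
    (MorphismProperty.pullback_snd (P := @LocallyOfFinitePresentation) _ _ inferInstance) ha'
  have hTsurj : Surjective T.hom := Sga84.surjective_of_isLocallyTrivialFor ha'.2
  let Tk := (Over.map s).obj T
  have : CompactSpace Tk.left := QuasiCompact.compactSpace_of_compactSpace (T.hom ≫ s)
  have : QuasiSeparatedSpace Tk.left := quasiSeparatedSpace_of_quasiSeparated (T.hom ≫ s)
  have : IsAffine G.left := isAffine_of_isAffineHom G.hom
  have : IsAffine (G ⊗ G).left := by
    have : IsFinite (snd G G).left := MorphismProperty.pullback_snd (P := @IsFinite) G.hom G.hom ‹_›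
    exact isAffine_of_isAffineHom (snd G G).left
  -- the action on the affine hull
  let N := hull Tk
  let u : Tk ⟶ N := toHull Tk
  obtain ⟨α, hα⟩ := exists_hull_desc G Tk (gact a (fst G Tk) (snd G Tk) ≫ u)
  have hαpt : ∀ {Z : Over (Spec (CommRingCat.of k))} (g : Z ⟶ G) (x : Z ⟶ Tk),
      lift g (x ≫ u) ≫ α = gact a g x ≫ u := by
    intro Z g x
    rw [← lift_whiskerLeft_assoc (f := g) (g := x) (h := u), hα, ← Category.assoc, comp_gact, lift_fst, lift_snd]
  let act : AlgGrp.Action G N :=
    { act := α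
      one_act := by
        have : IsAffine (𝟙_ (Over (Spec (CommRingCat.of k)))).left := inferInstanceAs (IsAffine (Spec _))
        have : Flat (𝟙_ (Over (Spec (CommRingCat.of k)))).hom := inferInstanceAs (Flat (𝟙 _))
        refine hull_hom_ext _ Tk ?_
        rw [whisker_exchange_assoc, hα, leftUnitor_hom, whiskerLeft_snd, ← Category.assoc, comp_gact,
          whiskerRight_fst, whiskerRight_snd, MonObj.one_eq_one, MonObj.comp_one, gact_one]
      mul_act := by
        have : Flat (G ⊗ G).hom := by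
          show Flat (Limits.pullback.fst G.hom G.hom ≫ G.hom)
          infer_instance
        refine hull_hom_ext (G ⊗ G) Tk ?_
        let p₁ := fst (G ⊗ G) Tk ≫ fst G G
        let p₂ := fst (G ⊗ G) Tk ≫ snd G G
        have h1 : ((G ⊗ G) ◁ u) ≫ (MonObj.mul ▷ N) = lift (p₁ * p₂) (snd (G ⊗ G) Tk ≫ u) := by
          refine CartesianMonoidalCategory.hom_ext _ _ ?_ ?_
          · simp [p₁, p₂, MonObj.mul_eq_mul, MonObj.comp_mul]
          · simp
        have h2 : ((G ⊗ G) ◁ u) ≫ (α_ G G N).hom = lift p₁ (lift p₂ (snd (G ⊗ G) Tk ≫ u)) := by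
          refine CartesianMonoidalCategory.hom_ext _ _ ?_ ?_
          · simp [p₁]
          · refine CartesianMonoidalCategory.hom_ext _ _ ?_ ?_
            · simp [p₂]
            · simp
        show ((G ⊗ G) ◁ u) ≫ (MonObj.mul ▷ N) ≫ α = ((G ⊗ G) ◁ u) ≫ (α_ G G N).hom ≫ (G ◁ α) ≫ α
        rw [reassoc_of% h1, reassoc_of% h2, lift_whiskerLeft_assoc, hαpt, hαpt, hαpt, gact_mul] }
  have hone : ∀ {Z : Over (Spec (CommRingCat.of k))} (n : Z ⟶ N), Sga84.actPt act 1 n = n :=
    fun n => AlgGrp79.one_act' act n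
  have hmul : ∀ {Z : Over (Spec (CommRingCat.of k))} (g g' : Z ⟶ G) (n : Z ⟶ N),
      Sga84.actPt act (g * g') n = Sga84.actPt act g (Sga84.actPt act g' n) :=
    fun g g' n => Sga84.actPt_mul act g g' n
  -- the orbit map and the stabiliser
  let tk : 𝟙_ (Over (Spec (CommRingCat.of k))) ⟶ Tk := Over.homMk t ht
  let χ := tk ≫ u
  let χZ : ∀ Z : Over (Spec (CommRingCat.of k)), Z ⟶ N := fun Z => toUnit Z ≫ χ
  have hχc : ∀ {Z Z' : Over (Spec (CommRingCat.of k))} (f : Z ⟶ Z'), f ≫ χZ Z' = χZ Z := fun f => by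
    rw [← Category.assoc, toUnit_unique (f ≫ toUnit _) (toUnit _)]
  let μo : G ⟶ N := lift (𝟙 G) (χZ G) ≫ α
  have hμ : ∀ {Z : Over (Spec (CommRingCat.of k))} (g : Z ⟶ G), g ≫ μo = Sga84.actPt act g (χZ Z) := by
    intro Z g
    rw [← Category.assoc, comp_lift, Category.comp_id, hχc]
    rfl
  have hχcl : IsClosedImmersion χ.left := by
    have : IsClosedImmersion (χ.left ≫ N.hom) := by
      rw [Over.w]; exact inferInstanceAs (IsClosedImmersion (𝟙 _))
    exact IsClosedImmersion.of_comp χ.left N.hom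
  let H : Over (Spec (CommRingCat.of k)) :=
    Over.mk (Limits.pullback.fst μo.left χ.left ≫ G.hom)
  let i : H ⟶ G := Over.homMk (Limits.pullback.fst μo.left χ.left) rfl
  have hicl : IsClosedImmersion i.left :=
    MorphismProperty.pullback_fst (P := @IsClosedImmersion) μo.left χ.left hχcl
  have : Mono i := Over.mono_of_mono_left i
  have hHiff : ∀ {Z : Over (Spec (CommRingCat.of k))} (g : Z ⟶ G),
      (∃ h : Z ⟶ H, h ≫ i = g) ↔ Sga84.actPt act g (χZ Z) = χZ Z := by
    intro Z g
    constructor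
    · rintro ⟨h, rfl⟩
      rw [← hμ]
      refine Over.OverMorphism.ext ?_
      show (h.left ≫ Limits.pullback.fst μo.left χ.left) ≫ μo.left = (toUnit Z).left ≫ χ.left
      rw [Category.assoc, Limits.pullback.condition, ← Category.assoc]
      congr 1
      have e1 := Over.w h
      have e2 : Limits.pullback.snd μo.left χ.left = Limits.pullback.fst μo.left χ.left ≫ G.hom := by
        have := congrArg (· ≫ N.hom) (Limits.pullback.condition (f := μo.left) (g := χ.left))
        simp only [Category.assoc] at this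
        rw [Over.w, Over.w] at this
        rw [this]
        exact (Category.comp_id _).symm
      rw [e2]
      exact e1
    · intro e
      refine ⟨Over.homMk (Limits.pullback.lift g.left (toUnit Z).left ?_) ?_, ?_⟩
      · rw [← hμ] at e
        exact congrArg (fun f => Over.Hom.left f) e
      · show Limits.pullback.lift _ _ _ ≫ Limits.pullback.fst μo.left χ.left ≫ G.hom = Z.hom
        rw [Limits.pullback.lift_fst_assoc, Over.w]
      · exact Over.OverMorphism.ext (Limits.pullback.lift_fst _ _ _)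
  have hHi : ∀ {Z : Over (Spec (CommRingCat.of k))} (h : Z ⟶ H), Sga84.actPt act (h ≫ i) (χZ Z) = χZ Z :=
    fun h => (hHiff _).mp ⟨h, rfl⟩
  have hinvstab : ∀ {Z : Over (Spec (CommRingCat.of k))} (g : Z ⟶ G),
      Sga84.actPt act g (χZ Z) = χZ Z → Sga84.actPt act g⁻¹ (χZ Z) = χZ Z := by
    intro Z g e
    conv_lhs => rw [← e, ← hmul, inv_mul_cancel, hone]
  have h1 : ∃ z, z ≫ i = (1 : 𝟙_ _ ⟶ G) := (hHiff _).mpr (hone _)
  have h2 : ∃ z, z ≫ i = (fst H H ≫ i) * (snd H H ≫ i) := (hHiff _).mpr (by rw [hmul, hHi, hHi])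
  have h3 : ∃ z, z ≫ i = i⁻¹ := (hHiff _).mpr (hinvstab _ (by
    have := hHi (𝟙 H); rwa [Category.id_comp] at this))
  letI : GrpObj H := SGA3a.grpObjOfMono i h1 h2 h3
  have : IsMonHom i := SGA3a.isMonHom_grpObjOfMono i h1 h2 h3
  have hHfin : IsFinite H.hom := by rw [← Over.w i]; infer_instance
  -- the candidate subtorsor
  let V : Over X := Over.mk (Limits.pullback.fst u.left χ.left ≫ T.hom)
  let j : V ⟶ T := Over.homMk (Limits.pullback.fst u.left χ.left) rfl
  have hjcl : IsClosedImmersion j.left :=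
    MorphismProperty.pullback_fst (P := @IsClosedImmersion) u.left χ.left hχcl
  have : Mono j := Over.mono_of_mono_left j
  let Vk := (Over.map s).obj V
  let jk : Vk ⟶ Tk := (Over.map s).map j
  have hVu : jk ≫ u = χZ Vk := by
    refine Over.OverMorphism.ext ?_
    show Limits.pullback.fst u.left χ.left ≫ u.left = (toUnit Vk).left ≫ χ.left
    rw [Limits.pullback.condition]
    congr 1
    have e := congrArg (· ≫ N.hom) (Limits.pullback.condition (f := u.left) (g := χ.left))
    simp only [Category.assoc] at e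
    rw [Over.w, Over.w] at e
    exact (Category.comp_id _).symm.trans (e.symm.trans (Category.assoc _ _ _).symm)
  have hVlift : ∀ {W : Over X} (x : W ⟶ T), (Over.map s).map x ≫ u = χZ _ → ∃ y : W ⟶ V, y ≫ j = x := by
    intro W x e
    refine ⟨Over.homMk (Limits.pullback.lift x.left (toUnit ((Over.map s).obj W)).left
      (congrArg (fun f => Over.Hom.left f) e)) ?_, Over.OverMorphism.ext (Limits.pullback.lift_fst _ _ _)⟩
    show Limits.pullback.lift _ _ _ ≫ Limits.pullback.fst u.left χ.left ≫ T.hom = W.hom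
    rw [Limits.pullback.lift_fst_assoc, Over.w]
  have hugact : ∀ {Z : Over (Spec (CommRingCat.of k))} (g : Z ⟶ G) (x : Z ⟶ Tk),
      gact a g x ≫ u = Sga84.actPt act g (x ≫ u) := fun g x => (hαpt g x).symm
  obtain ⟨c, hc⟩ := hVlift ((Red.bc s H ◁ j) ≫ (a.restrict ((Over.pullback s).map i)).act) (by
    rw [show (Red.bc s H ◁ j) = lift (fst _ V) (snd _ V ≫ j) from by ext1 <;> simp, gact_act, gact_restrict, hugact]
    rw [Functor.map_comp, Category.assoc, hVu, hχc, hHi])
  let b : AlgGrp.Action (Red.bc s H) V :=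
    { act := c
      one_act := by
        rw [← cancel_mono j, Category.assoc, hc, ← whisker_exchange_assoc,
          (a.restrict ((Over.pullback s).map i)).one_act]
        exact leftUnitor_naturality j
      mul_act := by
        rw [← cancel_mono j]
        simp only [Category.assoc]
        rw [hc, ← whisker_exchange_assoc, (a.restrict ((Over.pullback s).map i)).mul_act,
          ← MonoidalCategory.whiskerLeft_comp_assoc, hc,
          MonoidalCategory.whiskerLeft_comp_assoc, associator_naturality_right_assoc] }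
  have hbj : AlgGrp.Action.IsEquivariant b (a.restrict ((Over.pullback s).map i)) j := hc
  have hbp : NonAbH1.IsPseudoTorsorSch b := by
    refine isPseudoTorsorSch_of_existsUnique b fun {Z} p q => ?_
    let e := (Over.mapPullbackAdj s).homEquiv Z
    let pk := (Over.map s).map (p ≫ j)
    let qk := (Over.map s).map (q ≫ j)
    have hu' : ∀ x : Z ⟶ V, (Over.map s).map (x ≫ j) ≫ u = χZ _ := fun x => by
      rw [Functor.map_comp, Category.assoc, hVu, hχc]
    obtain ⟨g, hg, huniq⟩ := existsUnique_gact a ha.1 pk qk (by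
      show (p.left ≫ j.left) ≫ T.hom = (q.left ≫ j.left) ≫ T.hom
      rw [Category.assoc, Category.assoc, Over.w, Over.w, Over.w])
    obtain ⟨h, hh⟩ := (hHiff g).mpr (by
      have := congrArg (· ≫ u) hg
      simp only [hugact, pk, qk, hu'] at this
      exact this)
    have hact : ∀ ξ : Z ⟶ Red.bc s H, (Over.map s).map ((lift ξ p ≫ b.act) ≫ j) =
        gact a ((e H).symm ξ ≫ i) pk := fun ξ => by
      rw [Category.assoc, show b.act ≫ j = _ from hbj, lift_whiskerLeft_assoc, gact_act, gact_restrict]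
    refine ⟨e H h, ?_, fun ξ hξ => ?_⟩
    · have h0 : (Over.map s).map ((lift (e H h) p ≫ b.act) ≫ j) = (Over.map s).map (q ≫ j) := by
        rw [hact, Equiv.symm_apply_apply, hh]; exact hg
      refine (cancel_mono j).mp (Over.OverMorphism.ext ?_)
      exact (congrArg (fun f => f.left) h0 :)
    · refine ((e H).symm.injective ((cancel_mono i).mp ?_))
      rw [Equiv.symm_apply_apply, hh]
      exact huniq _ (by show gact a _ pk = qk; rw [← hact]; exact congrArg (fun f => (Over.map s).map (f ≫ j)) hξ)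
  -- the orbit is a closed subscheme
  obtain ⟨M, π, hMa, hπ1, hπ2, hπ3, hπ4, hinv, hfib⟩ := exists_coset_quotient i
  have hπepi : ∀ {W W' : Over (Spec (CommRingCat.of k))} (p : W ⟶ W'), Flat p.left → Surjective p.left →
      QuasiCompact p.left → Epi p := fun p _ _ _ => Over.epi_of_epi_left p
  have hμinv : ∀ {W : Scheme.{u}} (w₁ w₂ : W ⟶ G.left), w₁ ≫ π.left = w₂ ≫ π.left →
      w₁ ≫ μo.left = w₂ ≫ μo.left := by
    intro W w₁ w₂ e
    let Z : Over (Spec (CommRingCat.of k)) := Over.mk (w₁ ≫ G.hom)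
    have hw₂ : w₂ ≫ G.hom = w₁ ≫ G.hom := by rw [← Over.w π, ← Category.assoc, ← e, Category.assoc]
    let p₁ : Z ⟶ G := Over.homMk w₁ rfl
    let p₂ : Z ⟶ G := Over.homMk w₂ hw₂
    obtain ⟨h, hh⟩ := hfib p₁ p₂ (Over.OverMorphism.ext e)
    have : p₁ ≫ μo = p₂ ≫ μo := by rw [hμ, hμ, hh, hmul, hHi]
    exact congrArg (fun f => Over.Hom.left f) this
  let μb : M ⟶ N := Over.homMk (EffectiveEpi.desc π.left μo.left hμinv) (by
    rw [← cancel_epi π.left, ← Category.assoc, EffectiveEpi.fac π.left μo.left hμinv, Over.w, Over.w])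
  have hμb : π ≫ μb = μo := Over.OverMorphism.ext (EffectiveEpi.fac π.left μo.left hμinv)
  have hμbmono : Mono μb := by
    refine ⟨fun {Z} x y e => ?_⟩
    let Z' := Limits.pullback (lift x y) (π ⊗ₘ π)
    let p : Z' ⟶ Z := Limits.pullback.fst (lift x y) (π ⊗ₘ π)
    let g₁ : Z' ⟶ G := Limits.pullback.snd (lift x y) (π ⊗ₘ π) ≫ fst G G
    let g₂ : Z' ⟶ G := Limits.pullback.snd (lift x y) (π ⊗ₘ π) ≫ snd G G
    have c1 : p ≫ x = g₁ ≫ π := by
      have := congrArg (· ≫ fst M M) (Limits.pullback.condition (f := lift x y) (g := π ⊗ₘ π))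
      simpa [g₁] using this
    have c2 : p ≫ y = g₂ ≫ π := by
      have := congrArg (· ≫ snd M M) (Limits.pullback.condition (f := lift x y) (g := π ⊗ₘ π))
      simpa [g₂] using this
    have e' : Sga84.actPt act g₁ (χZ Z') = Sga84.actPt act g₂ (χZ Z') := by
      rw [← hμ, ← hμ, ← hμb, ← reassoc_of% c1, ← reassoc_of% c2, e]
    obtain ⟨h, hh⟩ := (hHiff (g₁⁻¹ * g₂)).mpr (by rw [hmul, ← e', ← hmul, inv_mul_cancel, hone])
    have e3 : p ≫ x = p ≫ y := by
      rw [c1, c2, ← hinv g₁ h, hh, mul_inv_cancel_left]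
    let sq := AlgGrp79.isPullback_left (IsPullback.of_hasPullback (lift x y) (π ⊗ₘ π))
    have : (π ⊗ₘ π) = (π ▷ G) ≫ (M ◁ π) := MonoidalCategory.tensorHom_def π π
    have hpi : ∀ (P : MorphismProperty Scheme.{u}) [P.IsStableUnderBaseChange] [P.IsStableUnderComposition],
        P π.left → P (π ⊗ₘ π).left := by
      intro P _ _ hP
      rw [MonoidalCategory.tensorHom_def, Over.comp_left]
      refine P.comp_mem _ _ ?_ ?_
      · exact MorphismProperty.of_isPullback
          (AlgGrp79.isPullback_left (isPullback_whiskerRight' G π)) hP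
      · exact MorphismProperty.of_isPullback
          (AlgGrp79.isPullback_left (isPullback_whiskerLeft' M π)) hP
    have : Flat p.left := MorphismProperty.of_isPullback sq.flip (hpi @Flat hπ2)
    have : Surjective p.left := MorphismProperty.of_isPullback sq.flip (hpi @Surjective hπ4)
    have : QuasiCompact p.left := MorphismProperty.of_isPullback sq.flip (hpi @QuasiCompact inferInstance)
    have := hπepi p ‹_› ‹_› ‹_›
    exact (cancel_epi p).mp e3
  have hμbcl : IsClosedImmersion μb.left := by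
    have hMfin : IsFinite M.hom := by
      rw [HasAffineProperty.iff_of_isAffine (P := @IsFinite)]
      refine ⟨hMa, ?_⟩
      have hπff : π.left.appTop.hom.FaithfullyFlat := (Flat.flat_and_surjective_iff_faithfullyFlat_of_isAffine (f := π.left)).mp ⟨hπ2, hπ4⟩
      have hG : G.hom.appTop.hom.Finite :=
        ((HasAffineProperty.iff_of_isAffine (P := @IsFinite)).mp ‹IsFinite G.hom›).2
      rw [← Over.w π, Scheme.Hom.comp_appTop, CommRingCat.hom_comp] at hG
      have : IsNoetherianRing Γ(Spec (CommRingCat.of k), ⊤) :=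
        isNoetherianRing_of_ringEquiv k (Scheme.ΓSpecIso (CommRingCat.of k)).symm.commRingCatIsoToRingEquiv
      letI := M.hom.appTop.hom.toAlgebra
      letI := π.left.appTop.hom.toAlgebra
      letI := (π.left.appTop.hom.comp M.hom.appTop.hom).toAlgebra
      have : IsScalarTower Γ(Spec (CommRingCat.of k), ⊤) Γ(M.left, ⊤) Γ(G.left, ⊤) := .of_algebraMap_eq' rfl
      have : Module.Finite Γ(Spec (CommRingCat.of k), ⊤) Γ(G.left, ⊤) := hG
      have : Module.FaithfullyFlat Γ(M.left, ⊤) Γ(G.left, ⊤) := hπff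
      exact Module.Finite.of_injective
        (IsScalarTower.toAlgHom Γ(Spec (CommRingCat.of k), ⊤) Γ(M.left, ⊤) Γ(G.left, ⊤)).toLinearMap
        (FaithfulSMul.algebraMap_injective _ _)
    have : IsFinite (μb.left ≫ N.hom) := by rw [Over.w]; exact hMfin
    have : IsFinite μb.left := IsFinite.of_comp μb.left N.hom
    exact (IsClosedImmersion.iff_isFinite_and_mono μb.left).mpr ⟨inferInstance, inferInstance⟩
  -- the orbit is stable
  obtain ⟨αM, hαM⟩ : ∃ αM : G ⊗ M ⟶ M, αM ≫ μb = (G ◁ μb) ≫ α := by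
    let f := ((G ◁ μb) ≫ α).left
    let c0 := Limits.pullback.snd μb.left f
    let e : (G ⊗ G).left ⟶ Limits.pullback μb.left f :=
      Limits.pullback.lift ((fst G G * snd G G) ≫ π).left (G ◁ π).left (by
        show (((fst G G * snd G G) ≫ π) ≫ μb).left = ((G ◁ π) ≫ (G ◁ μb) ≫ α).left
        rw [Category.assoc, hμb, hμ, ← MonoidalCategory.whiskerLeft_comp_assoc, hμb, hmul]
        congr 1
        show lift (fst G G) (lift (snd G G) (χZ (G ⊗ G)) ≫ α) ≫ α = _
        congr 1
        refine CartesianMonoidalCategory.hom_ext _ _ ?_ ?_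
        · simp
        · simp only [lift_snd, whiskerLeft_snd, μo]
          rw [← Category.assoc, comp_lift, Category.comp_id, hχc])
    have he : e ≫ c0 = (G ◁ π).left := Limits.pullback.lift_snd _ _ _
    have : Flat (G ◁ π).left := MorphismProperty.of_isPullback
      (AlgGrp79.isPullback_left (isPullback_whiskerLeft' G π)) hπ2
    have : Surjective (G ◁ π).left := MorphismProperty.of_isPullback
      (AlgGrp79.isPullback_left (isPullback_whiskerLeft' G π)) hπ4
    have : QuasiCompact (G ◁ π).left := MorphismProperty.of_isPullback (P := @QuasiCompact)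
      (AlgGrp79.isPullback_left (isPullback_whiskerLeft' G π)) inferInstance
    have : StrongEpi (e ≫ c0) := by rw [he]; infer_instance
    have : StrongEpi c0 := strongEpi_of_strongEpi e c0
    have : IsIso c0 := isIso_of_mono_of_strongEpi c0
    have h : (inv c0 ≫ Limits.pullback.fst μb.left f) ≫ μb.left = f := by
      rw [Category.assoc, Limits.pullback.condition, IsIso.inv_hom_id_assoc]
    exact ⟨Over.homMk (inv c0 ≫ Limits.pullback.fst μb.left f) (by
      rw [← Over.w μb, ← Category.assoc, h, Over.w]), Over.OverMorphism.ext h⟩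
  -- everything lies over the orbit
  let cP := Limits.pullback.snd μb.left u.left
  have hfibre : ∀ (L : Type u) [Field L] (τ : Spec (CommRingCat.of L) ⟶ T.left),
      (∃ m : Spec (CommRingCat.of L) ⟶ M.left, m ≫ μb.left = τ ≫ u.left) →
      ∃ p : Limits.pullback T.hom (τ ≫ T.hom) ⟶ Limits.pullback μb.left u.left,
        p ≫ cP = Limits.pullback.fst T.hom (τ ≫ T.hom) := by
    rintro L _ τ ⟨m, hm⟩
    let R : Over (Spec (CommRingCat.of k)) :=
      Over.mk (Limits.pullback.fst T.hom (τ ≫ T.hom) ≫ T.hom ≫ s)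
    let τ₁ : R ⟶ Tk := Over.homMk (Limits.pullback.fst T.hom (τ ≫ T.hom)) rfl
    have hτ₀ : (Limits.pullback.snd T.hom (τ ≫ T.hom) ≫ τ) ≫ T.hom ≫ s = R.hom := by
      show _ = Limits.pullback.fst T.hom (τ ≫ T.hom) ≫ T.hom ≫ s
      rw [Limits.pullback.condition_assoc]; simp only [Category.assoc]
    let τ₀ : R ⟶ Tk := Over.homMk (Limits.pullback.snd T.hom (τ ≫ T.hom) ≫ τ) hτ₀
    obtain ⟨g, hg, -⟩ := existsUnique_gact a ha.1 τ₀ τ₁ (by
      show (Limits.pullback.snd T.hom (τ ≫ T.hom) ≫ τ) ≫ T.hom = _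
      rw [Category.assoc, ← Limits.pullback.condition]; rfl)
    let m₀ : R ⟶ M := Over.homMk (Limits.pullback.snd T.hom (τ ≫ T.hom) ≫ m) (by
      rw [← Over.w μb, Category.assoc, reassoc_of% hm, Over.w, ← hτ₀, Category.assoc]; rfl)
    have hm₀ : m₀ ≫ μb = τ₀ ≫ u := Over.OverMorphism.ext (by
      show (Limits.pullback.snd T.hom (τ ≫ T.hom) ≫ m) ≫ μb.left =
        (Limits.pullback.snd T.hom (τ ≫ T.hom) ≫ τ) ≫ u.left
      rw [Category.assoc, hm, Category.assoc])
    have e : (lift g m₀ ≫ αM) ≫ μb = τ₁ ≫ u := by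
      rw [Category.assoc, hαM, lift_whiskerLeft_assoc, hm₀, ← hg, hugact]
      rfl
    exact ⟨Limits.pullback.lift (lift g m₀ ≫ αM).left (Limits.pullback.fst T.hom (τ ≫ T.hom))
      (congrArg (fun f => Over.Hom.left f) e), Limits.pullback.lift_snd _ _ _⟩
  have hcP : IsClosedImmersion cP :=
    MorphismProperty.pullback_snd (P := @IsClosedImmersion) μb.left u.left hμbcl
  let pts : ∀ τ : T.left, τ ∈ Set.range cP →
      ∃ m : Spec (T.left.residueField τ) ⟶ M.left, m ≫ μb.left = T.left.fromSpecResidueField τ ≫ u.left := by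
    intro τ hτ
    let q := Limits.pullback.snd cP (T.left.fromSpecResidueField τ)
    have : IsClosedImmersion q := MorphismProperty.pullback_snd (P := @IsClosedImmersion) _ _ hcP
    have : Surjective q := ⟨fun y => by
      obtain ⟨z, hz⟩ := hτ
      obtain ⟨w, -, hw⟩ := Scheme.Pullback.exists_preimage_pullback (f := cP)
        (g := T.left.fromSpecResidueField τ) z y (by rw [hz, Scheme.fromSpecResidueField_apply])
      exact ⟨w, hw⟩⟩
    have : IsReduced (Spec (T.left.residueField τ)) := inferInstance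
    have : IsIso q := isIso_of_isClosedImmersion_of_surjective q
    refine ⟨inv q ≫ Limits.pullback.fst cP _ ≫ Limits.pullback.fst μb.left u.left, ?_⟩
    simp only [Category.assoc]
    rw [Limits.pullback.condition]
    show inv q ≫ Limits.pullback.fst cP _ ≫ cP ≫ u.left = _
    rw [← Category.assoc (Limits.pullback.fst cP (T.left.fromSpecResidueField τ)), Limits.pullback.condition,
      Category.assoc, IsIso.inv_hom_id_assoc]
  -- every fibre is contained in the orbit part
  have htop : ∀ τ : T.left, τ ∈ Set.range cP := by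
    let A : Set X := T.hom '' Set.range cP
    let B : Set X := T.hom '' (Set.range cP)ᶜ
    have hopen : IsOpen (Set.range cP) := by
      have hfin : T.left.toSpecΓ = u.left := rfl
      have hA : ((Scheme.ΓSpecIso (CommRingCat.of k)).inv ≫ (T.hom ≫ s).appTop).hom.Finite :=
        LimTop61.finite_appTop_of_isProper (CommRingCat.of k) (T.hom ≫ s)
      let φ : k →+* Γ(T.left, ⊤) := ((Scheme.ΓSpecIso (CommRingCat.of k)).inv ≫ (T.hom ≫ s).appTop).hom
      letI := φ.toAlgebra
      have : Module.Finite k Γ(T.left, ⊤) := hA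
      have : IsArtinianRing Γ(T.left, ⊤) := IsArtinianRing.of_finite k _
      have hd : DiscreteTopology N.left := inferInstanceAs (DiscreteTopology (PrimeSpectrum Γ(T.left, ⊤)))
      have : Set.range cP = u.left ⁻¹' Set.range μb.left := Scheme.Pullback.range_snd _ _
      rw [this]
      exact (isOpen_discrete (Set.range μb.left)).preimage u.left.continuous
    have hsat : ∀ τ τ' : T.left, T.hom τ = T.hom τ' → τ ∈ Set.range cP → τ' ∈ Set.range cP := by
      intro τ τ' e hτ
      obtain ⟨p, hp⟩ := hfibre _ (T.left.fromSpecResidueField τ) (pts τ hτ)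
      obtain ⟨w, hw, -⟩ := Scheme.Pullback.exists_preimage_pullback (f := T.hom)
        (g := T.left.fromSpecResidueField τ ≫ T.hom) τ' (IsLocalRing.closedPoint _)
        (by rw [Scheme.Hom.comp_apply, Scheme.fromSpecResidueField_apply, e])
      refine ⟨p w, ?_⟩
      rw [← Scheme.Hom.comp_apply, hp]
      exact hw
    have hAo : IsClopen A := ⟨T.hom.isClosedMap _ cP.isClosedEmbedding.isClosed_range,
      T.hom.isOpenMap _ hopen⟩
    obtain ⟨τ₀, hτ₀⟩ : ∃ τ₀, τ₀ ∈ Set.range cP := by
      have e : tk ≫ u = (lift (1 : 𝟙_ (Over (Spec (CommRingCat.of k))) ⟶ G) (χZ _) ≫ α) := by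
        show χ = Sga84.actPt act 1 (χZ _)
        rw [hone]
        show χ = toUnit _ ≫ χ
        rw [toUnit_unique (toUnit _) (𝟙 _), Category.id_comp]
      have e2 : ((1 : 𝟙_ (Over (Spec (CommRingCat.of k))) ⟶ G) ≫ π) ≫ μb = tk ≫ u := by
        rw [Category.assoc, hμb, hμ, e]
        rfl
      refine ⟨t (IsLocalRing.closedPoint k), ?_⟩
      let q := Limits.pullback.lift (f := μb.left) (g := u.left)
        ((1 : 𝟙_ (Over (Spec (CommRingCat.of k))) ⟶ G) ≫ π).left tk.left
        (congrArg (fun f => Over.Hom.left f) e2)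
      refine ⟨q (IsLocalRing.closedPoint k), ?_⟩
      rw [← Scheme.Hom.comp_apply]
      show (q ≫ cP) _ = _
      rw [Limits.pullback.lift_snd]
      rfl
    intro τ
    have hAu : A = Set.univ := hAo.eq_univ ⟨_, τ₀, hτ₀, rfl⟩
    obtain ⟨τ₁, hτ₁, e⟩ : T.hom τ ∈ A := hAu ▸ Set.mem_univ _
    exact hsat τ₁ τ e hτ₁
  have hiso : IsIso cP := isIso_of_fibres T.hom cP fun x => by
    obtain ⟨τ, rfl⟩ := hTsurj.surj x
    obtain ⟨p, hp⟩ := hfibre _ (T.left.fromSpecResidueField τ) (pts τ (htop τ))
    exact ⟨_, inferInstance, T.left.fromSpecResidueField τ ≫ T.hom, p, ⟨IsLocalRing.closedPoint _, by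
      exact (congrArg T.hom (Scheme.fromSpecResidueField_apply τ (IsLocalRing.closedPoint _)) :)⟩, hp⟩
  have hu'w : (inv cP ≫ Limits.pullback.fst μb.left u.left) ≫ μb.left = u.left := by
    rw [Category.assoc, Limits.pullback.condition, IsIso.inv_hom_id_assoc]
  let u' : Tk ⟶ M := Over.homMk (inv cP ≫ Limits.pullback.fst μb.left u.left) (by
    rw [← Over.w μb, ← Category.assoc, hu'w, Over.w])
  have hu' : u' ≫ μb = u := Over.OverMorphism.ext hu'w
  -- the candidate is flat and surjective over the base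
  let W2 := (Over.map s).obj (V ⊗ T)
  let qv : W2 ⟶ Vk := (Over.map s).map (fst V T)
  let qt : W2 ⟶ Tk := (Over.map s).map (snd V T)
  obtain ⟨gam, hgam, -⟩ := existsUnique_gact a ha.1 (qv ≫ jk) qt (by
    show ((fst V T).left ≫ j.left) ≫ T.hom = (snd V T).left ≫ T.hom
    rw [Category.assoc, Over.w, Over.w, Over.w])
  have hsq : gam ≫ π = qt ≫ u' := by
    refine (cancel_mono μb).mp ?_
    rw [Category.assoc, hμb, hμ, Category.assoc, hu', ← hgam, hugact, Category.assoc, hVu, hχc]
  have hpb : CategoryTheory.IsPullback gam qt π u' := by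
    have hv : ∀ {Z : Over (Spec (CommRingCat.of k))} (g : Z ⟶ G) (τ : Z ⟶ Tk), g ≫ π = τ ≫ u' →
        ∃! w : Z ⟶ W2, w ≫ gam = g ∧ w ≫ qt = τ := by
      intro Z g τ e
      have e1 : gact a g⁻¹ τ ≫ u = χZ Z := by
        have e2 : τ ≫ u = Sga84.actPt act g (χZ Z) := by rw [← hμ, ← hμb, ← hu', reassoc_of% e]
        rw [hugact, e2, ← hmul, inv_mul_cancel, hone]
      let v : Z ⟶ Vk := Over.homMk (Limits.pullback.lift (gact a g⁻¹ τ).left (toUnit Z).left
        (congrArg (fun f => Over.Hom.left f) e1)) (by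
          show Limits.pullback.lift _ _ _ ≫ (Limits.pullback.fst u.left χ.left ≫ T.hom) ≫ s = Z.hom
          rw [Category.assoc, Limits.pullback.lift_fst_assoc]
          exact Over.w (gact a g⁻¹ τ))
      have hvj : v ≫ jk = gact a g⁻¹ τ := Over.OverMorphism.ext (Limits.pullback.lift_fst _ _ _)
      have hvb : v.left ≫ V.hom = τ.left ≫ T.hom := by
        show Limits.pullback.lift _ _ _ ≫ Limits.pullback.fst u.left χ.left ≫ T.hom = _
        rw [Limits.pullback.lift_fst_assoc, gact_base]
      let w : Z ⟶ W2 := Over.homMk (Limits.pullback.lift v.left τ.left hvb) (by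
        show Limits.pullback.lift _ _ _ ≫ (Limits.pullback.fst V.hom T.hom ≫ V.hom) ≫ s = Z.hom
        rw [Category.assoc, Limits.pullback.lift_fst_assoc]
        exact Over.w v)
      have hw1 : w ≫ qv = v := Over.OverMorphism.ext (Limits.pullback.lift_fst _ _ _)
      have hw2 : w ≫ qt = τ := Over.OverMorphism.ext (Limits.pullback.lift_snd _ _ _)
      refine ⟨w, ⟨?_, hw2⟩, ?_⟩
      · refine gact_inj a ha.1 (x := v ≫ jk) ?_
        have e5 : gact a (w ≫ gam) (v ≫ jk) = τ := by
          rw [← hw1, Category.assoc, ← comp_gact, hgam, hw2]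
        rw [e5, hvj, ← gact_mul, mul_inv_cancel, gact_one]
      · rintro w' ⟨hg', hτ'⟩
        have e3 : gact a g (w' ≫ qv ≫ jk) = τ := by rw [← hg', ← comp_gact, hgam, hτ']
        have e4 : w' ≫ qv ≫ jk = gact a g⁻¹ τ := by
          rw [← e3, ← gact_mul, inv_mul_cancel, gact_one]
        have : Mono jk.left := inferInstanceAs (Mono j.left)
        have : Mono jk := Over.mono_of_mono_left jk
        have e5 : w' ≫ qv = v := (cancel_mono jk).mp (by rw [Category.assoc, e4, hvj])
        refine Over.OverMorphism.ext (Limits.pullback.hom_ext ?_ ?_)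
        · exact congrArg (fun f => Over.Hom.left f) (e5.trans hw1.symm)
        · exact congrArg (fun f => Over.Hom.left f) (hτ'.trans hw2.symm)
    exact ⟨⟨hsq⟩, ⟨Limits.PullbackCone.IsLimit.mk _ (fun c => (hv c.fst c.snd c.condition).choose)
      (fun c => (hv c.fst c.snd c.condition).choose_spec.1.1)
      (fun c => (hv c.fst c.snd c.condition).choose_spec.1.2)
      (fun c m h1 h2 => (hv c.fst c.snd c.condition).choose_spec.2 m ⟨h1, h2⟩)⟩⟩
  have hL := AlgGrp79.isPullback_left hpb
  have hQ : Unr55.fpqc T.hom := ⟨⟨hTsurj, hTflat⟩, inferInstance⟩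
  have hVflat : Flat V.hom := MorphismProperty.of_pullback_snd_of_descendsAlong (P := @Flat)
    (g := T.hom) hQ (MorphismProperty.of_isPullback hL hπ2)
  have hVlfp : LocallyOfFinitePresentation V.hom := MorphismProperty.of_pullback_snd_of_descendsAlong
    (P := @LocallyOfFinitePresentation) (g := T.hom) hQ (MorphismProperty.of_isPullback hL hπ3)
  have hVsurj : Surjective V.hom := by
    have h1 : Surjective (Limits.pullback.snd V.hom T.hom) := MorphismProperty.of_isPullback hL hπ4
    have : Surjective (Limits.pullback.fst V.hom T.hom ≫ V.hom) := by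
      rw [Limits.pullback.condition]; infer_instance
    exact Surjective.of_comp (Limits.pullback.fst V.hom T.hom) V.hom
  have hbt : NonAbH1.IsTorsorFor Scheme.fppfPrecoverage b := by
    refine ⟨hbp, Presieve.singleton V.hom, V.hom.singleton_mem_fppfPrecoverage, ?_⟩
    rintro S' f ⟨⟩
    exact ⟨𝟙 _, Category.id_comp _⟩
  have hjiso : IsIso j := hNori H i V j b hbt hbj
  -- conclusion
  have huχ : u = χZ Tk := by
    have : IsIso jk := Functor.map_isIso (Over.map s) j
    rw [← cancel_epi jk, hVu, hχc]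
  have hTne : Nonempty T.left := ⟨t (IsLocalRing.closedPoint k)⟩
  have := isIso_toHull_appTop Tk
  have e : χ.left.appTop ≫ (T.hom ≫ s).appTop = u.left.appTop := by
    rw [huχ]
    exact (Scheme.Hom.comp_appTop _ _).symm
  have : Nonempty (⊤ : T.left.Opens) := ⟨⟨t (IsLocalRing.closedPoint k), trivial⟩⟩
  have : Nontrivial Γ(T.left, ⊤) := inferInstance
  refine ⟨?_, fun x => ?_⟩
  · have hk : IsField Γ(Spec (CommRingCat.of k), ⊤) :=
      (Scheme.ΓSpecIso (CommRingCat.of k)).commRingCatIsoToRingEquiv.toMulEquiv.isField (Field.toIsField k)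
    let := hk.toField
    exact RingHom.injective _
  · obtain ⟨y, hy⟩ := ((ConcreteCategory.isIso_iff_bijective u.left.appTop).mp ‹_›).2 x
    exact ⟨χ.left.appTop y, by rw [← hy, ← e]; rfl⟩

end Groth.Agent.Tors37
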