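import Mathlib.AlgebraicGeometry.Morphisms.FlatRank
import Groth.Agent.S6266

/-! A finite morphism to a reduced scheme with fibres of constant rank is flat and finitely presented. -/

set_option autoImplicit false
set_option backward.isDefEq.respectTransparency false
universe u

open CategoryTheory CategoryTheory.Limits AlgebraicGeometry TensorProduct

namespace Groth.Agent.Tors37

theorem flat_of_finrank_fibre {X Y : Scheme.{u}} (f : X ⟶ Y) [IsReduced Y] [IsFinite f] (n : ℕ)
    (h : ∀ (K : Type u) [Field K] (y : Spec (CommRingCat.of K) ⟶ Y),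
      (pullback.snd f y).finrank (IsLocalRing.closedPoint K) = n) :
    Flat f ∧ LocallyOfFinitePresentation f := by
  wlog hY : ∃ R, Y = Spec R generalizing X Y with H
  · suffices hU : ∀ i, Flat (Y.affineCover.pullbackHom f i) ∧
        LocallyOfFinitePresentation (Y.affineCover.pullbackHom f i) from
      ⟨(IsZariskiLocalAtTarget.iff_of_openCover (P := @Flat) Y.affineCover).mpr fun i => (hU i).1,
        (IsZariskiLocalAtTarget.iff_of_openCover (P := @LocallyOfFinitePresentation) Y.affineCover).mpr
          fun i => (hU i).2⟩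
    intro i
    have : IsReduced (Y.affineCover.X i) := isReduced_of_isOpenImmersion (Y.affineCover.f i)
    refine H (pullback.snd f (Y.affineCover.f i)) (fun K _ y => ?_) ⟨_, rfl⟩
    rw [← h K (y ≫ Y.affineCover.f i), ← pullbackLeftPullbackSndIso_hom_snd f (Y.affineCover.f i) y,
      Scheme.Hom.finrank_comp_left_of_isIso]
  obtain ⟨R, rfl⟩ := hY
  wlog hX : ∃ S, X = Spec S generalizing X with H
  · have : IsAffine X := isAffine_of_isAffineHom f
    obtain ⟨h1, h2⟩ := H (X.isoSpec.inv ≫ f) (fun K _ y => by
      rw [← h K y]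
      have hp : IsPullback (pullback.fst (X.isoSpec.inv ≫ f) y ≫ X.isoSpec.inv)
          (pullback.snd (X.isoSpec.inv ≫ f) y) f y := by
        simpa using (IsPullback.of_hasPullback (X.isoSpec.inv ≫ f) y).paste_horiz
          (IsPullback.of_horiz_isIso ⟨by simp⟩ : IsPullback X.isoSpec.inv (X.isoSpec.inv ≫ f) f (𝟙 _))
      rw [← hp.isoPullback_hom_snd, Scheme.Hom.finrank_comp_left_of_isIso]) ⟨_, rfl⟩
    exact ⟨(MorphismProperty.cancel_left_of_respectsIso @Flat _ _).mp h1,
      (MorphismProperty.cancel_left_of_respectsIso @LocallyOfFinitePresentation _ _).mp h2⟩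
  obtain ⟨S, rfl⟩ := hX
  obtain ⟨φ, rfl⟩ := Spec.map_surjective f
  have hfin : φ.hom.Finite := (IsFinite.SpecMap_iff (f := φ)).mp inferInstance
  algebraize [φ.hom]
  have : _root_.IsReduced R := (affine_isReduced_iff R).mp inferInstance
  have hc : IsLocallyConstant (fun p : PrimeSpectrum R =>
      Module.finrank p.asIdeal.ResidueField (p.asIdeal.ResidueField ⊗[R] S)) := by
    convert IsLocallyConstant.const (X := PrimeSpectrum R) n using 1
    funext p
    let K := p.asIdeal.ResidueField
    rw [← h K (Spec.map (CommRingCat.ofHom (algebraMap R K)))]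
    let e := (pullbackSymmetry _ _) ≪≫ pullbackSpecIso R K S
    have he : e.hom ≫ Spec.map (CommRingCat.ofHom (algebraMap K (K ⊗[R] S))) =
        pullback.snd (Spec.map φ) (Spec.map (CommRingCat.ofHom (algebraMap R K))) := by
      simp only [e, Iso.trans_hom, Category.assoc]
      erw [pullbackSpecIso_hom_fst, pullbackSymmetry_hom_comp_fst]
      rfl
    have : IsFinite (Spec.map (CommRingCat.ofHom (algebraMap K (K ⊗[R] S)))) := by
      rw [← MorphismProperty.cancel_left_of_respectsIso @IsFinite e.hom, he]; infer_instance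
    have : Flat (Spec.map (CommRingCat.ofHom (algebraMap K (K ⊗[R] S)))) := by
      rw [← MorphismProperty.cancel_left_of_respectsIso @Flat e.hom, he]; infer_instance
    rw [← he, Scheme.Hom.finrank_comp_left_of_isIso]
    exact ((Scheme.Hom.finrank_SpecMap_algebraMap K (K ⊗[R] S) (IsLocalRing.closedPoint K)).trans
      (congrFun (Module.rankAtStalk_eq_finrank_of_free (R := K) (M := K ⊗[R] S)) _)).symm
  obtain ⟨-, hproj⟩ := (Groth.Agent.S6266.result R S).mpr ⟨inferInstance, hc⟩
  refine ⟨Flat.SpecMap_iff.mpr ?_, (HasRingHomProperty.Spec_iff (P := @LocallyOfFinitePresentation)).mpr ?_⟩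
  · rw [RingHom.Flat]; infer_instance
  · have := Module.finitePresentation_of_projective R S
    exact Algebra.FinitePresentation.of_finitePresentation R S

end Groth.Agent.Tors37
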