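import Mathlib.CategoryTheory.Monoidal.Cartesian.Grp
import Mathlib.CategoryTheory.Limits.HasLimits

/-! A limit of group objects is a limit of the underlying objects, when that limit exists. -/

set_option autoImplicit false
set_option backward.isDefEq.respectTransparency false
universe v u

open CategoryTheory CategoryTheory.Limits MonoidalCategory CartesianMonoidalCategory MonObj Opposite

namespace Groth.Agent.Tors37

variable {C : Type u} [Category.{v} C] [CartesianMonoidalCategory C] {I : Type v} [SmallCategory I]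
  (DG : I ⥤ Grp C)

/-- The compatible families of points. -/
def famSubgroup (Z : C) : Subgroup (∀ i, Z ⟶ (DG.obj i).X) where
  carrier := {x | ∀ (i j : I) (φ : i ⟶ j), x i ≫ (DG.map φ).hom.hom = x j}
  mul_mem' hx hy i j φ := by rw [Pi.mul_apply, MonObj.mul_comp, hx i j φ, hy i j φ]; rfl
  one_mem' i j φ := MonObj.one_comp _
  inv_mem' hx i j φ := by rw [Pi.inv_apply, GrpObj.inv_comp, hx i j φ]; rfl

/-- The presheaf of compatible families. -/
def famPresheaf : Cᵒᵖ ⥤ GrpCat.{v} where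
  obj Z := GrpCat.of (famSubgroup DG Z.unop)
  map f := GrpCat.ofHom
    { toFun := fun x => ⟨fun i => f.unop ≫ x.1 i, fun a b φ => by rw [Category.assoc, x.2 a b φ]⟩
      map_one' := Subtype.ext (funext fun i => MonObj.comp_one _)
      map_mul' := fun x y => Subtype.ext (funext fun i => MonObj.comp_mul _ _ _) }
  map_id Z := GrpCat.hom_ext (MonoidHom.ext fun x => Subtype.ext (funext fun i => Category.id_comp _))
  map_comp f g := GrpCat.hom_ext (MonoidHom.ext fun x => Subtype.ext (funext fun i => Category.assoc _ _ _))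

theorem nonempty_isLimit_forget [HasLimit (DG ⋙ Grp.forget C)] {c : Cone DG} (hc : IsLimit c) :
    Nonempty (IsLimit ((Grp.forget C).mapCone c)) := by
  let l := limit (DG ⋙ Grp.forget C)
  let π : ∀ i, l ⟶ (DG.obj i).X := fun i => limit.π (DG ⋙ Grp.forget C) i
  have hπ : ∀ {i j : I} (φ : i ⟶ j), π i ≫ (DG.map φ).hom.hom = π j := fun φ =>
    limit.w (DG ⋙ Grp.forget C) φ
  let lift' : ∀ {Z : C} (x : ∀ i, Z ⟶ (DG.obj i).X), (∀ {i j : I} (φ : i ⟶ j), x i ≫ (DG.map φ).hom.hom = x j) →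
      (Z ⟶ l) := fun {Z} x hx => limit.lift (DG ⋙ Grp.forget C) ⟨Z,
        { app := x
          naturality := fun i j φ => (Category.id_comp _).trans (hx φ).symm }⟩
  have lift'_π : ∀ {Z : C} (x : ∀ i, Z ⟶ (DG.obj i).X) (hx : ∀ {i j : I} (φ : i ⟶ j), x i ≫ (DG.map φ).hom.hom = x j)
      (i : I), lift' x hx ≫ π i = x i := fun x hx i => limit.lift_π _ i
  have hom_ext : ∀ {Z : C} (f g : Z ⟶ l), (∀ i, f ≫ π i = g ≫ π i) → f = g := fun f g h => limit.hom_ext h
  let α : (famPresheaf DG ⋙ forget GrpCat).RepresentableBy l :=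
    { homEquiv := fun {Z} =>
        { toFun := fun f => ⟨fun i => f ≫ π i, fun a b φ => by rw [Category.assoc, hπ φ]⟩
          invFun := fun x => lift' x.1 (fun φ => x.2 _ _ φ)
          left_inv := fun f => hom_ext _ _ fun i => lift'_π (fun j => f ≫ π j) (fun φ => by rw [Category.assoc, hπ φ]) i
          right_inv := fun x => Subtype.ext (funext fun i => lift'_π x.1 (fun φ => x.2 _ _ φ) i) }
      homEquiv_comp := fun {X Y} f g => Subtype.ext (funext fun i => Category.assoc f g (π i)) }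
  let : GrpObj l := GrpObj.ofRepresentableBy l (famPresheaf DG) α
  let e := yonedaGrpObjIsoOfRepresentableBy l (famPresheaf DG) α
  have hmul : ∀ {Z : C} (f g : Z ⟶ l) (i : I), (f * g) ≫ π i = (f ≫ π i) * (g ≫ π i) :=
    fun {Z} f g i => congrFun (congrArg Subtype.val (map_mul (e.hom.app (op Z)).hom f g)) i
  have hone : ∀ {Z : C} (i : I), (1 : Z ⟶ l) ≫ π i = 1 :=
    fun {Z} i => congrFun (congrArg Subtype.val (map_one (e.hom.app (op Z)).hom)) i
  have hmon : ∀ i, IsMonHom (π i) := fun i =>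
    { one_hom := by rw [MonObj.one_eq_one, hone i, MonObj.one_eq_one]
      mul_hom := by
        rw [MonObj.mul_eq_mul, hmul, MonObj.mul_eq_mul, MonObj.comp_mul, tensorHom_fst, tensorHom_snd] }
  let L : Cone DG := ⟨Grp.mk l,
    { app := fun i => (Grp.homMk (A := Grp.mk l) (B := DG.obj i) (π i) : Grp.mk l ⟶ DG.obj i)
      naturality := fun i j φ => Grp.hom_ext _ _ ((Category.id_comp _).trans (hπ φ).symm) }⟩
  let cπ : ∀ i, c.pt.X ⟶ (DG.obj i).X := fun i => (c.π.app i).hom.hom
  let u : c.pt.X ⟶ l := lift' cπ (fun φ => congrArg (fun t => t.hom.hom) (c.w φ))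
  have hu : ∀ i, u ≫ π i = cπ i := fun i => lift'_π cπ (fun φ => congrArg (fun t => t.hom.hom) (c.w φ)) i
  have hu' : ∀ {Z : C} (f : Z ⟶ c.pt.X) (i : I), f ≫ u ≫ π i = f ≫ cπ i := fun f i => by rw [hu]
  have humon : IsMonHom u :=
    { one_hom := hom_ext _ _ fun i => by
        rw [MonObj.one_eq_one, MonObj.one_eq_one, Category.assoc, hu, hone]
        exact MonObj.one_comp (M := c.pt.X) (c.π.app i).hom.hom
      mul_hom := hom_ext _ _ fun i => by
        rw [MonObj.mul_eq_mul, MonObj.mul_eq_mul, MonObj.comp_mul, tensorHom_fst, tensorHom_snd, Category.assoc,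
          hu, hmul, Category.assoc, Category.assoc, hu]
        exact MonObj.mul_comp (M := c.pt.X) _ _ (c.π.app i).hom.hom }
  let v : L.pt ⟶ c.pt := hc.lift L
  let v' : l ⟶ c.pt.X := v.hom.hom
  have hv : ∀ i, v' ≫ cπ i = π i := fun i =>
    congrArg (fun t : L.pt ⟶ DG.obj i => t.hom.hom) (hc.fac L i)
  have h1 : (Grp.homMk (A := c.pt) (B := L.pt) u : c.pt ⟶ L.pt) ≫ v = 𝟙 c.pt := hc.hom_ext fun i => by
    rw [Category.id_comp, Category.assoc]
    apply Grp.hom_ext
    show u ≫ v' ≫ cπ i = cπ i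
    rw [hv, hu]
  have h2 : v' ≫ u = 𝟙 l := hom_ext _ _ fun i => by
    rw [Category.id_comp, Category.assoc, hu, hv]
  exact ⟨(limit.isLimit (DG ⋙ Grp.forget C)).ofIsoLimit
    (Cone.ext ⟨v', u, h2, congrArg (fun t : c.pt ⟶ c.pt => t.hom.hom) h1⟩ fun i => (hv i).symm)⟩

end Groth.Agent.Tors37
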