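import Groth.Agent.WildQuot51.Purity
import Groth.Agent.CAlg6.RegularNormal

/-! Hartogs across regular points of dimension at least two, without global Noetherian hypotheses. -/

set_option autoImplicit false
universe u

open IsLocalRing

namespace Groth.Agent.Tors37.Hartogs

variable {R : Type u} [CommRing R]

/-- All primes containing the family are regular of dimension at least two. -/
def Good {ι : Type*} (f : ι → R) : Prop :=
  ∀ (q : Ideal R) [q.IsPrime], (∀ i, f i ∈ q) →
    IsRegularLocalRing (Localization.AtPrime q) ∧ (2 : WithBot ℕ∞) ≤ ringKrullDim (Localization.AtPrime q)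

variable {ι : Type*} {f : ι → R}

theorem isDomain_of_good (h : Good f) {p : Ideal R} [p.IsPrime] (hp : ∀ i, f i ∈ p) :
    IsDomain (Localization.AtPrime p) :=
  have := (h p hp).1
  CAlg1.isDomain_regular _

/-- Below a prime containing the family there is a member that does not vanish. -/
theorem exists_ne_zero (h : Good f) {p : Ideal R} [p.IsPrime] (hp : ∀ i, f i ∈ p) :
    ∃ i, algebraMap R (Localization.AtPrime p) (f i) ≠ 0 := by
  have := isDomain_of_good h hp
  by_contra hc
  push Not at hc
  let q : Ideal R := (⊥ : Ideal (Localization.AtPrime p)).under R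
  have : q.IsPrime := Ideal.IsPrime.comap _
  have h2 := (h q fun i => show algebraMap R (Localization.AtPrime p) (f i) ∈ (⊥ : Ideal (Localization.AtPrime p)) by
    rw [hc i]; exact Ideal.zero_mem _).2
  rw [IsLocalization.AtPrime.ringKrullDim_eq_height q (Localization.AtPrime q),
    IsLocalization.height_under p.primeCompl (⊥ : Ideal (Localization.AtPrime p)), Ideal.height_bot] at h2
  norm_cast at h2

theorem ring_eq_zero (h : Good f) (m : R) (hm : ∀ i, ∃ N : ℕ, f i ^ N * m = 0) : m = 0 := by
  by_contra hne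
  obtain ⟨p, hp, hle⟩ := Ideal.exists_le_maximal (LinearMap.ker (LinearMap.toSpanSingleton R R m)) (by
    rw [Ne, Ideal.eq_top_iff_one]; simpa using hne)
  have hm' : ∀ s, s * m = 0 → s ∈ p := fun s hs => hle (by simpa using hs)
  have hfp : ∀ i, f i ∈ p := fun i => by
    obtain ⟨N, hN⟩ := hm i
    exact hp.isPrime.mem_of_pow_mem N (hm' _ hN)
  have := isDomain_of_good h hfp
  obtain ⟨k, hk⟩ := exists_ne_zero h hfp
  obtain ⟨N, hN⟩ := hm k
  have h0 := congrArg (algebraMap R (Localization.AtPrime p)) hN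
  rw [map_mul, map_pow, map_zero, mul_eq_zero] at h0
  obtain ⟨s, hs⟩ := (IsLocalization.map_eq_zero_iff p.primeCompl _ m).mp
    (h0.resolve_left (pow_ne_zero _ hk))
  exact s.2 (hm' s hs)

theorem ring_exists_glue [Finite ι] (h : Good f) (N : ℕ) (a : ι → R)
    (ha : ∀ i j, f j ^ N * a i = f i ^ N * a j) : ∃ m, ∀ i, f i ^ N * m = a i := by
  let J : Ideal R :=
    { carrier := {r | ∃ m, ∀ i, f i ^ N * m = r * a i}
      add_mem' := fun {r s} ⟨m, hm⟩ ⟨n, hn⟩ => ⟨m + n, fun i => by rw [mul_add, hm, hn, add_mul]⟩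
      zero_mem' := ⟨0, fun i => by rw [mul_zero, zero_mul]⟩
      smul_mem' := fun c r ⟨m, hm⟩ => ⟨c * m, fun i => by rw [mul_left_comm, hm, smul_eq_mul, mul_assoc]⟩ }
  suffices hJ : J = ⊤ by
    obtain ⟨m, hm⟩ : (1 : R) ∈ J := hJ ▸ Submodule.mem_top
    exact ⟨m, fun i => by rw [hm i, one_mul]⟩
  by_contra hJ
  obtain ⟨p, hp, hle⟩ := Ideal.exists_le_maximal J hJ
  by_cases hfp : ∀ i, f i ∈ p
  · have hreg := (h p hfp).1
    let A := Localization.AtPrime p
    have : IsDomain A := isDomain_of_good h hfp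
    have : IsIntegrallyClosed A := CAlg6.isIntegrallyClosed_of_regular A
    obtain ⟨k, hk⟩ := exists_ne_zero h hfp
    let L := FractionRing A
    let φ : R →+* A := algebraMap R A
    have hinj : Function.Injective (algebraMap A L) := IsFractionRing.injective A L
    let z : L := algebraMap A L (φ (a k)) / algebraMap A L (φ (f k) ^ N)
    have hz : z * algebraMap A L (φ (f k) ^ N) = algebraMap A L (φ (a k)) :=
      div_mul_cancel₀ _ fun h0 => pow_ne_zero N hk (hinj (by rw [h0, map_zero]))
    have hcompat : ∀ i, φ (f i) ^ N * φ (a k) = φ (f k) ^ N * φ (a i) := fun i => by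
      rw [← map_pow, ← map_pow, ← map_mul, ← map_mul, ha k i]
    obtain ⟨c₀, s₀, hs₀, hc₀⟩ := WildQuot51.inLoc_of_forall_height_one (L := L) (maximalIdeal A) z fun Q hQ hQ1 _ => by
      have : (Q.under R).IsPrime := Ideal.IsPrime.comap _
      obtain ⟨j, hj⟩ : ∃ j, f j ∉ Q.under R := by
        by_contra hc
        push Not at hc
        have h2 := (h (Q.under R) hc).2
        rw [IsLocalization.AtPrime.ringKrullDim_eq_height (Q.under R) (Localization.AtPrime (Q.under R)),
          IsLocalization.height_under p.primeCompl Q, hQ1] at h2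
        norm_cast at h2
      refine ⟨φ (a j), φ (f j) ^ N, fun hm => hj (hQ.mem_of_pow_mem N hm), ?_⟩
      refine mul_right_cancel₀ (b := algebraMap A L (φ (f k) ^ N))
        (fun h0 => pow_ne_zero N hk (hinj (by rw [h0, map_zero]))) ?_
      rw [mul_right_comm, hz, ← map_mul, ← map_mul, mul_comm (φ (a k)), hcompat, mul_comm]
    obtain ⟨u, rfl⟩ := (notMem_maximalIdeal.mp hs₀)
    let c : A := c₀ * ↑u⁻¹
    have hc : ∀ i, φ (f i) ^ N * c = φ (a i) := fun i => by
      refine mul_left_cancel₀ (pow_ne_zero N hk) ?_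
      rw [← hcompat i, mul_left_comm]
      congr 1
      apply hinj
      rw [← hz, map_mul, mul_comm z]
      congr 1
      refine mul_right_cancel₀ (b := algebraMap A L ↑u) (fun h0 => u.ne_zero (hinj (by rw [h0, map_zero]))) ?_
      rw [hc₀, ← map_mul]
      simp [c]
    obtain ⟨⟨b, s⟩, hbs⟩ := IsLocalization.surj p.primeCompl c
    have ht : ∀ i, ∃ t : p.primeCompl, (t : R) * (f i ^ N * b) = t * (s * a i) := fun i => by
      refine (IsLocalization.eq_iff_exists p.primeCompl A).mp ?_
      rw [map_mul, map_mul, map_pow, ← hbs, ← mul_assoc, hc i, mul_comm]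
    choose t ht using ht
    have : Fintype ι := Fintype.ofFinite ι
    have hmem : ((∏ i, t i : p.primeCompl) : R) * s ∈ J := by
      refine ⟨(∏ i, t i : p.primeCompl) * b, fun i => ?_⟩
      obtain ⟨w, hw⟩ : t i ∣ ∏ j, t j := Finset.dvd_prod_of_mem _ (Finset.mem_univ i)
      rw [hw, Submonoid.coe_mul]
      linear_combination (w : R) * ht i
    exact ((∏ i, t i) * s : p.primeCompl).2 (by simpa using hle hmem)
  · push Not at hfp
    obtain ⟨k, hk⟩ := hfp
    exact hk (hp.isPrime.mem_of_pow_mem N (hle ⟨a k, fun i => ha k i⟩))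

variable {M : Type*} [AddCommGroup M] [Module R M] [Module.Finite R M] [Module.Projective R M]

theorem eq_zero (h : Good f) (m : M) (hm : ∀ i, ∃ N : ℕ, f i ^ N • m = 0) : m = 0 := by
  by_contra hne
  obtain ⟨σ, hσ⟩ : ∃ σ : M →ₗ[R] R, σ m ≠ 0 := by
    by_contra hc
    push Not at hc
    exact hne ((Module.forall_dual_apply_eq_zero_iff R m).mp hc)
  exact hσ (ring_eq_zero h _ fun i => by
    obtain ⟨N, hN⟩ := hm i
    exact ⟨N, by rw [← smul_eq_mul, ← map_smul, hN, map_zero]⟩)

theorem exists_glue [Finite ι] (h : Good f) (N : ℕ) (a : ι → M)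
    (ha : ∀ i j, f j ^ N • a i = f i ^ N • a j) : ∃ m, ∀ i, f i ^ N • m = a i := by
  obtain ⟨n, π, hπ⟩ := Module.Finite.exists_fin' R M
  obtain ⟨s, hs⟩ := Module.projective_lifting_property π LinearMap.id hπ
  choose r hr using fun l : Fin n => ring_exists_glue h N (fun i => s (a i) l) fun i j => by
    have := congrFun (congrArg s (ha i j)) l
    simpa using this
  refine ⟨π r, fun i => ?_⟩
  have : f i ^ N • r = s (a i) := funext fun l => hr l i
  rw [← map_smul, this]
  exact LinearMap.congr_fun hs (a i)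

end Groth.Agent.Tors37.Hartogs
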