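import Mathlib.RingTheory.PowerSeries.Inverse
import Mathlib.AlgebraicGeometry.Morphisms.Etale
import Mathlib.AlgebraicGeometry.Morphisms.Smooth
import Groth.Agent.SpPts86.SmoothSection
import Groth.Agent.Cohen12.Section

/-! Smooth surjective affine schemes over `R⟦X⟧` have sections over `R'⟦X⟧`, `R'` etale faithfully flat. -/

set_option autoImplicit false
set_option backward.isDefEq.respectTransparency.types false
universe u

open CategoryTheory CategoryTheory.Limits AlgebraicGeometry

namespace Groth.Agent.Tors37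

theorem exists_etale_faithfullyFlat_section {R : CommRingCat.{u}} {Y : Scheme.{u}} (f : Y ⟶ Spec R)
    [Smooth f] [Surjective f] :
    ∃ (R' : CommRingCat.{u}) (φ : R ⟶ R'), φ.hom.Etale ∧ φ.hom.FaithfullyFlat ∧
      ∃ s : Spec R' ⟶ Y, s ≫ f = Spec.map φ := by
  have h : ∀ x : Spec R, ∃ (W : Scheme.{u}) (_ : IsAffine W) (g : W ⟶ Spec R),
      Etale g ∧ x ∈ Set.range g ∧ ∃ t : W ⟶ Y, t ≫ f = g := by
    intro x
    obtain ⟨y, rfl⟩ := f.surjective x
    obtain ⟨S', g, s', hg, hgs, t, ht⟩ := SpPts86.exists_etale_section f y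
    obtain ⟨_, ⟨V, hV, rfl⟩, hsV, -⟩ :=
      S'.isBasis_affineOpens.exists_subset_of_mem_open (Set.mem_univ s') isOpen_univ
    exact ⟨(V : S'.Opens), hV, Scheme.Opens.ι V ≫ g, inferInstance,
      ⟨⟨s', hsV⟩, by rw [← hgs]; rfl⟩, Scheme.Opens.ι V ≫ t, by rw [Category.assoc, ht]⟩
  choose W hW g hg hx t ht using h
  obtain ⟨F, hF⟩ := (isCompact_univ (X := Spec R)).elim_finite_subcover (fun x => Set.range (g x))
    (fun x => (g x).isOpenMap.isOpen_range) (fun x _ => Set.mem_iUnion.mpr ⟨x, hx x⟩)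
  let X' : Scheme.{u} := ∐ fun x : F => W x
  have : ∀ x : F, IsAffine (W x) := fun x => hW x
  have : IsAffine X' := inferInstance
  let p : X' ⟶ Spec R := Sigma.desc fun x : F => g x
  have hp : Etale p := IsZariskiLocalAtSource.sigmaDesc (P := @Etale) fun x => hg x
  have hps : Surjective p := ⟨fun z => by
    obtain ⟨x, hxF, w, hw⟩ : ∃ x ∈ F, ∃ w, g x w = z := by
      simpa using hF (Set.mem_univ z)
    exact ⟨Sigma.ι (fun x : F => W x) ⟨x, hxF⟩ w, by rw [← Scheme.Hom.comp_apply, Sigma.ι_desc]; exact hw⟩⟩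
  obtain ⟨φ, hφ⟩ := Spec.map_surjective (X'.isoSpec.inv ≫ p)
  refine ⟨Γ(X', ⊤), φ, ?_, ?_, X'.isoSpec.inv ≫ Sigma.desc (fun x : F => t x), ?_⟩
  · rw [← HasRingHomProperty.Spec_iff (P := @Etale), hφ]; infer_instance
  · have h1 : Flat (Spec.map φ) := by rw [hφ]; infer_instance
    have h2 : Surjective (Spec.map φ) := by rw [hφ]; infer_instance
    exact (flat_and_surjective_SpecMap_iff _).mp ⟨h1, h2⟩
  · rw [hφ, Category.assoc]
    congr 1
    exact Sigma.hom_ext _ _ fun x => by simp [p, ht]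

theorem isAdicComplete_X (R : Type u) [CommRing R] :
    IsAdicComplete (Ideal.span {(PowerSeries.X : PowerSeries R)}) (PowerSeries R) := by
  have hmem : ∀ (n : ℕ) (f g : PowerSeries R),
      f ≡ g [SMOD (Ideal.span {(PowerSeries.X : PowerSeries R)} ^ n • ⊤ : Submodule (PowerSeries R) (PowerSeries R))] ↔
        ∀ m < n, PowerSeries.coeff m f = PowerSeries.coeff m g := fun n f g => by
    rw [SModEq.sub_mem, smul_eq_mul, Ideal.mul_top, Ideal.span_singleton_pow, Ideal.mem_span_singleton,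
      PowerSeries.X_pow_dvd_iff]
    simp [sub_eq_zero]
  refine { haus' := fun f hf => PowerSeries.ext fun m => ?_, prec' := fun f hf => ?_ }
  · simpa using (hmem (m + 1) f 0).1 (hf (m + 1)) m (by omega)
  · refine ⟨PowerSeries.mk fun k => PowerSeries.coeff k (f (k + 1)), fun n => (hmem n _ _).2 fun m hm => ?_⟩
    rw [PowerSeries.coeff_mk]
    exact ((hmem (m + 1) _ _).1 (hf (show m + 1 ≤ n by omega)) m (by omega)).symm

theorem exists_section_powerSeries {R : Type u} [CommRing R] {Y : Scheme.{u}} [IsAffine Y]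
    (f : Y ⟶ Spec (CommRingCat.of (PowerSeries R))) [Smooth f] [Surjective f] :
    ∃ (R' : Type u) (_ : CommRing R') (_ : Algebra R R'), Algebra.Etale R R' ∧ Module.FaithfullyFlat R R' ∧
      ∃ s : Spec (CommRingCat.of (PowerSeries R')) ⟶ Y,
        s ≫ f = Spec.map (CommRingCat.ofHom (PowerSeries.map (algebraMap R R'))) := by
  let c : CommRingCat.of (PowerSeries R) ⟶ CommRingCat.of R := CommRingCat.ofHom PowerSeries.constantCoeff
  obtain ⟨R', φ, het, hff, s₀, hs₀⟩ := exists_etale_faithfullyFlat_section (pullback.snd f (Spec.map c))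
  letI : Algebra R R' := φ.hom.toAlgebra
  refine ⟨R', inferInstance, inferInstance, het, RingHom.faithfullyFlat_algebraMap_iff.mp hff, ?_⟩
  obtain ⟨b, hb⟩ := Spec.map_surjective (Y.isoSpec.inv ≫ f)
  have hbs : b.hom.Smooth := by rw [← HasRingHomProperty.Spec_iff (P := @Smooth), hb]; infer_instance
  obtain ⟨ψ, hψ⟩ := Spec.map_surjective (s₀ ≫ pullback.fst f (Spec.map c) ≫ Y.isoSpec.hom)
  have hcomm : b ≫ ψ = c ≫ φ := by
    apply Spec.map_injective
    rw [Spec.map_comp, Spec.map_comp, hψ, hb, ← hs₀]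
    simp [pullback.condition]
  letI : Algebra (PowerSeries R) Γ(Y, ⊤) := b.hom.toAlgebra
  have : Algebra.Smooth (PowerSeries R) Γ(Y, ⊤) := hbs
  letI : Algebra (PowerSeries R) (PowerSeries R') := (PowerSeries.map (algebraMap R R')).toAlgebra
  let I := Ideal.span {(PowerSeries.X : PowerSeries R')}
  have : IsAdicComplete I (PowerSeries R') := isAdicComplete_X R'
  let ψ' : Γ(Y, ⊤) →ₐ[PowerSeries R] PowerSeries R' ⧸ I :=
    { ((Ideal.Quotient.mk I).comp (PowerSeries.C (R := R'))).comp ψ.hom with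
      commutes' := fun r => by
        show Ideal.Quotient.mk I (PowerSeries.C (ψ (b r))) = Ideal.Quotient.mk I (PowerSeries.map (algebraMap R R') r)
        rw [Ideal.Quotient.eq, Ideal.mem_span_singleton, PowerSeries.X_dvd_iff, map_sub,
          PowerSeries.constantCoeff_C]
        have e : ψ (b r) = φ (c r) := congr($hcomm r)
        rw [e, ← PowerSeries.coeff_zero_eq_constantCoeff_apply, PowerSeries.coeff_map,
          PowerSeries.coeff_zero_eq_constantCoeff_apply]
        exact sub_self _ }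
  obtain ⟨l, -⟩ := Cohen12.exists_lift_complete I ψ'
  refine ⟨Spec.map (CommRingCat.ofHom l.toRingHom) ≫ Y.isoSpec.inv, ?_⟩
  rw [Category.assoc, ← hb, ← Spec.map_comp]
  exact congrArg Spec.map (CommRingCat.hom_ext (RingHom.ext fun r => l.commutes r))

end Groth.Agent.Tors37
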