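import Groth.Prelude.Def_ActBC
import Groth.Agent.LimTop61.IsoDescent
import Groth.Agent.LimDesc62.Points
import Groth.Agent.Tors37.BC

/-! Actions of a constant group scheme descend to a stage of a limit. -/

set_option autoImplicit false
universe u

open CategoryTheory CategoryTheory.Limits MonoidalCategory CartesianMonoidalCategory MonObj AlgebraicGeometry
open ActBC

noncomputable section

namespace Groth.Agent.Tors37

section BcComp

variable {S₀ S S' S'' : Scheme.{u}}

theorem bcComp_assoc (f : S'' ⟶ S') (g : S' ⟶ S) (l : S ⟶ S₀) {p : S' ⟶ S₀} {e : S'' ⟶ S} {d : S'' ⟶ S₀}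
    (X : Over S₀) (hp : g ≫ l = p) (he : f ≫ g = e) (hd : f ≫ p = d) (hd' : e ≫ l = d) :
    (Over.pullback f).map (bcCompIso g l X hp).hom ≫ (bcCompIso f p X hd).hom =
      (bcCompIso f g (Red.bc l X) he).hom ≫ (bcCompIso e l X hd').hom := by
  ext
  apply pullback.hom_ext
  · simp only [Over.comp_left, Category.assoc, bcCompIso_hom_left_fst, pullback_map_left_fst_assoc,
      bcCompIso_hom_left_fst_assoc]
  · exact (Over.w _).trans (Over.w _).symm

theorem bcComp_μ (f : S'' ⟶ S') (g : S' ⟶ S) {d : S'' ⟶ S} (h : f ≫ g = d) (X Y : Over S) :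
    Functor.LaxMonoidal.μ (Over.pullback f) (Red.bc g X) (Red.bc g Y) ≫
        (Over.pullback f).map (Functor.LaxMonoidal.μ (Over.pullback g) X Y) ≫
        (bcCompIso f g (X ⊗ Y) h).hom =
      ((bcCompIso f g X h).hom ⊗ₘ (bcCompIso f g Y h).hom) ≫
        Functor.LaxMonoidal.μ (Over.pullback d) X Y := by
  refine Over.OverMorphism.ext (pullback.hom_ext ?_ ((Over.w _).trans (Over.w _).symm))
  simp only [Over.comp_left, Category.assoc, bcCompIso_hom_left_fst, pullback_map_left_fst_assoc]
  apply pullback.hom_ext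
  · simp only [Category.assoc]
    rw [μ_left_fst_fst, μ_left_fst_fst_assoc, μ_left_fst_fst, tensorHom_left_fst'_assoc,
      bcCompIso_hom_left_fst]
  · simp only [Category.assoc]
    rw [μ_left_fst_snd, μ_left_fst_snd_assoc, μ_left_fst_snd, tensorHom_left_snd'_assoc,
      bcCompIso_hom_left_fst]

/-- An action from a morphism which becomes an action after base change. -/
theorem exists_action_of_map (f : S' ⟶ S) {G X : Over S} [GrpObj G] (m : G ⊗ X ⟶ X)
    (h1 : (Over.pullback f).map ((η ▷ X) ≫ m) = (Over.pullback f).map (λ_ X).hom)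
    (h2 : (Over.pullback f).map ((μ[G] ▷ X) ≫ m) =
      (Over.pullback f).map ((α_ G G X).hom ≫ (G ◁ m) ≫ m)) :
    ∃ a : AlgGrp.Action (Red.bc f G) (Red.bc f X),
      a.act = Functor.LaxMonoidal.μ (Over.pullback f) G X ≫ (Over.pullback f).map m :=
  ⟨{ act := Functor.LaxMonoidal.μ (Over.pullback f) G X ≫ (Over.pullback f).map m
     one_act := by
      rw [Functor.obj.η_def, comp_whiskerRight, Category.assoc, Functor.LaxMonoidal.μ_natural_left_assoc,
        ← Functor.map_comp, h1]
      exact (Functor.LaxMonoidal.left_unitality (Over.pullback f) X).symm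
     mul_act := by
      rw [Functor.obj.μ_def, comp_whiskerRight, Category.assoc, Functor.LaxMonoidal.μ_natural_left_assoc,
        ← Functor.map_comp, h2, Functor.map_comp, Functor.map_comp, Functor.LaxMonoidal.associativity_assoc,
        ← Functor.LaxMonoidal.μ_natural_right_assoc, MonoidalCategory.whiskerLeft_comp, Category.assoc] },
    rfl⟩

/-- If a morphism becomes an action after base change, its two laws hold there. -/
theorem map_laws_of_action (f : S' ⟶ S) {G X : Over S} [GrpObj G] (m : G ⊗ X ⟶ X)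
    (b : AlgGrp.Action (Red.bc f G) (Red.bc f X))
    (hb : b.act = Functor.LaxMonoidal.μ (Over.pullback f) G X ≫ (Over.pullback f).map m) :
    (Over.pullback f).map ((η ▷ X) ≫ m) = (Over.pullback f).map (λ_ X).hom ∧
      (Over.pullback f).map ((μ[G] ▷ X) ≫ m) =
        (Over.pullback f).map ((α_ G G X).hom ≫ (G ◁ m) ≫ m) := by
  constructor
  · have h := b.one_act
    rw [hb, Functor.obj.η_def, comp_whiskerRight, Category.assoc, Functor.LaxMonoidal.μ_natural_left_assoc,
      ← Functor.map_comp] at h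
    rw [← cancel_epi (Functor.LaxMonoidal.ε (Over.pullback f) ▷ (Over.pullback f).obj X ≫
      Functor.LaxMonoidal.μ (Over.pullback f) (𝟙_ (Over S)) X), Category.assoc, Category.assoc,
      ← Functor.LaxMonoidal.left_unitality]
    exact h
  · have h := b.mul_act
    rw [hb, Functor.obj.μ_def, comp_whiskerRight, Category.assoc, Functor.LaxMonoidal.μ_natural_left_assoc,
      ← Functor.map_comp, MonoidalCategory.whiskerLeft_comp, Category.assoc,
      Functor.LaxMonoidal.μ_natural_right_assoc, ← Functor.LaxMonoidal.associativity_assoc,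
      ← Functor.map_comp, ← Functor.map_comp] at h
    exact (cancel_epi (Functor.LaxMonoidal.μ (Over.pullback f) G G ▷ (Over.pullback f).obj X ≫
      Functor.LaxMonoidal.μ (Over.pullback f) (G ⊗ G) X)).mp (by simpa only [Category.assoc] using h)

end BcComp

section Stage

variable {I : Type u} [SmallCategory I] [IsCofiltered I] (D : I ⥤ Scheme.{u}) (c : Cone D)
  (hc : IsLimit c) [∀ (i j : I) (f : i ⟶ j), IsAffineHom (D.map f)]

include hc

omit [IsCofiltered I] [∀ (i j : I) (f : i ⟶ j), IsAffineHom (D.map f)] hc in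
theorem bcComp_left_fst_fst {i j : I} (φ : j ⟶ i) (X : Over (D.obj i)) :
    (bcCompIso (c.π.app j) (D.map φ) X (c.w φ)).hom.left ≫ pullback.fst X.hom (c.π.app i) =
      pullback.fst (Red.bc (D.map φ) X).hom (c.π.app j) ≫ pullback.fst X.hom (D.map φ) :=
  bcCompIso_hom_left_fst _ _ _ _

/-- A morphism between base changes to the limit comes from a stage. -/
theorem exists_descend_hom {i : I} {A B : Over (D.obj i)} [CompactSpace A.left]
    [QuasiSeparatedSpace A.left] [LocallyOfFinitePresentation B.hom]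
    (f : Red.bc (c.π.app i) A ⟶ Red.bc (c.π.app i) B) :
    ∃ (j : I) (φ : j ⟶ i) (g : Red.bc (D.map φ) A ⟶ Red.bc (D.map φ) B),
      (Over.pullback (c.π.app j)).map g ≫ (bcCompIso (c.π.app j) (D.map φ) B (c.w φ)).hom =
        (bcCompIso (c.π.app j) (D.map φ) A (c.w φ)).hom ≫ f := by
  obtain ⟨j, φ, g, hg, hgu⟩ := LimTop61.exists_hom_descend D c hc A.hom B.hom
    (pullback.snd A.hom (c.π.app i)) (pullback.fst A.hom (c.π.app i)) (IsPullback.of_hasPullback _ _)
    (f.left ≫ pullback.fst B.hom (c.π.app i))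
    (by rw [Category.assoc, pullback.condition, ← Category.assoc]; exact congrArg (· ≫ _) (Over.w f))
  let g' : Red.bc (D.map φ) A ⟶ Red.bc (D.map φ) B :=
    Over.homMk (pullback.lift g (pullback.snd A.hom (D.map φ)) (by rw [hg, pullback.condition]))
      (pullback.lift_snd _ _ _)
  refine ⟨j, φ, g', Over.OverMorphism.ext (pullback.hom_ext ?_ ((Over.w _).trans (Over.w _).symm))⟩
  have e : pullback.fst (Red.bc (D.map φ) A).hom (c.π.app j) =
      (bcCompIso (c.π.app j) (D.map φ) A (c.w φ)).hom.left ≫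
        pullback.lift (pullback.fst A.hom (c.π.app i)) (pullback.snd A.hom (c.π.app i) ≫ c.π.app j)
          (by rw [Category.assoc, c.w φ]; exact pullback.condition) := by
    apply pullback.hom_ext
    · rw [Category.assoc, pullback.lift_fst]
      exact (bcComp_left_fst_fst D c φ A).symm
    · rw [Category.assoc, pullback.lift_snd, bcCompIso_hom_left_snd_assoc]
      exact pullback.condition
  rw [Over.comp_left, Over.comp_left, Category.assoc, Category.assoc, bcComp_left_fst_fst D c φ B,
    pullback_map_left_fst_assoc]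
  show pullback.fst _ (c.π.app j) ≫ pullback.lift g _ _ ≫ pullback.fst B.hom (D.map φ) = _
  rw [pullback.lift_fst, e, Category.assoc, hgu]

/-- Two morphisms which agree on the limit agree at a stage. -/
theorem exists_map_eq {i : I} {A B : Over (D.obj i)} [CompactSpace A.left]
    [LocallyOfFiniteType B.hom] (e₁ e₂ : A ⟶ B)
    (h : (Over.pullback (c.π.app i)).map e₁ = (Over.pullback (c.π.app i)).map e₂) :
    ∃ (j : I) (φ : j ⟶ i), (Over.pullback (D.map φ)).map e₁ = (Over.pullback (D.map φ)).map e₂ := by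
  let D' := LimTop61.bcDiagram D A.hom
  let r : Over i := Over.mk (𝟙 i)
  let qc := LimTop61.bcCone D c A.hom (pullback.fst A.hom (c.π.app i)) (pullback.snd A.hom (c.π.app i))
    pullback.condition
  let t : D' ⟶ (Functor.const (Over i)).obj (D.obj i) :=
    { app := fun j => pullback.fst A.hom (D.map j.hom) ≫ A.hom
      naturality := fun j k f => by
        dsimp [D', LimTop61.bcDiagram]
        rw [pullback.lift_fst_assoc, Category.comp_id] }
  have hh := congrArg (fun k => k.left ≫ pullback.fst B.hom (c.π.app i)) h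
  simp only [pullback_map_left_fst] at hh
  have hr : qc.π.app r ≫ pullback.fst A.hom (D.map r.hom) = pullback.fst A.hom (c.π.app i) :=
    pullback.lift_fst _ _ _
  obtain ⟨k, q, hk⟩ := Scheme.exists_hom_comp_eq_comp_of_locallyOfFiniteType D' t B.hom qc
    (LimTop61.isLimitBcCone D c hc A.hom _ _ (IsPullback.of_hasPullback _ _)) (i := r)
    (pullback.fst A.hom (D.map r.hom) ≫ e₁.left) (pullback.fst A.hom (D.map r.hom) ≫ e₂.left)
    (by simp [t]) (by simp [t]) (by rw [reassoc_of% hr, reassoc_of% hr]; exact hh)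
  have hq : D'.map q ≫ pullback.fst A.hom (D.map r.hom) = pullback.fst A.hom (D.map k.hom) :=
    pullback.lift_fst _ _ _
  rw [reassoc_of% hq, reassoc_of% hq] at hk
  refine ⟨k.left, k.hom, Over.OverMorphism.ext (pullback.hom_ext ?_ ((Over.w _).trans (Over.w _).symm))⟩
  rw [pullback_map_left_fst, pullback_map_left_fst]
  exact hk

end Stage

section Act

variable {I : Type u} [SmallCategory I] [IsCofiltered I] (D : I ⥤ Scheme.{u}) (c : Cone D)
  (hc : IsLimit c) [∀ (i j : I) (f : i ⟶ j), IsAffineHom (D.map f)]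
  {K : Scheme.{u}} (q : ∀ i, D.obj i ⟶ K) (hq : ∀ {i j : I} (φ : j ⟶ i), D.map φ ≫ q i = q j)
  (d : c.pt ⟶ K) (hd : ∀ i, c.π.app i ≫ q i = d) (G : Over K) [GrpObj G]
  {V : Over c.pt} (a : AlgGrp.Action (Red.bc d G) V)

/-- `m` becomes the action `a` over the limit. -/
def IsStageAct {i : I} {W : Over (D.obj i)} (cW : Red.bc (c.π.app i) W ≅ V)
    (m : Red.bc (q i) G ⊗ W ⟶ W) : Prop :=
  Functor.LaxMonoidal.μ (Over.pullback (c.π.app i)) (Red.bc (q i) G) W ≫
      (Over.pullback (c.π.app i)).map m ≫ cW.hom =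
    ((bcCompIso (c.π.app i) (q i) G (hd i)).hom ⊗ₘ cW.hom) ≫ a.act

omit [IsCofiltered I] [∀ (i j : I) (f : i ⟶ j), IsAffineHom (D.map f)] in
theorem isStageAct_step {i j : I} (φ : j ⟶ i) {W : Over (D.obj i)} (cW : Red.bc (c.π.app i) W ≅ V)
    (f : Red.bc (c.π.app i) (Red.bc (q i) G ⊗ W) ⟶ Red.bc (c.π.app i) W)
    (hf : Functor.LaxMonoidal.μ (Over.pullback (c.π.app i)) (Red.bc (q i) G) W ≫ f ≫ cW.hom =
      ((bcCompIso (c.π.app i) (q i) G (hd i)).hom ⊗ₘ cW.hom) ≫ a.act)
    (g : Red.bc (D.map φ) (Red.bc (q i) G ⊗ W) ⟶ Red.bc (D.map φ) W)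
    (hg : (Over.pullback (c.π.app j)).map g ≫ (bcCompIso (c.π.app j) (D.map φ) W (c.w φ)).hom =
        (bcCompIso (c.π.app j) (D.map φ) (Red.bc (q i) G ⊗ W) (c.w φ)).hom ≫ f) :
    IsStageAct D c q d hd G a (bcCompIso (c.π.app j) (D.map φ) W (c.w φ) ≪≫ cW)
      (((bcCompIso (D.map φ) (q i) G (hq φ)).inv ▷ Red.bc (D.map φ) W) ≫
        Functor.LaxMonoidal.μ (Over.pullback (D.map φ)) (Red.bc (q i) G) W ≫ g) := by
  have hG : (Over.pullback (c.π.app j)).map (bcCompIso (D.map φ) (q i) G (hq φ)).inv ≫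
      (bcCompIso (c.π.app j) (D.map φ) (Red.bc (q i) G) (c.w φ)).hom ≫
        (bcCompIso (c.π.app i) (q i) G (hd i)).hom = (bcCompIso (c.π.app j) (q j) G (hd j)).hom := by
    rw [← bcComp_assoc (c.π.app j) (D.map φ) (q i) G (hq φ) (c.w φ) (hd j) (hd i), ← Functor.map_comp_assoc,
      Iso.inv_hom_id, CategoryTheory.Functor.map_id, Category.id_comp]
  unfold IsStageAct
  rw [Functor.map_comp, Functor.map_comp, Iso.trans_hom]
  simp only [Category.assoc]
  rw [reassoc_of% hg, ← Functor.LaxMonoidal.μ_natural_left_assoc,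
    reassoc_of% bcComp_μ (c.π.app j) (D.map φ) (c.w φ) (Red.bc (q i) G) W, hf, ← tensorHom_id,
    tensorHom_comp_tensorHom_assoc, tensorHom_comp_tensorHom_assoc, Category.id_comp, Category.assoc, hG]

omit [IsCofiltered I] [∀ (i j : I) (f : i ⟶ j), IsAffineHom (D.map f)] in
theorem exists_stageIso {i : I} {W : Over (D.obj i)} (cW : Red.bc (c.π.app i) W ≅ V)
    (b : AlgGrp.Action (Red.bc (q i) G) W) (hb : IsStageAct D c q d hd G a cW b.act) :
    Nonempty (NonAbH1.EquivIso (b.bc (c.π.app i))
      (a.restrict (bcCompIso (c.π.app i) (q i) G (hd i)).hom)) :=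
  ⟨{ iso := cW
     comm := by
      rw [AlgGrp.Action.bc_act, AlgGrp.Action.restrict_act, Category.assoc]
      refine hb.trans ?_
      rw [← tensorHom_id, ← id_tensorHom, tensorHom_comp_tensorHom_assoc, Category.id_comp, Category.comp_id] }⟩

include hc hq

/-- The action descends to a morphism at a stage. -/
theorem exists_stageAct {i : I} {W : Over (D.obj i)} [CompactSpace (Red.bc (q i) G ⊗ W).left]
    [QuasiSeparatedSpace (Red.bc (q i) G ⊗ W).left] [LocallyOfFinitePresentation W.hom]
    (cW : Red.bc (c.π.app i) W ≅ V) :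
    ∃ (j : I) (φ : j ⟶ i) (m : Red.bc (q j) G ⊗ Red.bc (D.map φ) W ⟶ Red.bc (D.map φ) W),
      IsStageAct D c q d hd G a (bcCompIso (c.π.app j) (D.map φ) W (c.w φ) ≪≫ cW) m := by
  let f : Red.bc (c.π.app i) (Red.bc (q i) G ⊗ W) ⟶ Red.bc (c.π.app i) W :=
    inv (Functor.LaxMonoidal.μ (Over.pullback (c.π.app i)) (Red.bc (q i) G) W) ≫
      ((bcCompIso (c.π.app i) (q i) G (hd i)).hom ⊗ₘ cW.hom) ≫ a.act ≫ cW.inv
  obtain ⟨j, φ, g, hg⟩ := exists_descend_hom D c hc f
  exact ⟨j, φ, _, isStageAct_step D c q hq d hd G a φ cW f (by simp [f]) g hg⟩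

/-- A morphism which becomes an action over the limit is an action at a later stage. -/
theorem exists_action_stage {i : I} {W : Over (D.obj i)} (cW : Red.bc (c.π.app i) W ≅ V)
    [CompactSpace (𝟙_ (Over (D.obj i)) ⊗ W).left] [LocallyOfFiniteType W.hom]
    [CompactSpace ((Red.bc (q i) G ⊗ Red.bc (q i) G) ⊗ W).left]
    (m : Red.bc (q i) G ⊗ W ⟶ W) (hm : IsStageAct D c q d hd G a cW m) :
    ∃ (j : I) (φ : j ⟶ i) (b : AlgGrp.Action (Red.bc (q j) G) (Red.bc (D.map φ) W)),
      IsStageAct D c q d hd G a (bcCompIso (c.π.app j) (D.map φ) W (c.w φ) ≪≫ cW) b.act := by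
  let b₀ : AlgGrp.Action (Red.bc (c.π.app i) (Red.bc (q i) G)) (Red.bc (c.π.app i) W) :=
    { act := Functor.LaxMonoidal.μ (Over.pullback (c.π.app i)) (Red.bc (q i) G) W ≫
        (Over.pullback (c.π.app i)).map m
      one_act := by
        rw [← cancel_mono cW.hom, Category.assoc, Category.assoc, hm, ← tensorHom_id,
          tensorHom_comp_tensorHom_assoc, IsMonHom.one_hom, Category.id_comp, tensorHom_def',
          Category.assoc, a.one_act]
        exact leftUnitor_naturality _
      mul_act := by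
        rw [← cancel_mono cW.hom]
        simp only [Category.assoc, MonoidalCategory.whiskerLeft_comp]
        rw [hm, ← tensorHom_id, tensorHom_comp_tensorHom_assoc, IsMonHom.mul_hom, Category.id_comp,
          tensorHom_def' (f := _ ≫ μ[Red.bc d G]), comp_whiskerRight, Category.assoc, Category.assoc, a.mul_act]
        simp only [← MonoidalCategory.whiskerLeft_comp_assoc, Category.assoc]
        rw [← tensorHom_id, ← id_tensorHom, tensorHom_comp_tensorHom_assoc, Category.id_comp, Category.comp_id,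
          associator_naturality_assoc, ← id_tensorHom, tensorHom_comp_tensorHom_assoc, Category.comp_id,
          ← id_tensorHom, tensorHom_comp_tensorHom_assoc, Category.id_comp, Category.assoc, hm] }
  obtain ⟨h1, h2⟩ := map_laws_of_action (c.π.app i) m b₀ rfl
  obtain ⟨j₁, φ₁, e1⟩ := exists_map_eq D c hc _ _ h1
  obtain ⟨j₂, φ₂, e2⟩ := exists_map_eq D c hc _ _ h2
  obtain ⟨j, u, v, huv⟩ := IsCofiltered.cospan φ₁ φ₂
  have stable : ∀ {k : I} (ψ : k ⟶ i) (w : j ⟶ k) (hw : w ≫ ψ = u ≫ φ₁) {A : Over (D.obj i)} (x y : A ⟶ W),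
      (Over.pullback (D.map ψ)).map x = (Over.pullback (D.map ψ)).map y →
        (Over.pullback (D.map (u ≫ φ₁))).map x = (Over.pullback (D.map (u ≫ φ₁))).map y := by
    intro k ψ w hw A x y hxy
    have he : D.map w ≫ D.map ψ = D.map (u ≫ φ₁) := by rw [← D.map_comp, hw]
    rw [← cancel_epi (bcCompIso (D.map w) (D.map ψ) A he).hom, ← bcCompIso_hom_naturality,
      ← bcCompIso_hom_naturality, hxy]
  obtain ⟨b, hb⟩ := exists_action_of_map (D.map (u ≫ φ₁)) m (stable φ₁ u rfl _ _ e1)
    (stable φ₂ v huv.symm _ _ e2)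
  refine ⟨j, u ≫ φ₁, b.restrict (bcCompIso (D.map (u ≫ φ₁)) (q i) G (hq _)).inv, ?_⟩
  rw [AlgGrp.Action.restrict_act, hb]
  exact isStageAct_step D c q hq d hd G a (u ≫ φ₁) cW ((Over.pullback (c.π.app i)).map m) hm _
    (bcCompIso_hom_naturality _ _ _ _)

end Act

section Pseudo

variable {I : Type u} [SmallCategory I] [IsCofiltered I] (D : I ⥤ Scheme.{u}) (c : Cone D)
  (hc : IsLimit c) [∀ (i j : I) (f : i ⟶ j), IsAffineHom (D.map f)]

include hc

/-- A morphism over a stage which becomes an isomorphism over the limit does so at a stage. -/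
theorem exists_isIso_map {i : I} {A B : Over (D.obj i)} [CompactSpace B.left] [QuasiSeparatedSpace B.left]
    (e : A ⟶ B) [QuasiCompact e.left] [QuasiSeparated e.left] [LocallyOfFinitePresentation e.left]
    (h : IsIso ((Over.pullback (c.π.app i)).map e)) :
    ∃ (j : I) (φ : j ⟶ i), IsIso ((Over.pullback (D.map φ)).map e) := by
  have key : ∀ {T : Scheme.{u}} (f : T ⟶ D.obj i), IsPullback (pullback.fst A.hom f)
      ((Over.pullback f).map e).left e.left (pullback.fst B.hom f) := fun {T} f => by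
    refine IsPullback.of_bot (v₂₁ := pullback.snd B.hom f) (v₂₂ := B.hom) ?_
      (pullback_map_left_fst (g := f) e).symm (IsPullback.of_hasPullback _ _)
    rw [Over.w e, show ((Over.pullback f).map e).left ≫ pullback.snd B.hom f = pullback.snd A.hom f from
      Over.w ((Over.pullback f).map e)]
    exact IsPullback.of_hasPullback _ _
  have h' : IsIso ((Over.pullback (c.π.app i)).map e).left :=
    Functor.map_isIso (Over.forget c.pt) ((Over.pullback (c.π.app i)).map e)
  obtain ⟨j, φ, hj⟩ := LimDesc62.descProp_isIso.rel D c hc i B.hom e.left ‹_›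
    ((LimDesc62.prop_iff_of_isPullback (P := MorphismProperty.isomorphisms Scheme.{u})
      (key (c.π.app i))).mp h')
  have hj' : IsIso ((Over.pullback (D.map φ)).map e).left :=
    (LimDesc62.prop_iff_of_isPullback (P := MorphismProperty.isomorphisms Scheme.{u}) (key (D.map φ))).mpr hj
  exact ⟨j, φ, by
    have : IsIso ((Over.forget _).map ((Over.pullback (D.map φ)).map e)) := hj'
    exact isIso_of_reflects_iso _ (Over.forget _)⟩

end Pseudo

end Groth.Agent.Tors37
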