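import Groth.Agent.Tors37.PermTwist
import Groth.Agent.Push96.Exists
import Groth.Agent.S18858
import Groth.Agent.Sga84.TorsorExact
import Groth.Agent.Sga84.TorsorDesc
import Groth.Agent.Unr55.DescProps

/-! The finite scheme of isomorphisms between two torsors under a finite flat group. -/

set_option autoImplicit false
universe u

open CategoryTheory MonoidalCategory CartesianMonoidalCategory MonObj GrpObj AlgebraicGeometry

namespace Groth.Agent.Tors37

open Groth.Agent.Sga84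

/-- Torsors under a finite flat group: a finite scheme whose sections give equivariant isomorphisms, and
which receives a point from every base over which there is an equivariant morphism. -/
theorem exists_isom {X : Scheme.{u}} {G P Q : Over X} [GrpObj G] [IsFinite G.hom] [Flat G.hom]
    (aP : AlgGrp.Action G P) (aQ : AlgGrp.Action G Q)
    (hP : NonAbH1.IsTorsorFor Scheme.fpqcPrecoverage aP) (hQ : NonAbH1.IsTorsorFor Scheme.fpqcPrecoverage aQ) :
    ∃ E : Over X, IsFinite E.hom ∧ ((∃ σ : X ⟶ E.left, σ ≫ E.hom = 𝟙 X) → Nonempty (NonAbH1.EquivIso aP aQ)) ∧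
      ∀ (T : Over X) (φ : P ⊗ T ⟶ Q), (∀ (Z : Over X) (g : Z ⟶ G) (p : Z ⟶ P) (k : Z ⟶ T),
          lift (lift g p ≫ aP.act) k ≫ φ = lift g (lift p k ≫ φ) ≫ aQ.act) → Nonempty (T ⟶ E) := by
  have := Unr55.isFinite.{u}
  have := Sga84.flat_descendsAlong.{u}
  have hPfin : IsFinite P.hom := Sga84.hom_of_isTorsorFor @IsFinite ‹_› hP
  have hQfin : IsFinite Q.hom := Sga84.hom_of_isTorsorFor @IsFinite ‹_› hQ
  have hPflat : Flat P.hom := Sga84.hom_of_isTorsorFor @Flat ‹_› hP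
  have hQflat : Flat Q.hom := Sga84.hom_of_isTorsorFor @Flat ‹_› hQ
  have hPsurj : Surjective P.hom := Sga84.surjective_of_isLocallyTrivialFor hP.2
  have hQsurj : Surjective Q.hom := Sga84.surjective_of_isLocallyTrivialFor hQ.2
  let Q₀ : Over X := P ⊗ Q
  have hfin : IsFinite Q₀.hom := by
    have : IsFinite (Limits.pullback.fst P.hom Q.hom) := MorphismProperty.pullback_fst _ _ hQfin
    exact inferInstanceAs (IsFinite (Limits.pullback.fst P.hom Q.hom ≫ P.hom))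
  have hflat : Flat Q₀.hom := inferInstanceAs (Flat (Limits.pullback.fst P.hom Q.hom ≫ P.hom))
  have hsurj : Surjective Q₀.hom := by
    have : Surjective (Limits.pullback.fst P.hom Q.hom) :=
      MorphismProperty.pullback_fst (P := @Surjective) _ _ hQsurj
    exact inferInstanceAs (Surjective (Limits.pullback.fst P.hom Q.hom ≫ P.hom))
  have : Desc59.IsFpqcMor Q₀.hom := Desc59.IsFpqcMor.of_quasiCompact _
  have hQ₀ : NonAbH1.IsLocallyTrivialFor Scheme.fpqcPrecoverage Q₀ := by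
    refine ⟨Presieve.singleton Q₀.hom, Q₀.hom.singleton_mem_fpqcPrecoverage, ?_⟩
    rintro S' f ⟨⟩
    exact ⟨𝟙 _, Category.id_comp _⟩
  choose tP htP htPu using fun {Z : Over X} (p q : Z ⟶ P) => existsUnique_actPt aP hP.1 q p
  choose tQ htQ htQu using fun {Z : Over X} (p q : Z ⟶ Q) => existsUnique_actPt aQ hQ.1 q p
  have tPmul : ∀ {Z : Over X} (p q r : Z ⟶ P), tP p q * tP q r = tP p r := fun p q r =>
    htPu p r _ (by show actPt aP _ r = p; rw [actPt_mul, htP, htP])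
  have tQmul : ∀ {Z : Over X} (p q r : Z ⟶ Q), tQ p q * tQ q r = tQ p r := fun p q r =>
    htQu p r _ (by show actPt aQ _ r = p; rw [actPt_mul, htQ, htQ])
  have tPnat : ∀ {Z Z' : Over X} (k : Z' ⟶ Z) (p q : Z ⟶ P), k ≫ tP p q = tP (k ≫ p) (k ≫ q) :=
    fun k p q => htPu _ _ _ (by show actPt aP _ _ = _; rw [← comp_actPt, htP])
  have tQnat : ∀ {Z Z' : Over X} (k : Z' ⟶ Z) (p q : Z ⟶ Q), k ≫ tQ p q = tQ (k ≫ p) (k ≫ q) :=
    fun k p q => htQu _ _ _ (by show actPt aQ _ _ = _; rw [← comp_actPt, htQ])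
  let C : PermTwist.Cocycle Q₀ G :=
    { c := fun q₀ q₁ => (Equiv.mulLeft (tP (q₁ ≫ fst P Q) (q₀ ≫ fst P Q))).trans
        (Equiv.mulRight (tQ (q₀ ≫ snd P Q) (q₁ ≫ snd P Q)))
      nat := fun k q₀ q₁ g => by
        simp only [Equiv.trans_apply, Equiv.coe_mulLeft, Equiv.coe_mulRight, MonObj.comp_mul, tPnat, tQnat,
          Category.assoc]
      trans' := fun q₀ q₁ q₂ g => by
        simp only [Equiv.trans_apply, Equiv.coe_mulLeft, Equiv.coe_mulRight]
        rw [← tPmul (q₂ ≫ fst P Q) (q₁ ≫ fst P Q) (q₀ ≫ fst P Q),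
          ← tQmul (q₀ ≫ snd P Q) (q₁ ≫ snd P Q) (q₂ ≫ snd P Q)]
        group }
  obtain ⟨E, e, he, hC⟩ := PermTwist.exists_twist C
  have hC' : ∀ {Z : Over X} (q₀ q₁ : Z ⟶ Q₀) (y : Z ⟶ E), e q₁ y =
      tP (q₁ ≫ fst P Q) (q₀ ≫ fst P Q) * e q₀ y * tQ (q₀ ≫ snd P Q) (q₁ ≫ snd P Q) := hC
  refine ⟨E, ?_, ?_, ?_⟩
  · let φ : Q₀ ⊗ E ⟶ Q₀ ⊗ G := lift (fst Q₀ E) (e (fst Q₀ E) (snd Q₀ E))
    let ψ : Q₀ ⊗ G ⟶ Q₀ ⊗ E := lift (fst Q₀ G) ((e (fst Q₀ G)).symm (snd Q₀ G))
    have : IsIso φ := by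
      refine ⟨ψ, ?_, ?_⟩
      · rw [comp_lift, lift_fst]
        have h1 : φ ≫ (e (fst Q₀ G)).symm (snd Q₀ G) = snd Q₀ E := by
          apply (e (fst Q₀ E)).injective
          conv_lhs => rw [show fst Q₀ E = φ ≫ fst Q₀ G from (lift_fst _ _).symm]
          rw [he, Equiv.apply_symm_apply, lift_snd]
        rw [h1, lift_fst_snd]
      · rw [comp_lift, lift_fst, ← he, lift_fst, lift_snd, Equiv.apply_symm_apply, lift_fst_snd]
    have : IsIso φ.left := inferInstanceAs (IsIso ((Over.forget X).map φ))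
    have e1 : φ.left ≫ Limits.pullback.fst Q₀.hom G.hom = Limits.pullback.fst Q₀.hom E.hom :=
      congrArg (fun t => t.left) (lift_fst (fst Q₀ E) (e (fst Q₀ E) (snd Q₀ E)))
    refine MorphismProperty.of_pullback_fst_of_descendsAlong (P := @IsFinite) (Q := Unr55.fpqc.{u})
      (f := Q₀.hom) ⟨⟨inferInstance, inferInstance⟩, inferInstance⟩ ?_
    rw [← e1]
    exact (MorphismProperty.cancel_left_of_respectsIso @IsFinite _ _).mpr
      (MorphismProperty.pullback_fst (P := @IsFinite) _ _ ‹IsFinite G.hom›)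
  · rintro ⟨σ, hσ⟩
    let σ' : 𝟙_ (Over X) ⟶ E := Over.homMk σ hσ
    obtain ⟨f, hf⟩ := exists_glue hQ₀ (T := P) (Y := Q)
      (fun Z p y => ∀ (Z' : Over X) (l : Z' ⟶ Z) (q : Z' ⟶ Q₀),
        l ≫ y = actPt aQ (tP (l ≫ p) (q ≫ fst P Q) * e q (toUnit Z' ≫ σ')) (q ≫ snd P Q))
      (fun Z Z' k p y h Z'' l q => by simpa using h Z'' (l ≫ k) q)
      (fun Z p q₀ => by
        refine ⟨actPt aQ (tP p (q₀ ≫ fst P Q) * e q₀ (toUnit Z ≫ σ')) (q₀ ≫ snd P Q), fun Z' l q => ?_,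
          fun y hy => ?_⟩
        · have hq : q₀ = q₀ := rfl
          rw [comp_actPt, MonObj.comp_mul, tPnat, ← he, ← Category.assoc l (toUnit Z) σ',
            toUnit_unique (l ≫ toUnit Z) (toUnit Z'), ← Category.assoc l q₀, ← Category.assoc l q₀,
            hC' (l ≫ q₀) q, ← _root_.mul_assoc, ← _root_.mul_assoc, tPmul, actPt_mul aQ _ (tQ _ _), htQ]
        · simpa using hy Z (𝟙 Z) q₀)
    have hval : ∀ {Z : Over X} (p : Z ⟶ P) (q : Z ⟶ Q₀),
        p ≫ f = actPt aQ (tP p (q ≫ fst P Q) * e q (toUnit Z ≫ σ')) (q ≫ snd P Q) := fun {Z} p q => by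
      simpa using hf Z p q Z (𝟙 Z) q
    have heq : AlgGrp.Action.IsEquivariant aP aQ f := by
      refine hom_ext_of_point hQ₀ fun Z g q => ?_
      have e1 : g ≫ aP.act = actPt aP (g ≫ fst G P) (g ≫ snd G P) := by
        rw [actPt, ← comp_lift, lift_fst_snd, Category.comp_id]
      have e2 : g ≫ (G ◁ f) = lift (g ≫ fst G P) ((g ≫ snd G P) ≫ f) := by
        rw [← lift_whiskerLeft, ← comp_lift, lift_fst_snd, Category.comp_id]
      rw [← Category.assoc, e1, hval _ q, ← Category.assoc, e2]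
      show _ = actPt aQ _ _
      rw [hval _ q, ← actPt_mul, ← _root_.mul_assoc]
      congr 2
      refine (htPu _ _ _ ?_).symm
      show actPt aP _ (q ≫ fst P Q) = _
      rw [actPt_mul, htP]
    have : IsIso f := S18858.result aP aQ hP hQ f heq
    exact ⟨⟨asIso f, heq⟩⟩
  · intro T φ hφ
    obtain ⟨τ, -⟩ := exists_glue hQ₀ (T := T) (Y := E)
      (fun Z k y => ∀ (Z' : Over X) (l : Z' ⟶ Z) (q : Z' ⟶ Q₀),
        e q (l ≫ y) = tQ (lift (q ≫ fst P Q) (l ≫ k) ≫ φ) (q ≫ snd P Q))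
      (fun Z Z' k p y h Z'' l q => by simpa using h Z'' (l ≫ k) q)
      (fun Z k q₀ => by
        refine ⟨(e q₀).symm (tQ (lift (q₀ ≫ fst P Q) k ≫ φ) (q₀ ≫ snd P Q)), fun Z' l q => ?_, fun y hy => ?_⟩
        · rw [hC' (l ≫ q₀) q, he, Equiv.apply_symm_apply, tQnat, comp_lift_assoc]
          simp only [Category.assoc]
          refine htQu _ _ _ ?_
          show actPt aQ _ _ = _
          rw [actPt_mul, htQ, actPt_mul, htQ]
          show lift _ (lift (l ≫ q₀ ≫ fst P Q) (l ≫ k) ≫ φ) ≫ aQ.act = _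
          rw [← hφ]
          congr 2
          exact htP (q ≫ fst P Q) (l ≫ q₀ ≫ fst P Q)
        · rw [Equiv.eq_symm_apply]
          simpa using hy Z (𝟙 Z) q₀)
    exact ⟨τ⟩

end Groth.Agent.Tors37
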