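import Groth.Agent.Var76.SmoothCrit
import Groth.Agent.Var76.KaehlerGen
import Mathlib.AlgebraicGeometry.Morphisms.Smooth
import Mathlib.Algebra.Polynomial.Laurent
import Mathlib.RingTheory.Unramified.Finite
import Mathlib.RingTheory.Smooth.Locus
import Mathlib.Algebra.Module.Submodule.Union
import Mathlib.Algebra.MvPolynomial.Funext

/-! Functions with non-vanishing differential on smooth algebras, and the smooth morphisms to the line
they define. -/

set_option autoImplicit false
set_option linter.style.haveILetI false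
universe u

open scoped TensorProduct
open KaehlerDifferential

namespace Groth.Agent.Tors37.CritFun

section smooth

variable {k A B : Type u} [Field k] [CommRing A] [CommRing B] [Algebra k A] [Algebra k B]
  [Algebra A B] [IsScalarTower k A B] [Algebra.FiniteType k A] [Algebra.FiniteType k B]

/-- At a smooth point, a map to an algebra with differentials generated by `dT` is smooth as soon as
the differential of the image of `T` is non-zero at the point. -/
theorem isSmoothAt_of_functional (p : Ideal B) [p.IsPrime] [Algebra.IsSmoothAt k p] (T : A)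
    (hA : Submodule.span A {D k A T} = ⊤) (l : Ω[B⁄k] →ₗ[B] p.ResidueField)
    (hl : l (D k B (algebraMap A B T)) ≠ 0) : Algebra.IsSmoothAt A p := by
  let S := Localization.AtPrime p
  let κ := IsLocalRing.ResidueField S
  haveI : Algebra.EssFiniteType k S := Algebra.EssFiniteType.comp k B S
  refine Var76.SmoothCrit.formallySmooth_of_injective (k := k) (A := A) (T := S) ?_
  have hunit : ∀ x : p.primeCompl, IsUnit (algebraMap B (Module.End B κ) x) := fun x => by
    have hx : algebraMap B κ x ≠ 0 := fun h => x.2 (Ideal.algebraMap_residueField_eq_zero.1 h)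
    refine (Module.End.isUnit_iff _).2 ⟨fun a b hab => ?_, fun a => ⟨(algebraMap B κ x)⁻¹ * a, ?_⟩⟩
    · simp only [Module.algebraMap_end_apply, Algebra.smul_def] at hab
      exact mul_left_cancel₀ hx hab
    · simp only [Module.algebraMap_end_apply, Algebra.smul_def]
      rw [← mul_assoc, mul_inv_cancel₀ hx, one_mul]
  let lT₀ : Ω[S⁄k] →ₗ[B] κ := IsLocalizedModule.lift p.primeCompl (KaehlerDifferential.map k k B S) l hunit
  let lT : Ω[S⁄k] →ₗ[S] κ := lT₀.extendScalarsOfIsLocalization p.primeCompl S
  have hlT : lT (D k S (algebraMap A S T)) = l (D k B (algebraMap A B T)) := by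
    rw [IsScalarTower.algebraMap_apply A B S, ← map_D k k B S]
    exact IsLocalizedModule.lift_apply p.primeCompl (KaehlerDifferential.map k k B S) l hunit _
  let L : κ ⊗[S] Ω[S⁄k] →ₗ[S] κ :=
    TensorProduct.lift ((LinearMap.mul S κ).compl₂ lT)
  let M := (mapBaseChange k A S).lTensor κ
  let e : κ ⊗[S] (S ⊗[A] Ω[A⁄k]) := (1 : κ) ⊗ₜ ((1 : S) ⊗ₜ D k A T)
  have hgen : ∀ x : κ ⊗[S] (S ⊗[A] Ω[A⁄k]), ∃ c : κ, x = c • e := by
    intro x
    induction x using TensorProduct.induction_on with
    | zero => exact ⟨0, by rw [zero_smul]⟩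
    | tmul c y =>
      induction y using TensorProduct.induction_on generalizing c with
      | zero => exact ⟨0, by rw [TensorProduct.tmul_zero, zero_smul]⟩
      | tmul s w =>
        obtain ⟨a, rfl⟩ := Submodule.mem_span_singleton.1 (hA ▸ Submodule.mem_top : w ∈ Submodule.span A {D k A T})
        refine ⟨(s * algebraMap A S a) • c, ?_⟩
        rw [TensorProduct.smul_tmul' , smul_eq_mul, mul_one, TensorProduct.smul_tmul, TensorProduct.smul_tmul',
          smul_eq_mul, mul_one, TensorProduct.tmul_smul, TensorProduct.smul_tmul', Algebra.smul_def a s, mul_comm]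
      | add y y' hy hy' =>
        obtain ⟨a, ha⟩ := hy c
        obtain ⟨b, hb⟩ := hy' c
        exact ⟨a + b, by rw [TensorProduct.tmul_add, ha, hb, add_smul]⟩
    | add x y hx hy =>
      obtain ⟨a, ha⟩ := hx
      obtain ⟨b, hb⟩ := hy
      exact ⟨a + b, by rw [ha, hb, add_smul]⟩
  rw [injective_iff_map_eq_zero]
  intro x hx
  obtain ⟨c, rfl⟩ := hgen x
  have h1 : L (M (c • e)) = c * lT (D k S (algebraMap A S T)) := by
    simp [M, e, L, TensorProduct.smul_tmul', mapBaseChange_tmul]
  have h2 : c * lT (D k S (algebraMap A S T)) = 0 := by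
    rw [← h1]
    exact (congrArg L hx).trans (map_zero L)
  rw [hlT] at h2
  rw [(mul_eq_zero.1 h2).resolve_right hl, zero_smul]

end smooth

section spanD

variable (k : Type u) [Field k]

lemma span_D_polynomial : Submodule.span (Polynomial k) {D k (Polynomial k) Polynomial.X} = ⊤ := by
  rw [eq_top_iff, ← span_range_derivation, Submodule.span_le]
  rintro _ ⟨p, rfl⟩
  rw [SetLike.mem_coe, Submodule.mem_span_singleton]
  exact ⟨Polynomial.derivative p, by
    rw [← Polynomial.aeval_X_left_apply p, Derivation.map_aeval, Polynomial.aeval_X_left_apply,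
      Polynomial.aeval_X_left_apply]⟩

end spanD

section exists_nonzero

variable {k B : Type u} [Field k] [CommRing B] [Algebra k B] [Algebra.FiniteType k B]

/-- No functional on the differentials at a prime forces the residue field to be finite. -/
lemma finite_residueField_of_subsingleton (p : Ideal B) [p.IsPrime]
    (h : Subsingleton (Ω[B⁄k] →ₗ[B] p.ResidueField)) : Module.Finite k p.ResidueField := by
  haveI : Algebra.EssFiniteType k p.ResidueField := .comp k B _
  haveI : Subsingleton Ω[p.ResidueField⁄k] := by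
    by_contra hn
    rw [not_subsingleton_iff_nontrivial] at hn
    obtain ⟨w, hw⟩ := exists_ne (0 : Ω[p.ResidueField⁄k])
    obtain ⟨φ, hφ⟩ : ∃ φ : Module.Dual p.ResidueField Ω[p.ResidueField⁄k], φ w ≠ 0 := by
      by_contra hh
      push Not at hh
      exact hw ((Module.forall_dual_apply_eq_zero_iff _ w).1 hh)
    let l := φ.restrictScalars B ∘ₗ (KaehlerDifferential.map k k B p.ResidueField)
    have hl : l = 0 := Subsingleton.elim _ _
    refine hφ ?_
    suffices φ = 0 by simp [this]
    refine LinearMap.ext_on (span_range_derivation k p.ResidueField) ?_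
    rintro _ ⟨z, rfl⟩
    obtain ⟨a, b, hb, rfl⟩ := IsFractionRing.div_surjective (B ⧸ p) z
    obtain ⟨a, rfl⟩ := Ideal.Quotient.mk_surjective a
    obtain ⟨b, rfl⟩ := Ideal.Quotient.mk_surjective b
    have key : ∀ c : B, φ (D k p.ResidueField (algebraMap B p.ResidueField c)) = 0 := fun c => by
      rw [← map_D k k B p.ResidueField]
      exact LinearMap.congr_fun hl (D k B c)
    rw [← Ideal.Quotient.algebraMap_eq, ← IsScalarTower.algebraMap_apply, ← IsScalarTower.algebraMap_apply,
      Derivation.leibniz_div, map_smul, map_sub, map_smul, map_smul, key, key]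
    simp
  haveI : Algebra.FormallyUnramified k p.ResidueField := ⟨inferInstance⟩
  exact Algebra.FormallyUnramified.finite_of_free k p.ResidueField

end exists_nonzero

section avoid

variable {k : Type u} [Field k] [Infinite k]

/-- Finitely many non-zero linear maps have a common point where none vanishes. -/
lemma exists_forall_ne_zero {σ J : Type*} [Finite J] {W : J → Type u} [∀ j, AddCommGroup (W j)]
    [∀ j, Module k (W j)] (L : ∀ j, (σ → k) →ₗ[k] W j) (h : ∀ j, L j ≠ 0) :
    ∃ c : σ → k, ∀ j, L j c ≠ 0 := by
  obtain ⟨c, hc⟩ := Submodule.exists_forall_notMem_of_forall_ne_top (fun j => LinearMap.ker (L j))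
    (fun j hj => h j (LinearMap.ker_eq_top.1 hj))
  exact ⟨c, fun j hj => hc j hj⟩

/-- Finitely many non-zero polynomials have a common point where none vanishes. -/
lemma exists_forall_eval_ne_zero {σ J : Type*} [Finite J] (F : J → MvPolynomial σ k) (h : ∀ j, F j ≠ 0) :
    ∃ c : σ → k, ∀ j, MvPolynomial.eval c (F j) ≠ 0 := by
  cases nonempty_fintype J
  by_contra hh
  push Not at hh
  have : (∏ j, F j) = 0 := MvPolynomial.funext fun c => by
    obtain ⟨j, hj⟩ := hh c
    rw [map_zero, map_prod]
    exact Finset.prod_eq_zero (Finset.mem_univ j) hj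
  exact Finset.prod_ne_zero_iff.2 (fun j _ => h j) this

end avoid

section critical

variable {k B : Type u} [Field k] [CommRing B] [Algebra k B] [Algebra.FiniteType k B]

lemma span_range_D_of_adjoin {n : ℕ} (a : Fin n → B) (ha : Algebra.adjoin k (Set.range a) = ⊤) :
    Submodule.span B (Set.range fun i => D k B (a i)) = ⊤ := by
  rw [eq_top_iff, ← span_range_derivation, Submodule.span_le]
  rintro _ ⟨b, rfl⟩
  have hb : b ∈ Algebra.adjoin k (Set.range a) := ha ▸ Algebra.mem_top
  induction hb using Algebra.adjoin_induction with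
  | mem x hx => obtain ⟨i, rfl⟩ := hx; exact Submodule.subset_span ⟨i, rfl⟩
  | algebraMap r => rw [Derivation.map_algebraMap]; exact zero_mem _
  | add x y _ _ hx hy => rw [map_add]; exact add_mem hx hy
  | mul x y _ _ hx hy =>
    rw [Derivation.leibniz]
    exact add_mem (Submodule.smul_mem _ _ hy) (Submodule.smul_mem _ _ hx)

open MvPolynomial in
/-- A prime of `B[X₁..Xₙ]` over a smooth point, all whose relations `∑ μ(daᵢ) Xᵢ` vanish, has a residue
field of transcendence degree at most `n`. -/
theorem trdeg_le_of_critical {n : ℕ} (a : Fin n → B) (ha : Algebra.adjoin k (Set.range a) = ⊤)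
    (Q : Ideal (MvPolynomial (Fin n) B)) [Q.IsPrime] (p : Ideal B) [p.IsPrime] (hp : Q.comap C = p)
    [Algebra.IsSmoothAt k p]
    (hQ : ∀ μ : Ω[B⁄k] →ₗ[B] B, ∑ i, C (μ (D k B (a i))) * X i ∈ Q) :
    Algebra.trdeg k Q.ResidueField ≤ n := by
  classical
  let R := MvPolynomial (Fin n) B
  let K := Q.ResidueField
  let T := Localization.AtPrime p
  haveI : Algebra.EssFiniteType k T := Algebra.EssFiniteType.comp k B T
  haveI : Algebra.EssFiniteType k K := .comp k R _
  have hu : ∀ s : p.primeCompl, IsUnit (algebraMap B K s) := fun s => by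
    refine isUnit_iff_ne_zero.2 fun h => s.2 ?_
    rw [IsScalarTower.algebraMap_apply B R K] at h
    exact (SetLike.ext_iff.1 hp _).1 ((Ideal.algebraMap_residueField_eq_zero (I := Q)).1 h :)
  letI : Algebra T K := (IsLocalization.lift hu).toAlgebra
  haveI : IsScalarTower B T K := .of_algebraMap_eq fun x => (IsLocalization.lift_eq hu x).symm
  haveI : IsScalarTower k T K := .of_algebraMap_eq fun x => by
    rw [IsScalarTower.algebraMap_apply k B K, IsScalarTower.algebraMap_apply k B T,
      IsScalarTower.algebraMap_apply B T K]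
  haveI : Module.Free T Ω[T⁄k] := Module.free_of_flat_of_isLocalRing
  let e := Module.Free.chooseBasis T Ω[T⁄k]
  let ι := Module.Free.ChooseBasisIndex T Ω[T⁄k]
  let m := KaehlerDifferential.map k k B T
  haveI : IsNoetherianRing B := Algebra.FiniteType.isNoetherianRing k B
  haveI : Module.FinitePresentation B Ω[B⁄k] := Module.finitePresentation_of_finite B _
  choose μ s hμ using fun j => Module.FinitePresentation.exists_lift_of_isLocalizedModule p.primeCompl
    (Algebra.linearMap B T) (((e.coord j).restrictScalars B) ∘ₗ m)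
  have hμ' : ∀ j w, algebraMap B T (μ j w) = algebraMap B T (s j).1 * e.coord j (m w) := fun j w => by
    have := LinearMap.congr_fun (hμ j) w
    simpa [Submonoid.smul_def, Algebra.smul_def] using this
  -- the span of the differentials of `B` in `Ω[K/k]`
  let fK := KaehlerDifferential.map k k T K
  let S := Submodule.span K (Set.range fun j => fK (e j))
  have hBS : ∀ b : B, D k K (algebraMap B K b) ∈ S := fun b => by
    rw [IsScalarTower.algebraMap_apply B T K, ← map_D k k T K]
    have h1 : D k T (algebraMap B T b) ∈ Submodule.span T (Set.range e) := e.span_eq ▸ Submodule.mem_top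
    have h2 := Submodule.apply_mem_span_image_of_mem_span fK h1
    rw [← Set.range_comp] at h2
    exact (Submodule.span_le_restrictScalars T K _) h2
  -- the quotient is spanned by the differentials of the variables
  let x : Fin n → K := fun i => algebraMap R K (X i)
  let π : (Fin n → K) →ₗ[K] Ω[K⁄k] ⧸ S :=
    S.mkQ ∘ₗ Fintype.linearCombination K (fun i => D k K (x i))
  have hπ : Function.Surjective π := by
    rw [← LinearMap.range_eq_top, eq_top_iff, ← S.range_mkQ, LinearMap.range_eq_map]
    conv_lhs => rw [← span_range_derivation k K, Submodule.map_span]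
    rw [Submodule.span_le]
    rintro _ ⟨_, ⟨z, rfl⟩, rfl⟩
    have hR : ∀ r : R, S.mkQ (D k K (algebraMap R K r)) ∈ LinearMap.range π := by
      intro r
      induction r using MvPolynomial.induction_on with
      | C b =>
        refine ⟨0, ?_⟩
        rw [map_zero, eq_comm, Submodule.mkQ_apply, Submodule.Quotient.mk_eq_zero]
        exact hBS b
      | add r r' hr hr' => rw [map_add, map_add, map_add]; exact add_mem hr hr'
      | mul_X r i hr =>
        rw [map_mul, Derivation.leibniz, map_add, map_smul, map_smul]
        refine add_mem (Submodule.smul_mem _ _ ⟨Pi.single i 1, ?_⟩) (Submodule.smul_mem _ _ hr)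
        simp [π, x, Fintype.linearCombination_apply_single]
    obtain ⟨r, r', hr', rfl⟩ := IsFractionRing.div_surjective (R ⧸ Q) z
    obtain ⟨r, rfl⟩ := Ideal.Quotient.mk_surjective r
    obtain ⟨r', rfl⟩ := Ideal.Quotient.mk_surjective r'
    rw [← Ideal.Quotient.algebraMap_eq, ← IsScalarTower.algebraMap_apply, ← IsScalarTower.algebraMap_apply,
      Derivation.leibniz_div, map_smul, map_sub, map_smul, map_smul]
    exact Submodule.smul_mem _ _ (sub_mem (Submodule.smul_mem _ _ (hR r)) (Submodule.smul_mem _ _ (hR r')))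
  -- the relations
  let w : ι → Fin n → K := fun j i => algebraMap B K (μ j (D k B (a i)))
  have hker : ∀ j, w j ∈ LinearMap.ker π := fun j => by
    rw [LinearMap.mem_ker]
    have h0 : ∑ i, algebraMap B K (μ j (D k B (a i))) * x i = 0 := by
      have := Ideal.algebraMap_residueField_eq_zero.2 (hQ (μ j))
      simp only [x, map_sum, map_mul] at this ⊢
      exact this
    have h1 := congrArg (fun z => S.mkQ (D k K z)) h0
    have h2 : ∀ b : B, S.mkQ (D k K (algebraMap B K b)) = 0 := fun b => by
      rw [Submodule.mkQ_apply, Submodule.Quotient.mk_eq_zero]; exact hBS b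
    simp only [map_sum, Derivation.leibniz, map_add, map_smul, h2, smul_zero, add_zero, map_zero] at h1
    simpa [π, w, Fintype.linearCombination_apply, map_sum] using h1
  -- they are independent
  have hspan : Submodule.span T (Set.range fun i => D k T (algebraMap B T (a i))) = ⊤ := by
    have := span_eq_top_of_isLocalizedModule T p.primeCompl m (span_range_D_of_adjoin a ha)
    rw [← Set.range_comp] at this
    simpa [Function.comp_def, m] using this
  have hli : LinearIndependent K w := by
    rw [Fintype.linearIndependent_iff]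
    intro g hg j
    obtain ⟨r, hr⟩ := (Submodule.mem_span_range_iff_exists_fun T).1 (hspan ▸ Submodule.mem_top : e j ∈ _)
    have hδ : ∀ l, ∑ i, algebraMap T K (r i) * w l i =
        algebraMap T K (algebraMap B T (s l).1 * e.coord l (e j)) := fun l => by
      rw [← hr, map_sum, Finset.mul_sum, map_sum]
      refine Finset.sum_congr rfl fun i _ => ?_
      rw [map_smul, smul_eq_mul, show w l i = algebraMap T K (algebraMap B T (μ l (D k B (a i)))) from
        IsScalarTower.algebraMap_apply B T K _, hμ', show m (D k B (a i)) = D k T (algebraMap B T (a i)) from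
        map_D k k B T _, ← map_mul]
      congr 1
      ring
    have h1 : ∑ l, g l * algebraMap T K (algebraMap B T (s l).1 * e.coord l (e j)) = 0 := by
      calc ∑ l, g l * algebraMap T K (algebraMap B T (s l).1 * e.coord l (e j))
          = ∑ l, ∑ i, g l * (algebraMap T K (r i) * w l i) :=
            Finset.sum_congr rfl fun l _ => by rw [← hδ l]; exact Finset.mul_sum ..
        _ = ∑ i, ∑ l, g l * (algebraMap T K (r i) * w l i) := Finset.sum_comm
        _ = ∑ i, algebraMap T K (r i) * (∑ l, g l • w l) i := Finset.sum_congr rfl fun i _ => by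
            rw [Finset.sum_apply]
            refine Eq.trans ?_ (Finset.mul_sum ..).symm
            exact Finset.sum_congr rfl fun l _ => by rw [Pi.smul_apply, smul_eq_mul, mul_left_comm]
        _ = 0 := by rw [hg]; simp
    rw [Finset.sum_eq_single j (fun l _ hl => by simp [Module.Basis.coord_apply, Finsupp.single_eq_of_ne hl]) (by simp)] at h1
    simp only [Module.Basis.coord_apply, Module.Basis.repr_self, Finsupp.single_eq_same, mul_one, mul_eq_zero] at h1
    exact h1.resolve_right (by rw [← IsScalarTower.algebraMap_apply]; exact (hu (s j)).ne_zero)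
  refine (Var76.KaehlerGen.trdeg_le_finrank k K).trans (Nat.cast_le.2 ?_)
  have hS : Module.finrank K S ≤ Fintype.card ι := finrank_range_le_card (R := K) (fun j => fK (e j))
  have hW : Fintype.card ι ≤ Module.finrank K (LinearMap.ker π) := by
    let w' : ι → LinearMap.ker π := fun j => ⟨w j, hker j⟩
    exact (LinearIndependent.of_comp (LinearMap.ker π).subtype (v := w') hli).fintype_card_le_finrank
  have hq : Module.finrank K (Ω[K⁄k] ⧸ S) + Module.finrank K (LinearMap.ker π) = n := by
    have := LinearMap.finrank_range_add_finrank_ker π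
    rw [LinearMap.range_eq_top.2 hπ, finrank_top, Module.finrank_fin_fun] at this
    exact this
  have := Submodule.finrank_quotient_add_finrank S
  omega

open MvPolynomial in
/-- The differential of a general linear combination of generators vanishes at finitely many smooth
points only, all of which are closed. -/
theorem exists_finite_critical [Infinite k] {n : ℕ} (a : Fin n → B) (ha : Algebra.adjoin k (Set.range a) = ⊤)
    (U : Set (PrimeSpectrum B)) (hU : ∀ p ∈ U, Algebra.IsSmoothAt k p.asIdeal)
    (hgen : ∀ p ∈ U, ∀ q : PrimeSpectrum B, q.asIdeal ≤ p.asIdeal → q ∈ U) :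
    ∃ c : Fin n → k, ∀ v, v = ∑ i, c i • a i →
      {p : PrimeSpectrum B | p ∈ U ∧ ∀ l : Ω[B⁄k] →ₗ[B] p.asIdeal.ResidueField, l (D k B v) = 0}.Finite ∧
      ∀ p : PrimeSpectrum B, p ∈ U → (∀ l : Ω[B⁄k] →ₗ[B] p.asIdeal.ResidueField, l (D k B v) = 0) →
        p.asIdeal.IsMaximal := by
  classical
  let R := MvPolynomial (Fin n) B
  let P := MvPolynomial (Fin n) k
  haveI : IsNoetherianRing B := Algebra.FiniteType.isNoetherianRing k B
  let J : Ideal R := Ideal.span (Set.range fun μ : Ω[B⁄k] →ₗ[B] B => ∑ i, C (μ (D k B (a i))) * X i)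
  haveI hJfin : Finite J.minimalPrimes := (Ideal.finite_minimalPrimes_of_isNoetherianRing R J).to_subtype
  let inc : P →ₐ[k] R := MvPolynomial.mapAlgHom (Algebra.ofId k B)
  have key : ∀ Q : J.minimalPrimes, ∃ (h : P) (F : Fin n → Polynomial P), h ≠ 0 ∧
      ((∀ f, inc f ∈ Q.1 → f = 0) ∧ (∀ b ∈ U, b.asIdeal = Q.1.comap C →
        (∀ i, F i ≠ 0 ∧ h = ∏ i, (F i).leadingCoeff ∧ (F i).eval₂ inc.toRingHom (C (a i)) ∈ Q.1)) ∨
        inc h ∈ Q.1) := by
    intro Q
    haveI := Q.2.1.1
    by_cases hdom : ∀ f, inc f ∈ Q.1 → f = 0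
    swap
    · push Not at hdom
      obtain ⟨f, hf, hf0⟩ := hdom
      exact ⟨f, 0, hf0, Or.inr hf⟩
    by_cases hb : ∃ b ∈ U, b.asIdeal = Q.1.comap C
    swap
    · exact ⟨1, 0, one_ne_zero, Or.inl ⟨hdom, fun b hb' hbe => absurd ⟨b, hb', hbe⟩ hb⟩⟩
    obtain ⟨b, hbU, hbe⟩ := hb
    haveI := hU b hbU
    let K := Q.1.ResidueField
    have htr : Algebra.trdeg k K ≤ n := trdeg_le_of_critical a ha Q.1 b.asIdeal hbe.symm fun μ =>
      Q.2.1.2 (Ideal.subset_span ⟨μ, rfl⟩)
    let incK : P →ₐ[k] K := (IsScalarTower.toAlgHom k R K).comp inc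
    have hincK : Function.Injective incK := by
      rw [injective_iff_map_eq_zero]
      exact fun f hf => hdom f (Ideal.algebraMap_residueField_eq_zero.1 hf)
    letI : Algebra P K := incK.toRingHom.toAlgebra
    have halg : ∀ z : K, IsAlgebraic P z := by
      intro z
      by_contra hz
      let x : Fin n → K := fun i => incK (X i)
      have hx : MvPolynomial.aeval x = incK := (MvPolynomial.algHom_ext (fun i => by simp [x]))
      have hind : AlgebraicIndependent k x := algebraicIndependent_iff_injective_aeval.2 (hx ▸ hincK)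
      have hz' : Transcendental (Algebra.adjoin k (Set.range x)) z := by
        rintro ⟨q, hq, hqz⟩
        let τ : P →+* Algebra.adjoin k (Set.range x) :=
          incK.toRingHom.codRestrict _ fun f => by
            rw [Algebra.adjoin_range_eq_range_aeval, hx]; exact ⟨f, rfl⟩
        have hτ : Function.Surjective τ := by
          rintro ⟨y, hy⟩
          rw [Algebra.adjoin_range_eq_range_aeval, hx] at hy
          obtain ⟨f, hf⟩ := hy
          exact ⟨f, Subtype.ext hf⟩
        obtain ⟨q', rfl⟩ := Polynomial.map_surjective τ hτ q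
        refine hz ⟨q', fun h => hq (by rw [h, Polynomial.map_zero]), ?_⟩
        rw [Polynomial.aeval_def, Polynomial.eval₂_map] at hqz
        exact hqz
      have h2 := (hind.option_iff_transcendental z).2 hz'
      have h3 := h2.lift_cardinalMk_le_trdeg
      simp at h3
      have h4 : ((n + 1 : ℕ) : Cardinal) ≤ (n : ℕ) := by
        refine le_trans ?_ htr
        simpa using h3
      exact absurd (Nat.cast_le.1 h4) (by omega)
    choose F hF using fun i => halg (algebraMap R K (C (a i)))
    refine ⟨∏ i, (F i).leadingCoeff, F,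
      Finset.prod_ne_zero_iff.2 fun i _ => Polynomial.leadingCoeff_ne_zero.2 (hF i).1,
      Or.inl ⟨hdom, fun _ _ _ i => ⟨(hF i).1, rfl, ?_⟩⟩⟩
    apply Ideal.algebraMap_residueField_eq_zero.1
    rw [Polynomial.hom_eval₂]
    exact (hF i).2
  choose h F hh hF using key
  obtain ⟨c, hc⟩ := exists_forall_eval_ne_zero h hh
  refine ⟨c, fun v hv => ?_⟩
  subst hv
  let evB : R →+* B := MvPolynomial.eval₂Hom (RingHom.id B) fun i => algebraMap k B (c i)
  have hevC : ∀ b : B, evB (C b) = b := fun b => MvPolynomial.eval₂_C (RingHom.id B) _ b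
  have hevX : ∀ i, evB (X i) = algebraMap k B (c i) := fun i =>
    MvPolynomial.eval₂_X (RingHom.id B) _ i
  have hev : ∀ f : P, evB (inc f) = algebraMap k B (MvPolynomial.eval c f) := by
    intro f
    induction f using MvPolynomial.induction_on with
    | C r => rw [MvPolynomial.eval_C, show inc (C r) = C (algebraMap k B r) from MvPolynomial.map_C _ _, hevC]
    | add f g hf hg => simp only [map_add, hf, hg]
    | mul_X f i hf =>
      rw [map_mul, map_mul, hf, show inc (X i) = X i from MvPolynomial.map_X _ _, hevX, map_mul, MvPolynomial.eval_X,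
        map_mul]
  haveI : Fintype J.minimalPrimes := Fintype.ofFinite _
  let G : Fin n → Polynomial k := fun i =>
    ∏ Q ∈ Finset.univ.filter (fun Q : J.minimalPrimes => ((F Q i).map (MvPolynomial.eval c)) ≠ 0),
      (F Q i).map (MvPolynomial.eval c)
  have hG : ∀ i, G i ≠ 0 := fun i => Finset.prod_ne_zero_iff.2 fun Q hQ => (Finset.mem_filter.1 hQ).2
  -- every critical point kills the values of the `G i`
  have hcrit : ∀ p : PrimeSpectrum B, p ∈ U →
      (∀ l : Ω[B⁄k] →ₗ[B] p.asIdeal.ResidueField, l (D k B (∑ i, c i • a i)) = 0) →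
      ∀ i, Polynomial.aeval (a i) (G i) ∈ p.asIdeal := by
    intro p hp hl i
    have hJP : J ≤ p.asIdeal.comap evB := by
      rw [Ideal.span_le]
      rintro _ ⟨μ, rfl⟩
      have := hl ((Algebra.linearMap B p.asIdeal.ResidueField) ∘ₗ μ)
      rw [SetLike.mem_coe, Ideal.mem_comap, ← Ideal.algebraMap_residueField_eq_zero, ← this]
      simp only [map_sum, map_mul, hevC, hevX,
        Derivation.map_smul, LinearMap.coe_comp, Function.comp_apply, Algebra.linearMap_apply,
        LinearMap.map_smul_of_tower]
      refine Finset.sum_congr rfl fun j _ => ?_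
      rw [Algebra.smul_def, ← IsScalarTower.algebraMap_apply, mul_comm]
    obtain ⟨Q, hQ, hQP⟩ := Ideal.exists_minimalPrimes_le hJP
    haveI := hQ.1.1
    have hQc : (⟨Q.comap C, inferInstance⟩ : PrimeSpectrum B) ∈ U := hgen p hp _ fun b hb => by
      have := hQP hb
      rw [Ideal.mem_comap] at this
      rwa [hevC] at this
    rcases hF ⟨Q, hQ⟩ with ⟨-, hF'⟩ | hin
    · obtain ⟨-, hlead, hev'⟩ := hF' _ hQc rfl i
      have hne : ((F ⟨Q, hQ⟩ i).map (MvPolynomial.eval c)) ≠ 0 := by
        intro h0
        have := congrArg (fun q => Polynomial.coeff q (F ⟨Q, hQ⟩ i).natDegree) h0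
        simp only [Polynomial.coeff_map, Polynomial.coeff_natDegree, Polynomial.coeff_zero] at this
        refine hc ⟨Q, hQ⟩ ?_
        rw [hlead, map_prod]
        exact Finset.prod_eq_zero (Finset.mem_univ i) this
      have h1 : Polynomial.aeval (a i) ((F ⟨Q, hQ⟩ i).map (MvPolynomial.eval c)) ∈ p.asIdeal := by
        have := hQP hev'
        rw [Ideal.mem_comap, Polynomial.hom_eval₂] at this
        rw [Polynomial.aeval_def, Polynomial.eval₂_map]
        convert! this using 2
        · exact RingHom.ext fun f => (hev f).symm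
        · exact (hevC _).symm
      refine Ideal.mem_of_dvd _ ?_ h1
      exact map_dvd (Polynomial.aeval (a i)) (Finset.dvd_prod_of_mem _ (by simp [hne]))
    · refine absurd ?_ (hc ⟨Q, hQ⟩)
      have := hQP hin
      rw [Ideal.mem_comap, hev] at this
      by_contra hne
      exact p.isPrime.ne_top (Ideal.eq_top_of_isUnit_mem _ this ((isUnit_iff_ne_zero.2 hne).map _))
  let I : Ideal B := Ideal.span (Set.range fun i => Polynomial.aeval (a i) (G i))
  haveI : Algebra.IsIntegral k (B ⧸ I) := by
    refine ⟨fun z => ?_⟩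
    obtain ⟨b, rfl⟩ := Ideal.Quotient.mk_surjective z
    have hb : b ∈ Algebra.adjoin k (Set.range a) := ha ▸ Algebra.mem_top
    induction hb using Algebra.adjoin_induction with
    | mem x hx =>
      obtain ⟨i, rfl⟩ := hx
      refine IsAlgebraic.isIntegral ⟨G i, hG i, ?_⟩
      rw [show (Ideal.Quotient.mk I (a i)) = Ideal.Quotient.mkₐ k I (a i) from rfl, Polynomial.aeval_algHom_apply]
      exact Ideal.Quotient.eq_zero_iff_mem.2 (Ideal.subset_span ⟨i, rfl⟩)
    | algebraMap r => exact isIntegral_algebraMap (R := k) (A := B ⧸ I) (x := r)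
    | add x y _ _ hx hy => rw [map_add]; exact hx.add hy
    | mul x y _ _ hx hy => rw [map_mul]; exact hx.mul hy
  haveI : Algebra.FiniteType k (B ⧸ I) := .of_surjective (Ideal.Quotient.mkₐ k I) (Ideal.Quotient.mkₐ_surjective k I)
  haveI : Module.Finite k (B ⧸ I) := Algebra.IsIntegral.finite
  haveI : IsArtinianRing (B ⧸ I) := IsArtinianRing.of_finite k _
  have hmem : ∀ p : PrimeSpectrum B, p ∈ U →
      (∀ l : Ω[B⁄k] →ₗ[B] p.asIdeal.ResidueField, l (D k B (∑ i, c i • a i)) = 0) →
      ∃ q : PrimeSpectrum (B ⧸ I), PrimeSpectrum.comap (Ideal.Quotient.mk I) q = p := by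
    intro p hp hl
    have : p ∈ PrimeSpectrum.zeroLocus (I : Set B) := by
      rw [PrimeSpectrum.mem_zeroLocus, SetLike.coe_subset_coe, Ideal.span_le]
      rintro _ ⟨i, rfl⟩
      exact hcrit p hp hl i
    rwa [← I.mk_ker, ← range_comap_of_surjective _ _ Ideal.Quotient.mk_surjective] at this
  refine ⟨(Set.finite_range (PrimeSpectrum.comap (Ideal.Quotient.mk I))).subset fun p hp => hmem p hp.1 hp.2, ?_⟩
  intro p hp hl
  obtain ⟨q, rfl⟩ := hmem p hp hl
  haveI : q.asIdeal.IsMaximal := IsArtinianRing.isMaximal_of_isPrime _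
  exact Ideal.comap_isMaximal_of_surjective _ Ideal.Quotient.mk_surjective

end critical

end Groth.Agent.Tors37.CritFun
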