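import Groth.Agent.H98QP.Milnor
import Mathlib.AlgebraicGeometry.Pullbacks

/-! Morphisms out of an affine scheme covered by two basic opens. -/

set_option autoImplicit false
universe u

open AlgebraicGeometry CategoryTheory CategoryTheory.Limits
open scoped TensorProduct

namespace Groth.Agent.Tors37

open H98QP

variable {A : Type u} [CommRing A] {r r' : A} (hr : Ideal.span {r, r'} = ⊤) {Y : Scheme.{u}}

include hr

theorem span_range_pair : Ideal.span (Set.range (fun b : Bool => cond b r r')) = ⊤ := by
  rw [← hr]
  congr 1
  ext x
  simp [Bool.exists_bool, eq_comm, or_comm]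

theorem glue_ext {f g : Spec (CommRingCat.of A) ⟶ Y}
    (h₁ : sm (algebraMap A (Localization.Away r)) ≫ f = sm (algebraMap A (Localization.Away r)) ≫ g)
    (h₂ : sm (algebraMap A (Localization.Away r')) ≫ f = sm (algebraMap A (Localization.Away r')) ≫ g) : f = g := by
  let 𝒰 := (Scheme.affineOpenCoverOfSpanRangeEqTop (R := CommRingCat.of A) _ (span_range_pair hr)).openCover
  refine 𝒰.hom_ext _ _ fun b => ?_
  cases b
  · exact h₂
  · exact h₁

theorem exists_glue_away {B : Type u} [CommRing B] [Algebra A B] [Algebra (Localization.Away r) B]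
    [IsScalarTower A (Localization.Away r) B]
    [IsLocalization.Away (algebraMap A (Localization.Away r) r') B] (φ : Localization.Away r' →+* B)
    (hφ : φ.comp (algebraMap A _) = algebraMap A B)
    (f₁ : Spec (CommRingCat.of (Localization.Away r)) ⟶ Y) (f₂ : Spec (CommRingCat.of (Localization.Away r')) ⟶ Y)
    (h : sm (algebraMap (Localization.Away r) B) ≫ f₁ = sm φ ≫ f₂) :
    ∃ f : Spec (CommRingCat.of A) ⟶ Y,
      sm (algebraMap A (Localization.Away r)) ≫ f = f₁ ∧ sm (algebraMap A (Localization.Away r')) ≫ f = f₂ := by
  have key : pullback.fst (sm (algebraMap A (Localization.Away r))) (sm (algebraMap A (Localization.Away r'))) ≫ f₁ =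
      pullback.snd _ _ ≫ f₂ := by
    refine (cancel_epi (pullbackSpecIso A (Localization.Away r) (Localization.Away r')).inv).mp ?_
    erw [pullbackSpecIso_inv_fst_assoc, pullbackSpecIso_inv_snd_assoc]
    let Q := Localization.Away r ⊗[A] Localization.Away r'
    have hu : IsUnit ((algebraMap (Localization.Away r) Q) (algebraMap A (Localization.Away r) r')) := by
      rw [← IsScalarTower.algebraMap_apply, ← (Algebra.TensorProduct.includeRight : _ →ₐ[A] Q).commutes]
      exact (IsLocalization.Away.algebraMap_isUnit r').map _
    let ψ : B →+* Q := IsLocalization.Away.lift (algebraMap A (Localization.Away r) r') hu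
    have e1 : ψ.comp (algebraMap (Localization.Away r) B) = algebraMap _ Q := IsLocalization.Away.lift_comp _ _
    have e2 : ψ.comp φ = (Algebra.TensorProduct.includeRight : _ →ₐ[A] Q).toRingHom := by
      refine IsLocalization.ringHom_ext (Submonoid.powers r') ?_
      rw [RingHom.comp_assoc, hφ, IsScalarTower.algebraMap_eq A (Localization.Away r) B, ← RingHom.comp_assoc, e1,
        ← IsScalarTower.algebraMap_eq]
      exact (Algebra.TensorProduct.includeRight : _ →ₐ[A] Q).comp_algebraMap.symm
    have := sm ψ ≫= h
    rw [← Category.assoc, ← sm_comp, e1, ← Category.assoc, ← sm_comp, e2] at this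
    exact this
  let 𝒰 := (Scheme.affineOpenCoverOfSpanRangeEqTop (R := CommRingCat.of A) _ (span_range_pair hr)).openCover
  refine ⟨𝒰.glueMorphisms (fun b : Bool => match b with | true => f₁ | false => f₂) ?_, ?_, ?_⟩
  · rintro (_ | _) (_ | _)
    · haveI : Mono (sm (algebraMap A (Localization.Away r'))) := inferInstanceAs (Mono (𝒰.f false))
      exact congrArg (· ≫ f₂) ((cancel_mono (sm (algebraMap A (Localization.Away r')))).mp pullback.condition)
    · exact (by
        have := (pullbackSymmetry (sm (algebraMap A (Localization.Away r'))) (sm (algebraMap A (Localization.Away r)))).hom ≫= key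
        rw [pullbackSymmetry_hom_comp_fst_assoc, pullbackSymmetry_hom_comp_snd_assoc] at this
        exact this.symm)
    · exact key
    · haveI : Mono (sm (algebraMap A (Localization.Away r))) := inferInstanceAs (Mono (𝒰.f true))
      exact congrArg (· ≫ f₁) ((cancel_mono (sm (algebraMap A (Localization.Away r)))).mp pullback.condition)
  · exact 𝒰.ι_glueMorphisms _ _ true
  · exact 𝒰.ι_glueMorphisms _ _ false

end Groth.Agent.Tors37
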