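import Mathlib.AlgebraicGeometry.Gluing
import Mathlib.AlgebraicGeometry.Limits
import Mathlib.AlgebraicGeometry.PullbackCarrier

/-! Schemes over a base covered by two opens, and morphisms out of them. -/

set_option autoImplicit false
universe u

open CategoryTheory CategoryTheory.Limits AlgebraicGeometry

namespace Groth.Agent.Tors37

/-- The pushout of two open immersions, as schemes. -/
theorem pushout_openImm {O A B : Scheme.{u}} (a : O ⟶ A) (b : O ⟶ B) [IsOpenImmersion a] [IsOpenImmersion b] :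
    ∃ (P : Scheme.{u}) (i : A ⟶ P) (j : B ⟶ P), IsPushout a b i j ∧
      IsOpenImmersion i ∧ IsOpenImmersion j ∧ Set.range i ∪ Set.range j = Set.univ := by
  have : ∀ {i j : WalkingSpan} (f : i ⟶ j), IsOpenImmersion ((span a b).map f) := fun f => inferInstance
  have : HasPushout a b := inferInstanceAs (HasColimit (span a b))
  refine ⟨pushout a b, pushout.inl a b, pushout.inr a b, IsPushout.of_hasPushout a b, ?_, ?_, ?_⟩
  · exact inferInstanceAs (IsOpenImmersion (colimit.ι (span a b) WalkingSpan.left))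
  · exact inferInstanceAs (IsOpenImmersion (colimit.ι (span a b) WalkingSpan.right))
  · refine Set.eq_univ_of_forall fun x => ?_
    obtain ⟨i, xi, rfl⟩ := Scheme.IsLocallyDirected.ι_jointly_surjective (span a b) x
    rcases i with _ | (_ | _)
    · exact .inl ⟨a xi, congr($(colimit.w (span a b) WalkingSpan.Hom.fst).base xi)⟩
    · exact .inl ⟨xi, rfl⟩
    · exact .inr ⟨xi, rfl⟩

variable {X V W : Scheme.{u}} (v : V ⟶ X) (w : W ⟶ X) [IsOpenImmersion v] [IsOpenImmersion w]
  (hcov : Set.range v ∪ Set.range w = Set.univ)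

/-- The cover by two opens. -/
noncomputable def twoOpenCover : X.OpenCover :=
  Scheme.Cover.mkOfCovers (ULift.{0} Bool)
    (fun b => match b.down with | true => V | false => W)
    (fun b => match b with | ⟨true⟩ => v | ⟨false⟩ => w)
    (fun x => by
      rcases (hcov ▸ Set.mem_univ x : x ∈ Set.range v ∪ Set.range w) with ⟨y, hy⟩ | ⟨y, hy⟩
      · exact ⟨⟨true⟩, y, hy⟩
      · exact ⟨⟨false⟩, y, hy⟩)
    (fun b => match b with | ⟨true⟩ => inferInstance | ⟨false⟩ => inferInstance)

include hcov in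
theorem range_pullbackFst_cover {M : Scheme.{u}} (m : M ⟶ X) :
    Set.range (pullback.fst m v) ∪ Set.range (pullback.fst m w) = Set.univ := by
  rw [IsOpenImmersion.range_pullbackFst, IsOpenImmersion.range_pullbackFst, ← Set.preimage_univ (f := m.base),
    ← hcov, Set.preimage_union]
  rfl

variable {M N : Scheme.{u}} (m : M ⟶ X)

include hcov

theorem hom_ext_two {f f' : M ⟶ N} (h₁ : pullback.fst m v ≫ f = pullback.fst m v ≫ f')
    (h₂ : pullback.fst m w ≫ f = pullback.fst m w ≫ f') : f = f' := by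
  refine (twoOpenCover _ _ (range_pullbackFst_cover v w hcov m)).hom_ext _ _ ?_
  rintro ⟨_ | _⟩
  · exact h₂
  · exact h₁

theorem exists_glue_two_hom (fv : pullback m v ⟶ N) (fw : pullback m w ⟶ N)
    (h : ∀ (Z : Scheme.{u}) (p : Z ⟶ pullback m v) (q : Z ⟶ pullback m w),
      p ≫ pullback.fst m v = q ≫ pullback.fst m w → p ≫ fv = q ≫ fw) :
    ∃ f : M ⟶ N, pullback.fst m v ≫ f = fv ∧ pullback.fst m w ≫ f = fw := by
  let 𝒰 := twoOpenCover _ _ (range_pullbackFst_cover v w hcov m)
  refine ⟨𝒰.glueMorphisms (fun b => match b with | ⟨true⟩ => fv | ⟨false⟩ => fw) ?_, ?_, ?_⟩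
  · rintro ⟨_ | _⟩ ⟨_ | _⟩
    · haveI : Mono (pullback.fst m w) := inferInstance
      exact congrArg (· ≫ fw) ((cancel_mono (pullback.fst m w)).mp pullback.condition)
    · exact (h _ _ _ pullback.condition.symm).symm
    · exact h _ _ _ pullback.condition
    · haveI : Mono (pullback.fst m v) := inferInstance
      exact congrArg (· ≫ fv) ((cancel_mono (pullback.fst m v)).mp pullback.condition)
  · exact 𝒰.ι_glueMorphisms _ _ ⟨true⟩
  · exact 𝒰.ι_glueMorphisms _ _ ⟨false⟩

omit hcov

theorem exists_factor_of_range {P A : Scheme.{u}} (p : P ⟶ X) (i : A ⟶ P) [IsOpenImmersion i]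
    (hi : ∀ x : P, (∃ y, v y = p x) → x ∈ Set.range i) {Z : Scheme.{u}} (f : Z ⟶ P) (c : Z ⟶ V)
    (hc : c ≫ v = f ≫ p) : ∃ x : Z ⟶ A, x ≫ i = f := by
  refine ⟨IsOpenImmersion.lift i f ?_, IsOpenImmersion.lift_fac _ _ _⟩
  rintro _ ⟨z, rfl⟩
  exact hi _ ⟨c z, congr($(hc).base z)⟩

include hcov

/-- Two schemes over the opens which agree on the overlap glue. -/
theorem exists_glue_schemes {A : Scheme.{u}} (a : A ⟶ V) {B : Scheme.{u}} (b : B ⟶ W)
    (e : pullback a (pullback.fst v w) ≅ pullback b (pullback.snd v w))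
    (he : e.hom ≫ pullback.snd b (pullback.snd v w) = pullback.snd a (pullback.fst v w)) :
    ∃ (P : Scheme.{u}) (p : P ⟶ X) (i : A ⟶ P) (j : B ⟶ P), IsOpenImmersion i ∧ IsOpenImmersion j ∧
      i ≫ p = a ≫ v ∧ j ≫ p = b ≫ w ∧
      pullback.fst a (pullback.fst v w) ≫ i = e.hom ≫ pullback.fst b (pullback.snd v w) ≫ j ∧
      (∀ x : P, (∃ y, v y = p x) → x ∈ Set.range i) ∧ (∀ x : P, (∃ y, w y = p x) → x ∈ Set.range j) := by
  let α := pullback.fst a (pullback.fst v w)
  let β := e.hom ≫ pullback.fst b (pullback.snd v w)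
  obtain ⟨P, i, j, hP, hi, hj, hu⟩ := pushout_openImm α β
  have hw : α ≫ a ≫ v = β ≫ b ≫ w := by
    simp only [α, β, Category.assoc]
    rw [pullback.condition_assoc, pullback.condition_assoc, ← pullback.condition, reassoc_of% he]
  let p : P ⟶ X := hP.desc (a ≫ v) (b ≫ w) hw
  have hip : i ≫ p = a ≫ v := hP.inl_desc _ _ _
  have hjp : j ≫ p = b ≫ w := hP.inr_desc _ _ _
  refine ⟨P, p, i, j, hi, hj, hip, hjp, by rw [← Category.assoc e.hom]; exact hP.w, ?_, ?_⟩
  · rintro x ⟨y, hy⟩
    rcases (hu ▸ Set.mem_univ x : x ∈ Set.range i ∪ Set.range j) with h | ⟨z, rfl⟩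
    · exact h
    · have hy' : v y = w (b z) := hy.trans congr($(hjp).base z)
      obtain ⟨q, -, hq⟩ := Scheme.Pullback.exists_preimage_pullback y (b z) hy'
      obtain ⟨t, ht, -⟩ := Scheme.Pullback.exists_preimage_pullback (f := b) (g := pullback.snd v w) z q hq.symm
      refine ⟨α (e.inv t), congr($(hP.w).base (e.inv t)).trans (congrArg j ?_)⟩
      refine Eq.trans ?_ ht
      exact congrArg (pullback.fst b _) congr($(e.inv_hom_id).base t)
  · rintro x ⟨y, hy⟩
    rcases (hu ▸ Set.mem_univ x : x ∈ Set.range i ∪ Set.range j) with ⟨z, rfl⟩ | h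
    · have hy' : v (a z) = w y := (hy.trans congr($(hip).base z)).symm
      obtain ⟨q, hq, -⟩ := Scheme.Pullback.exists_preimage_pullback (a z) y hy'
      obtain ⟨t, ht, -⟩ := Scheme.Pullback.exists_preimage_pullback (f := a) (g := pullback.fst v w) z q hq.symm
      exact ⟨β t, congr($(hP.w).base t).symm.trans (congrArg i ht)⟩
    · exact h

end Groth.Agent.Tors37
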