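import Groth.Agent.Tors37.MultSetup
import Groth.Agent.SGA3b53.GroupLikeMA
import Groth.Agent.RedPts82.HopfCoord

/-! Over a valuation ring, a point of a group of multiplicative type on the generic fibre of a faithfully
flat cover whose coboundary is integral is, up to a rational point, integral on a bigger cover. -/

set_option autoImplicit false
set_option linter.style.haveILetI false
set_option linter.unusedSectionVars false
universe u

open scoped TensorProduct
open WithConv

namespace Groth.Agent.Tors37.MultPoint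

section split

variable {V : Type u} [CommRing V] {A : Type u} [CommRing A] [HopfAlgebra V A] {S : Type u} [CommRing S] [Algebra V S]
  {G : Type u} [CommGroup G] (ρ : S ⊗[V] A ≃ₐc[S] MonoidAlgebra S G)

/-- The group-like element of a character. -/
noncomputable def chi (g : G) : S ⊗[V] A := ρ.symm (MonoidAlgebra.single g 1)

theorem chi_one : chi ρ 1 = 1 := by
  rw [chi, ← MonoidAlgebra.one_def, map_one]

theorem chi_mul (g g' : G) : chi ρ (g * g') = chi ρ g * chi ρ g' := by
  rw [chi, chi, chi, ← map_mul, MonoidAlgebra.single_mul_single, mul_one]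

theorem isGroupLike_chi (g : G) : IsGroupLikeElem S (chi ρ g) :=
  (MonoidAlgebra.isGroupLikeElem_single_one g).map ρ.symm

variable {B B' : Type u} [CommRing B] [Algebra V B] [Algebra S B] [IsScalarTower V S B]
  [CommRing B'] [Algebra V B'] [Algebra S B'] [IsScalarTower V S B']

/-- The value of a point at a character. -/
noncomputable def ev (f : A →ₐ[V] B) (g : G) : B := Algebra.TensorProduct.liftEquivRight V S A B f (chi ρ g)

theorem ev_one (f : A →ₐ[V] B) : ev ρ f 1 = 1 := by rw [ev, chi_one, map_one]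

theorem ev_mul_char (f : A →ₐ[V] B) (g g' : G) : ev ρ f (g * g') = ev ρ f g * ev ρ f g' := by
  rw [ev, chi_mul, map_mul]; rfl

/-- The values of a point, as units. -/
noncomputable def evU (f : A →ₐ[V] B) : G →* Bˣ :=
  MonoidHom.toHomUnits
    { toFun := ev ρ f
      map_one' := ev_one ρ f
      map_mul' := ev_mul_char ρ f }

@[simp] theorem coe_evU (f : A →ₐ[V] B) (g : G) : (evU ρ f g : B) = ev ρ f g := rfl

theorem ev_mul (f f' : WithConv (A →ₐ[V] B)) (g : G) :
    ev ρ (f * f').ofConv g = ev ρ f.ofConv g * ev ρ f'.ofConv g := by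
  have h := congrArg (fun q : WithConv (S ⊗[V] A →ₐ[S] B) => q.ofConv (chi ρ g)) (RedPts82.Hopf.liftEquiv_mul (k := V) S f f')
  simp only [ofConv_toConv, AlgHom.convMul_apply, (isGroupLike_chi ρ g).comul_eq_tmul_self,
    Algebra.TensorProduct.map_tmul, Algebra.TensorProduct.lmul'_apply_tmul] at h
  exact h

/-- Points with the same values are equal. -/
theorem ext {f f' : A →ₐ[V] B} (h : ∀ g, ev ρ f g = ev ρ f' g) : f = f' := by
  refine (Algebra.TensorProduct.liftEquivRight V S A B).injective ?_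
  have h1 : (Algebra.TensorProduct.liftEquivRight V S A B f).comp ((ρ.symm : MonoidAlgebra S G ≃ₐ[S] S ⊗[V] A) : MonoidAlgebra S G →ₐ[S] S ⊗[V] A) =
      (Algebra.TensorProduct.liftEquivRight V S A B f').comp ((ρ.symm : MonoidAlgebra S G ≃ₐ[S] S ⊗[V] A) : MonoidAlgebra S G →ₐ[S] S ⊗[V] A) :=
    MonoidAlgebra.algHom_ext' (MonoidHom.ext fun g => h g) (by ext)
  refine AlgHom.ext fun x => ?_
  have := DFunLike.congr_fun h1 (ρ x)
  simpa using this

/-- Semilinear naturality. -/
theorem map_lift (σ : S →ₐ[V] S) (q : B →ₐ[V] B') (hq : ∀ s, q (algebraMap S B s) = algebraMap S B' (σ s))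
    (f : A →ₐ[V] B) (x : S ⊗[V] A) :
    q (Algebra.TensorProduct.liftEquivRight V S A B f x) = Algebra.TensorProduct.liftEquivRight V S A B' (q.comp f)
      (Algebra.TensorProduct.map σ (AlgHom.id V A) x) := by
  induction x using TensorProduct.induction_on with
  | zero => simp
  | add a b ha hb => simp only [map_add, ha, hb]
  | tmul s a => simp [Algebra.ofId_apply, hq]

theorem map_ev (q : B →ₐ[S] B') (f : A →ₐ[V] B) (g : G) : q (ev ρ f g) = ev ρ ((q.restrictScalars V).comp f) g := by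
  have := map_lift (σ := AlgHom.id V S) (q.restrictScalars V) (fun s => q.commutes s) f (chi ρ g)
  rw [Algebra.TensorProduct.map_id] at this
  exact this

end split

/-- Composition distributes over the product of points. -/
theorem comp_mul {V : Type u} [CommRing V] {A : Type u} [CommRing A] [HopfAlgebra V A] (C D : Type u) [CommRing C]
    [Algebra V C] [CommRing D] [Algebra V D] (q : C →ₐ[V] D) (a b : WithConv (A →ₐ[V] C)) :
    toConv (q.comp (a * b).ofConv) = toConv (q.comp a.ofConv) * toConv (q.comp b.ofConv) := by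
  refine WithConv.ofConv_injective ?_
  rw [ofConv_toConv, AlgHom.comp_convMul_distrib]

/-- Points of a group of multiplicative type commute. -/
theorem mul_comm_of_isMultType {V : Type u} [CommRing V] [IsDomain V] [IsIntegrallyClosed V] {A : Type u} [CommRing A]
    [HopfAlgebra V A] (hft : Algebra.FiniteType V A) (h : SGA3b.IsMultType V A) {B : Type u} [CommRing B] [Algebra V B]
    (f f' : WithConv (A →ₐ[V] B)) : f * f' = f' * f := by
  obtain ⟨L, _, _, _, _, -, -, -, -, hff, G, _, ⟨ρ⟩⟩ := MultSetup.exists_galois_split hft h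
  let S := integralClosure V L
  haveI := hff
  let η : B →ₐ[V] S ⊗[V] B := Algebra.TensorProduct.includeRight
  have hη : Function.Injective η := fun a b hab =>
    Module.FaithfullyFlat.tensorProduct_mk_injective (A := V) (B := S) B hab
  apply WithConv.ofConv_injective
  refine AlgHom.ext fun a => hη ?_
  have e : η.comp (f * f').ofConv = η.comp (f' * f).ofConv := by
    rw [AlgHom.comp_convMul_distrib, AlgHom.comp_convMul_distrib]
    exact ext ρ fun g => by rw [ev_mul, ev_mul, mul_comm]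
  exact DFunLike.congr_fun e a

section main

variable {V : Type u} [CommRing V] [IsDomain V] [ValuationRing V] {A : Type u} [CommRing A] [HopfAlgebra V A]
  {W₀ : Type u} [CommRing W₀] [Algebra V W₀] [Module.FaithfullyFlat V W₀]

set_option maxHeartbeats 1600000 in
/-- The integral point. -/
theorem exists_point (hft : Algebra.FiniteType V A) (h : SGA3b.IsMultType V A)
    (m : A →ₐ[V] FractionRing V ⊗[V] W₀) (u v : A →ₐ[V] W₀ ⊗[V] W₀)
    (hdesc : toConv ((Algebra.TensorProduct.map (AlgHom.id V (FractionRing V))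
          (Algebra.TensorProduct.includeRight : W₀ →ₐ[V] W₀ ⊗[V] W₀)).comp m) *
        toConv ((Algebra.TensorProduct.includeRight : W₀ ⊗[V] W₀ →ₐ[V] FractionRing V ⊗[V] (W₀ ⊗[V] W₀)).comp u) =
      toConv ((Algebra.TensorProduct.includeRight : W₀ ⊗[V] W₀ →ₐ[V] FractionRing V ⊗[V] (W₀ ⊗[V] W₀)).comp v) *
        toConv ((Algebra.TensorProduct.map (AlgHom.id V (FractionRing V))
          (Algebra.TensorProduct.includeLeft : W₀ →ₐ[V] W₀ ⊗[V] W₀)).comp m)) :
    ∃ (W : Type u) (_ : CommRing W) (_ : Algebra V W) (β : W₀ →ₐ[V] W) (n : A →ₐ[V] W) (f : A →ₐ[V] FractionRing V),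
      Module.FaithfullyFlat V W ∧
      toConv ((Algebra.TensorProduct.map (AlgHom.id V (FractionRing V)) β).comp m) =
        toConv ((Algebra.TensorProduct.includeLeft : FractionRing V →ₐ[V] FractionRing V ⊗[V] W).comp f) *
          toConv ((Algebra.TensorProduct.includeRight : W →ₐ[V] FractionRing V ⊗[V] W).comp n) := by
  classical
  let K := FractionRing V
  obtain ⟨L, _, _, _, _, hfin, hgal, het, hmf, hff, G, _, ⟨ρ⟩⟩ := MultSetup.exists_galois_split hft h
  haveI := hfin
  haveI := hgal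
  haveI := het
  haveI := hmf
  haveI := hff
  let S := integralClosure V L
  haveI : IsLocalization (Algebra.algebraMapSubmonoid S (nonZeroDivisors V)) L :=
    IsIntegralClosure.isLocalization V K L S
  haveI : IsFractionRing S L := integralClosure.isFractionRing_of_finite_extension K L
  have hinjL : Function.Injective (algebraMap V L) := MultSetup.algebraMap_L_injective
  have hU : ValLift.Unram (K := K) S := MultSetup.unram
  haveI : Group.FG G := by
    haveI := hft
    haveI : Algebra.FiniteType S (MonoidAlgebra S G) :=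
      Algebra.FiniteType.equiv (inferInstance : Algebra.FiniteType S (S ⊗[V] A))
        (ρ : S ⊗[V] A ≃ₐ[S] MonoidAlgebra S G)
    exact (MonoidAlgebra.finiteType_iff_group_fg (R := S)).1 inferInstance
  haveI : Module.FaithfullyFlat V (S ⊗[V] W₀) := Module.FaithfullyFlat.trans V S (S ⊗[V] W₀)
  -- rings
  let E := L ⊗[V] W₀
  let E₂ := L ⊗[V] (W₀ ⊗[V] W₀)
  let i : S ⊗[V] W₀ →ₐ[S] E := Algebra.TensorProduct.map (Algebra.ofId S L) (AlgHom.id V W₀)
  let i₂ : S ⊗[V] (W₀ ⊗[V] W₀) →ₐ[S] E₂ := Algebra.TensorProduct.map (Algebra.ofId S L) (AlgHom.id V _)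
  have hi : Function.Injective i :=
    Module.Flat.rTensor_preserves_injective_linearMap (M := W₀) S.val.toLinearMap Subtype.val_injective
  have hi₂ : Function.Injective i₂ :=
    Module.Flat.rTensor_preserves_injective_linearMap (M := W₀ ⊗[V] W₀) S.val.toLinearMap Subtype.val_injective
  let κ : K →ₐ[V] L := IsScalarTower.toAlgHom V K L
  let mE : A →ₐ[V] E := (Algebra.TensorProduct.map κ (AlgHom.id V W₀)).comp m
  let X : G →* Eˣ := evU ρ mE
  -- denominators
  have hden : ∀ x : E, ∃ (d : S) (w : S ⊗[V] W₀), d ≠ 0 ∧ x * ((d : L) ⊗ₜ[V] (1 : W₀)) = i w := by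
    intro x
    induction x using TensorProduct.induction_on with
    | zero => exact ⟨1, 0, one_ne_zero, by rw [zero_mul, map_zero]⟩
    | tmul l w =>
      obtain ⟨s, d, hd, hl⟩ := IsFractionRing.div_surjective S l
      refine ⟨d, s ⊗ₜ w, nonZeroDivisors.ne_zero hd, ?_⟩
      have hd0 : (d : L) ≠ 0 := fun h0 => nonZeroDivisors.ne_zero hd (Subtype.ext h0)
      rw [Algebra.TensorProduct.tmul_mul_tmul, mul_one, ← hl]
      exact congrArg (fun t : L => t ⊗ₜ[V] w) (div_mul_cancel₀ (s : L) hd0)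
    | add x y hx hy =>
      obtain ⟨d, w, hd, hw⟩ := hx
      obtain ⟨d', w', hd', hw'⟩ := hy
      refine ⟨d * d', w * (d' ⊗ₜ 1) + w' * (d ⊗ₜ 1), mul_ne_zero hd hd', ?_⟩
      have e : ((d * d' : S) : L) ⊗ₜ[V] (1 : W₀) = ((d : L) ⊗ₜ[V] (1 : W₀)) * ((d' : L) ⊗ₜ[V] (1 : W₀)) := by
        rw [Algebra.TensorProduct.tmul_mul_tmul, mul_one, MulMemClass.coe_mul]
      rw [map_add, map_mul, map_mul, ← hw, ← hw', e,
        show i (d ⊗ₜ[V] (1 : W₀)) = (d : L) ⊗ₜ[V] (1 : W₀) from rfl,
        show i (d' ⊗ₜ[V] (1 : W₀)) = (d' : L) ⊗ₜ[V] (1 : W₀) from rfl]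
      ring
  -- images of the fraction field
  let ιL : L →* E := (Algebra.TensorProduct.includeLeft : L →ₐ[V] E).toRingHom.toMonoidHom
  have hιL : ∀ l, ιL l = l ⊗ₜ[V] (1 : W₀) := fun l => rfl
  have hregS : ∀ d : S, d ≠ 0 → IsUnit ((d : L) ⊗ₜ[V] (1 : W₀) : E) := fun d hd =>
    (IsUnit.mk0 (d : L) fun h0 => hd (Subtype.ext h0)).map ιL
  let U : Subgroup Eˣ := (Units.map (i.toRingHom.toMonoidHom)).range
  let Lu : Lˣ →* Eˣ := Units.map ιL
  -- the divisor of each value
  let ψ₁ := Algebra.TensorProduct.map (AlgHom.id S S) (Algebra.TensorProduct.includeLeft : W₀ →ₐ[V] W₀ ⊗[V] W₀)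
  let ψ₂ := Algebra.TensorProduct.map (AlgHom.id S S) (Algebra.TensorProduct.includeRight : W₀ →ₐ[V] W₀ ⊗[V] W₀)
  let j₁ : E →ₐ[S] E₂ := Algebra.TensorProduct.map (AlgHom.id S L) (Algebra.TensorProduct.includeLeft : W₀ →ₐ[V] W₀ ⊗[V] W₀)
  let j₂ : E →ₐ[S] E₂ := Algebra.TensorProduct.map (AlgHom.id S L) (Algebra.TensorProduct.includeRight : W₀ →ₐ[V] W₀ ⊗[V] W₀)
  have hij₁ : ∀ w, i₂ (ψ₁ w) = j₁ (i w) := by
    intro w
    induction w using TensorProduct.induction_on with
    | zero => simp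
    | add a b ha hb => simp only [map_add, ha, hb]
    | tmul s a => rfl
  have hij₂ : ∀ w, i₂ (ψ₂ w) = j₂ (i w) := by
    intro w
    induction w using TensorProduct.induction_on with
    | zero => simp
    | add a b ha hb => simp only [map_add, ha, hb]
    | tmul s a => rfl
  let u' : A →ₐ[V] S ⊗[V] (W₀ ⊗[V] W₀) := Algebra.TensorProduct.includeRight.comp u
  let v' : A →ₐ[V] S ⊗[V] (W₀ ⊗[V] W₀) := Algebra.TensorProduct.includeRight.comp v
  have hXdesc : ∀ g, j₂ (X g : E) * i₂ (ev ρ u' g) = i₂ (ev ρ v' g) * j₁ (X g : E) := by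
    intro g
    have h1 := congrArg (fun q : WithConv (A →ₐ[V] K ⊗[V] (W₀ ⊗[V] W₀)) =>
      toConv ((Algebra.TensorProduct.map κ (AlgHom.id V (W₀ ⊗[V] W₀))).comp q.ofConv)) hdesc
    simp only [AlgHom.comp_convMul_distrib, toConv_ofConv, ofConv_toConv, ← AlgHom.comp_assoc] at h1
    have e : ∀ (d : W₀ →ₐ[V] W₀ ⊗[V] W₀),
        (Algebra.TensorProduct.map κ (AlgHom.id V (W₀ ⊗[V] W₀))).comp (Algebra.TensorProduct.map (AlgHom.id V K) d) =
          ((Algebra.TensorProduct.map (AlgHom.id S L) d).restrictScalars V).comp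
            (Algebra.TensorProduct.map κ (AlgHom.id V W₀)) := fun d => by
      apply Algebra.TensorProduct.ext' fun a b => ?_
      simp
    have e' : (Algebra.TensorProduct.map κ (AlgHom.id V (W₀ ⊗[V] W₀))).comp
        (Algebra.TensorProduct.includeRight : W₀ ⊗[V] W₀ →ₐ[V] K ⊗[V] (W₀ ⊗[V] W₀)) =
          (i₂.restrictScalars V).comp Algebra.TensorProduct.includeRight := by
      apply AlgHom.ext fun z => ?_
      show κ 1 ⊗ₜ[V] z = ((1 : S) : L) ⊗ₜ[V] z
      simp
    rw [e, e, e'] at h1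
    have h2 := congrArg (fun q => ev ρ q.ofConv g) h1
    simp only [ev_mul, ofConv_toConv, AlgHom.comp_assoc] at h2
    have e2 : ∀ (q : E →ₐ[S] E₂), q (X g : E) = ev ρ ((q.restrictScalars V).comp mE) g := fun q => map_ev ρ q mE g
    have e3 : ∀ w : A →ₐ[V] S ⊗[V] (W₀ ⊗[V] W₀), i₂ (ev ρ w g) = ev ρ ((i₂.restrictScalars V).comp w) g :=
      fun w => map_ev ρ i₂ w g
    rw [e2, e2, e3, e3]
    exact h2
  have hhX : ∀ g, ∃ l : Lˣ, X g / Lu l ∈ U := by
    intro g
    obtain ⟨d, w, hd, hw⟩ := hden (X g : E)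
    obtain ⟨d', w', hd', hw'⟩ := hden ((X g)⁻¹ : Eˣ)
    have hww : w * w' = (d * d') ⊗ₜ[V] (1 : W₀) := hi (by
      rw [map_mul, ← hw, ← hw', show i ((d * d') ⊗ₜ[V] (1 : W₀)) = ((d : L) * (d' : L)) ⊗ₜ[V] (1 : W₀) from rfl,
        mul_mul_mul_comm, Units.mul_inv, one_mul, Algebra.TensorProduct.tmul_mul_tmul, mul_one])
    have hw2 : ψ₂ w = ψ₁ w * ((evU ρ v' g / evU ρ u' g : (S ⊗[V] (W₀ ⊗[V] W₀))ˣ) : S ⊗[V] (W₀ ⊗[V] W₀)) := by
      rw [div_eq_mul_inv, Units.val_mul, ← mul_assoc, Units.eq_mul_inv_iff_mul_eq, coe_evU, coe_evU]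
      refine hi₂ ?_
      rw [map_mul, map_mul, hij₁, hij₂, ← hw, map_mul, map_mul, mul_right_comm, hXdesc]
      have e0 : j₁ ((d : L) ⊗ₜ[V] (1 : W₀)) = j₂ ((d : L) ⊗ₜ[V] (1 : W₀)) := by
        show (d : L) ⊗ₜ[V] ((1 : W₀) ⊗ₜ[V] (1 : W₀)) = (d : L) ⊗ₜ[V] ((1 : W₀) ⊗ₜ[V] (1 : W₀))
        rfl
      rw [e0]
      ring
    obtain ⟨c, e, hc, hwe⟩ := MultSetup.exists_principal MultSetup.exists_span_singleton w w' (d * d')
      (mul_ne_zero hd hd') hww _ hw2
    have hdL : (d : L) ≠ 0 := fun h0 => hd (Subtype.ext h0)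
    have hcL : (c : L) ≠ 0 := fun h0 => hc (Subtype.ext h0)
    refine ⟨Units.mk0 (c : L) hcL / Units.mk0 (d : L) hdL, e, ?_⟩
    rw [eq_div_iff_mul_eq', map_div, ← mul_div_assoc, div_eq_iff_eq_mul]
    apply Units.ext
    rw [Units.val_mul, Units.val_mul]
    show i (e : S ⊗[V] W₀) * ((c : L) ⊗ₜ[V] (1 : W₀)) = (X g : E) * ((d : L) ⊗ₜ[V] (1 : W₀))
    rw [hw, hwe, map_mul, mul_comm]
    rfl
  choose x hx using hhX
  -- principal units come from units of the integral closure
  let q : L →ₗ[V] L ⧸ Subalgebra.toSubmodule S := (Subalgebra.toSubmodule S).mkQ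
  have hintE : ∀ y : L, ∀ z : S ⊗[V] W₀, i z = y ⊗ₜ[V] (1 : W₀) → y ∈ S := by
    intro y z hz
    have h0 : ∀ z, q.rTensor W₀ (i z) = 0 := by
      intro z
      induction z using TensorProduct.induction_on with
      | zero => simp
      | add a b ha hb => simp only [map_add, ha, hb, add_zero]
      | tmul s a =>
        show q (s : L) ⊗ₜ[V] a = 0
        rw [show q (s : L) = 0 from (Submodule.Quotient.mk_eq_zero _).2 s.2, TensorProduct.zero_tmul]
    have h1 : q y ⊗ₜ[V] (1 : W₀) = 0 := by rw [← h0 z, hz]; rfl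
    have h2 : (1 : W₀) ⊗ₜ[V] q y = 0 := by
      simpa using congrArg (TensorProduct.comm V _ W₀) h1
    have h3 : q y = 0 := Module.FaithfullyFlat.tensorProduct_mk_injective (A := V) (B := W₀) _
      (h2.trans (TensorProduct.tmul_zero _ _).symm)
    exact (Submodule.Quotient.mk_eq_zero _).1 h3
  have hval : ∀ y : Lˣ, Lu y ∈ U → ∀ mx, ValLift.val hU mx y = 1 := by
    rintro y ⟨e, he⟩ mx
    have h1 : (y : L) ∈ S := hintE _ _ (congrArg Units.val he)
    have h2 : ((y⁻¹ : Lˣ) : L) ∈ S := hintE _ _ (congrArg Units.val ((map_inv (Units.map (i.toRingHom.toMonoidHom)) e).trans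
      ((congrArg (·⁻¹) he).trans (map_inv Lu y).symm)))
    refine ValLift.val_eq_one hU (a := ⟨_, h1⟩) (b := 1) (fun hm => mx.isMaximal.isPrime.one_notMem ?_)
      mx.isMaximal.isPrime.one_notMem (by rw [OneMemClass.coe_one, mul_one])
    have := mx.asIdeal.mul_mem_left ⟨_, h2⟩ hm
    rwa [show (⟨_, h2⟩ : S) * ⟨_, h1⟩ = 1 from Subtype.ext y.inv_mul] at this
  -- Galois action
  have hσS : ∀ (σ : L ≃ₐ[K] L), ∀ s ∈ S, σ s ∈ S := fun σ s hs =>
    IsIntegral.map (σ.toAlgHom.restrictScalars V) hs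
  let σS : (L ≃ₐ[K] L) → (S →ₐ[V] S) := fun σ =>
    ((σ.toAlgHom.restrictScalars V).comp S.val).codRestrict S fun s => hσS σ s s.2
  have hidem : ∀ e : S, IsIdempotentElem e → e = 0 ∨ e = 1 := fun e he => IsIdempotentElem.iff_eq_zero_or_one.1 he
  have hφ : ∀ σ g, ∃ g', Algebra.TensorProduct.map (σS σ) (AlgHom.id V A) (chi ρ g) = chi ρ g' := by
    intro σ g
    obtain ⟨g', hg'⟩ := SGA3b53.exists_eq_single_of_connected hidem
      ((SGA3b53.isGroupLike_map (σS σ) (isGroupLike_chi ρ g)).map ρ)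
    refine ⟨g', ?_⟩
    rw [show chi ρ g' = ρ.symm (MonoidAlgebra.single g' 1) from rfl, ← hg']
    exact (ρ.symm_apply_apply _).symm
  choose φ hφ using hφ
  let σE : (L ≃ₐ[K] L) → (E →ₐ[V] E) := fun σ =>
    Algebra.TensorProduct.map (σ.toAlgHom.restrictScalars V) (AlgHom.id V W₀)
  have hσm : ∀ σ, (σE σ).comp mE = mE := fun σ => by
    rw [← AlgHom.comp_assoc, ← Algebra.TensorProduct.map_comp, AlgHom.id_comp]
    congr 2
    exact AlgHom.ext fun k => σ.commutes k
  have hσX : ∀ σ g, σE σ (X g : E) = X (φ σ g) := by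
    intro σ g
    have := map_lift (σ := σS σ) (σE σ) (fun s => by simp [σE, σS]; rfl) mE (chi ρ g)
    rw [hσm, hφ] at this
    exact this
  obtain ⟨F, hFv, hFe⟩ := ValLift.exists_lift hU (ρ := (MonoidHom.id (L ≃ₐ[K] L))) hσS φ x
    (fun mx g g' => by
      rw [← map_mul]
      have h1 : Lu (x (g * g') / (x g * x g')) ∈ U := by
        have e : Lu (x (g * g') / (x g * x g')) = (X g / Lu (x g)) * (X g' / Lu (x g')) / (X (g * g') / Lu (x (g * g'))) := by
          rw [map_div, map_mul, map_mul, div_mul_div_comm, div_div_div_cancel_left]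
        rw [e]
        exact U.div_mem (U.mul_mem (hx g) (hx g')) (hx _)
      exact div_eq_one.1 ((map_div (ValLift.val hU mx) _ _).symm.trans (hval _ h1 mx)))
    (fun σ mx g => by
      have hmap : ∀ y ∈ U, Units.map (σE σ).toRingHom.toMonoidHom y ∈ U := by
        rintro _ ⟨e, rfl⟩
        refine ⟨Units.map (Algebra.TensorProduct.map (σS σ) (AlgHom.id V W₀)).toRingHom.toMonoidHom e, Units.ext ?_⟩
        show i (Algebra.TensorProduct.map (σS σ) (AlgHom.id V W₀) (e : S ⊗[V] W₀)) = σE σ (i e)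
        generalize (e : S ⊗[V] W₀) = z
        induction z using TensorProduct.induction_on with
        | zero => simp
        | add a b ha hb => simp only [map_add, ha, hb]
        | tmul s a => simp [i, σE, σS]; rfl
      have h1 : Lu (x (φ σ g) / ValLift.actL (MonoidHom.id (L ≃ₐ[K] L)) σ (x g)) ∈ U := by
        have h2 := hmap _ (hx g)
        have e1 : Units.map (σE σ).toRingHom.toMonoidHom (X g) = X (φ σ g) := Units.ext (hσX σ g)
        have e2 : Units.map (σE σ).toRingHom.toMonoidHom (Lu (x g)) =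
            Lu (ValLift.actL (MonoidHom.id (L ≃ₐ[K] L)) σ (x g)) := Units.ext (by
          show σE σ (((x g : Lˣ) : L) ⊗ₜ[V] (1 : W₀)) = _
          simp [σE]; rfl)
        rw [map_div, e1, e2] at h2
        have h3 := U.div_mem h2 (hx (φ σ g))
        rwa [div_div_div_cancel_left, ← map_div] at h3
      exact div_eq_one.1 ((map_div (ValLift.val hU mx) _ _).symm.trans (hval _ h1 mx)))
  -- the rational point
  let FS : MonoidAlgebra S G →ₐ[S] L := MonoidAlgebra.lift S L G ((Units.coeHom L).comp F)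
  let fL : A →ₐ[V] L := ((FS.comp (ρ : S ⊗[V] A ≃ₐ[S] MonoidAlgebra S G).toAlgHom).restrictScalars V).comp
    Algebra.TensorProduct.includeRight
  have hfL : ∀ g, ev ρ fL g = F g := by
    intro g
    rw [ev, show Algebra.TensorProduct.liftEquivRight V S A L fL = FS.comp (ρ : S ⊗[V] A ≃ₐ[S] MonoidAlgebra S G).toAlgHom
      from (Algebra.TensorProduct.liftEquivRight V S A L).apply_symm_apply _]
    show FS (ρ (ρ.symm (MonoidAlgebra.single g 1))) = _
    rw [show ρ (ρ.symm (MonoidAlgebra.single g 1)) = MonoidAlgebra.single g 1 from ρ.apply_symm_apply _]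
    simp [FS]
  have hφs : ∀ σ, Function.Surjective (φ σ) := by
    intro σ g
    refine ⟨φ σ⁻¹ g, ?_⟩
    have hinj : Function.Injective (chi ρ) := fun a b hab =>
      MonoidAlgebra.single_left_injective one_ne_zero (ρ.symm.injective hab)
    refine hinj ?_
    rw [← hφ, ← hφ, ← AlgHom.comp_apply, ← Algebra.TensorProduct.map_comp, AlgHom.id_comp,
      show (σS σ).comp (σS σ⁻¹) = AlgHom.id V S from AlgHom.ext fun s => Subtype.ext (by
        show σ (σ⁻¹ (s : L)) = s
        exact σ.apply_symm_apply _), Algebra.TensorProduct.map_id, AlgHom.id_apply]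
  have hfix : ∀ σ : L ≃ₐ[K] L, (σ.toAlgHom.restrictScalars V).comp fL = fL := by
    intro σ
    refine ext ρ fun g => ?_
    obtain ⟨g₀, rfl⟩ := hφs σ g
    have := map_lift (σ := σS σ) (σ.toAlgHom.restrictScalars V) (fun s => rfl) fL (chi ρ g₀)
    rw [hφ] at this
    refine this.symm.trans ?_
    show σ (ev ρ fL g₀) = ev ρ fL (φ σ g₀)
    rw [hfL, hfL, hFe]
    rfl
  have hK : ∀ a, fL a ∈ κ.range := fun a => by
    obtain ⟨k, hk⟩ := (IsGalois.mem_range_algebraMap_iff_fixed (F := K) (fL a)).2 fun σ => DFunLike.congr_fun (hfix σ) a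
    exact ⟨k, hk⟩
  let f : A →ₐ[V] K := (AlgEquiv.ofInjective κ (algebraMap K L).injective).symm.toAlgHom.comp (fL.codRestrict κ.range hK)
  have hf : κ.comp f = fL := AlgHom.ext fun a => congrArg Subtype.val
    ((AlgEquiv.ofInjective κ (algebraMap K L).injective).apply_symm_apply ⟨fL a, hK a⟩)
  -- the integral point
  have hY : ∀ g, X g / Lu (F g) ∈ U := by
    intro g
    have h0 : ∀ mx, ValLift.val hU mx (x g / F g) = 1 := fun mx => by rw [map_div, hFv, div_self']
    obtain ⟨h1, h2⟩ := ValLift.mem_of_val_eq_one hU h0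
    have h3 : Lu (x g / F g) ∈ U := by
      refine ⟨Units.map (Algebra.TensorProduct.includeLeft : S →ₐ[V] S ⊗[V] W₀).toRingHom.toMonoidHom
        ⟨⟨_, h1⟩, ⟨_, h2⟩, Subtype.ext (x g / F g).mul_inv, Subtype.ext (x g / F g).inv_mul⟩, Units.ext ?_⟩
      show i ((⟨_, h1⟩ : S) ⊗ₜ[V] (1 : W₀)) = _
      rfl
    have := U.mul_mem (hx g) h3
    rwa [map_div, div_mul_div_cancel] at this
  choose Y hY using hY
  have hiU : Function.Injective (Units.map i.toRingHom.toMonoidHom) := fun a b hab => Units.ext (hi (congrArg Units.val hab))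
  let Yh : G →* (S ⊗[V] W₀)ˣ := MonoidHom.mk' Y fun g g' => hiU (by
    rw [map_mul, hY, hY, hY, map_mul, map_mul, map_mul, div_mul_div_comm])
  let YS : MonoidAlgebra S G →ₐ[S] S ⊗[V] W₀ := MonoidAlgebra.lift S (S ⊗[V] W₀) G ((Units.coeHom _).comp Yh)
  let n : A →ₐ[V] S ⊗[V] W₀ := ((YS.comp (ρ : S ⊗[V] A ≃ₐ[S] MonoidAlgebra S G).toAlgHom).restrictScalars V).comp
    Algebra.TensorProduct.includeRight
  have hn : ∀ g, ev ρ n g = Y g := by
    intro g
    rw [ev, show Algebra.TensorProduct.liftEquivRight V S A (S ⊗[V] W₀) n = YS.comp (ρ : S ⊗[V] A ≃ₐ[S] MonoidAlgebra S G).toAlgHom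
      from (Algebra.TensorProduct.liftEquivRight V S A (S ⊗[V] W₀)).apply_symm_apply _]
    show YS (ρ (ρ.symm (MonoidAlgebra.single g 1))) = _
    rw [show ρ (ρ.symm (MonoidAlgebra.single g 1)) = MonoidAlgebra.single g 1 from ρ.apply_symm_apply _]
    simp [YS, Yh]
  let incL : L →ₐ[S] E := Algebra.TensorProduct.includeLeft
  have hkey : toConv mE = toConv ((incL.restrictScalars V).comp fL) * toConv ((i.restrictScalars V).comp n) := by
    refine WithConv.ofConv_injective (ext ρ fun g => ?_)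
    rw [ev_mul, ofConv_toConv, ofConv_toConv, ofConv_toConv,
      show ev ρ ((incL.restrictScalars V).comp fL) g = incL (ev ρ fL g) from (map_ev ρ incL fL g).symm,
      show ev ρ ((i.restrictScalars V).comp n) g = i (ev ρ n g) from (map_ev ρ i n g).symm, hfL, hn]
    have := congrArg (fun y : Eˣ => (y : E)) (eq_mul_of_div_eq' (hY g).symm)
    exact this
  -- transport to the generic fibre of the new cover
  let W := S ⊗[V] W₀
  let β : W₀ →ₐ[V] W := Algebra.TensorProduct.includeRight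
  let gS : S →ₐ[V] K ⊗[V] W :=
    (Algebra.TensorProduct.includeRight : W →ₐ[V] K ⊗[V] W).comp Algebra.TensorProduct.includeLeft
  have hgS : ∀ y : Algebra.algebraMapSubmonoid S (nonZeroDivisors V), IsUnit (gS (y : S)) := by
    rintro ⟨_, c, hc, rfl⟩
    rw [AlgHom.commutes, IsScalarTower.algebraMap_apply V K (K ⊗[V] W)]
    exact ((IsUnit.mk0 _) ((map_ne_zero_iff _ (IsFractionRing.injective V K)).2 (nonZeroDivisors.ne_zero hc))).map _
  let θ : L →ₐ[V] K ⊗[V] W := IsLocalization.liftAlgHom (A := V) (R := S) (S := L) (P := K ⊗[V] W) hgS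
  have hθS : ∀ s : S, θ (s : L) = gS s := fun s => IsLocalization.lift_eq _ _
  have hθK : θ.comp κ = Algebra.TensorProduct.includeLeft :=
    IsLocalization.algHom_ext (nonZeroDivisors V) (Algebra.ext_id _ _ _)
  let μ : E →ₐ[V] K ⊗[V] W := Algebra.TensorProduct.lift θ
    ((Algebra.TensorProduct.includeRight : W →ₐ[V] K ⊗[V] W).comp β) (fun a b => by exact @Commute.all (K ⊗[V] W) _ (θ a) _)
  refine ⟨W, inferInstance, inferInstance, β, n, f, inferInstance, ?_⟩
  have h1 := congrArg (fun q : WithConv (A →ₐ[V] E) => toConv (μ.comp q.ofConv)) hkey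
  simp only [AlgHom.comp_convMul_distrib, toConv_ofConv, ofConv_toConv] at h1
  have e1 : μ.comp (Algebra.TensorProduct.map κ (AlgHom.id V W₀)) = Algebra.TensorProduct.map (AlgHom.id V K) β := by
    apply Algebra.TensorProduct.ext' fun k w => ?_
    show θ (κ k) * (1 : K) ⊗ₜ[V] β w = k ⊗ₜ[V] β w
    rw [show θ (κ k) = k ⊗ₜ[V] (1 : W) from DFunLike.congr_fun hθK k, Algebra.TensorProduct.tmul_mul_tmul, mul_one, one_mul]
  have e2 : μ.comp (i.restrictScalars V) = (Algebra.TensorProduct.includeRight : W →ₐ[V] K ⊗[V] W) := by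
    apply Algebra.TensorProduct.ext' fun s w => ?_
    show θ (s : L) * _ = _
    rw [hθS]
    show (1 : K) ⊗ₜ[V] (s ⊗ₜ[V] (1 : W₀)) * (1 : K) ⊗ₜ[V] ((1 : S) ⊗ₜ[V] w) = (1 : K) ⊗ₜ[V] (s ⊗ₜ[V] w)
    rw [Algebra.TensorProduct.tmul_mul_tmul, Algebra.TensorProduct.tmul_mul_tmul, mul_one, one_mul, mul_one]
  have e3 : μ.comp ((incL.restrictScalars V).comp fL) = (Algebra.TensorProduct.includeLeft : K →ₐ[V] K ⊗[V] W).comp f := by
    rw [← hf, ← hθK]
    ext a
    show θ (κ (f a)) * ((1 : K) ⊗ₜ[V] ((1 : S) ⊗ₜ[V] (1 : W₀))) = θ (κ (f a))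
    exact mul_one (θ (κ (f a)))
  rw [← e1, AlgHom.comp_assoc]
  show toConv (μ.comp mE) = _
  refine h1.trans ?_
  refine (comp_mul (A := A) E (K ⊗[V] W) μ _ _).trans ?_
  rw [ofConv_toConv, ofConv_toConv]
  have e2' : μ.comp ((i.restrictScalars V).comp n) = (Algebra.TensorProduct.includeRight : W →ₐ[V] K ⊗[V] W).comp n :=
    AlgHom.ext fun a => DFunLike.congr_fun e2 (n a)
  rw [e3, e2']

end main

end Groth.Agent.Tors37.MultPoint
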