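import Groth.Agent.Tors37.ValLiftMain
import Groth.Agent.SGA3b53.NormalIsotriv
import Groth.Agent.S1963

/-! Splitting Galois extensions of a valuation ring for a group of multiplicative type, and descent of
principal divisors along faithfully flat maps. -/

set_option autoImplicit false
set_option linter.style.haveILetI false
set_option linter.unusedSectionVars false
universe u

open scoped TensorProduct

namespace Groth.Agent.Tors37.MultSetup

open Groth.Agent.SGA3b53.Normal Groth.Agent.SGA3b53

/-- A Galois splitting extension with étale integral closure. -/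
theorem exists_galois_split {R : Type u} [CommRing R] [IsDomain R] [IsIntegrallyClosed R] {A : Type u} [CommRing A]
    [HopfAlgebra R A] (hft : Algebra.FiniteType R A) (h : SGA3b.IsMultType R A) :
    ∃ (L : Type u) (_ : Field L) (_ : Algebra (FractionRing R) L) (_ : Algebra R L) (_ : IsScalarTower R (FractionRing R) L),
      FiniteDimensional (FractionRing R) L ∧ IsGalois (FractionRing R) L ∧ Algebra.Etale R (integralClosure R L) ∧
      Module.Finite R (integralClosure R L) ∧ Module.FaithfullyFlat R (integralClosure R L) ∧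
      SGA3b.IsDiag (integralClosure R L) (integralClosure R L ⊗[R] A) := by
  classical
  let K := FractionRing R
  obtain ⟨L, _, _, _, _, hfin, hsep, hLd, hL⟩ := exists_splitting_field (K := K) hft h
  haveI := hfin
  haveI := hsep
  haveI : IsGalois K L := by
    haveI : Normal K L := by
      refine normal_iff.2 fun x => ⟨Algebra.IsIntegral.isIntegral x, ?_⟩
      refine Polynomial.Splits.of_splits_map (algebraMap L (AlgebraicClosure L)) (IsAlgClosed.splits _) ?_
      intro r hr
      rw [Polynomial.map_map, ← IsScalarTower.algebraMap_eq] at hr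
      have hev : Polynomial.aeval r (minpoly K x) = 0 := by
        have := Polynomial.isRoot_of_mem_roots hr
        rwa [Polynomial.IsRoot, Polynomial.eval_map] at this
      obtain ⟨σ, hσ⟩ := IntermediateField.exists_algHom_of_splits_of_aeval
        (F := K) (E := L) (K := AlgebraicClosure L)
        (fun s => ⟨Algebra.IsIntegral.isIntegral s, IsAlgClosed.splits _⟩) hev
      exact hσ ▸ hL L hLd σ x
    exact ⟨⟩
  obtain ⟨ι, _, Ti, _, _, het, hcov, hd⟩ := exists_etale_cover_diag hft h
  haveI := het
  let T := ∀ i, Ti i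
  haveI : Module.FaithfullyFlat R T := Module.FaithfullyFlat.of_comap_surjective fun p => by
    obtain ⟨i, q, hq⟩ := hcov.exists_lift p
    exact ⟨q.comap (Pi.evalRingHom Ti i), by rw [← PrimeSpectrum.comap_comp_apply, ← hq]; rfl⟩
  letI : Algebra K (T ⊗[R] K) := Algebra.TensorProduct.rightAlgebra
  haveI : IsScalarTower R K (T ⊗[R] K) := IsScalarTower.of_algebraMap_eq fun r => by
    change algebraMap R (T ⊗[R] K) r = (1 : T) ⊗ₜ[R] algebraMap R K r
    rw [Algebra.TensorProduct.algebraMap_apply, Algebra.algebraMap_eq_smul_one, TensorProduct.smul_tmul,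
      Algebra.algebraMap_eq_smul_one]
  haveI : Algebra.Etale K (T ⊗[R] K) := Algebra.Etale.of_equiv
    (AlgEquiv.ofRingEquiv (f := (Algebra.TensorProduct.comm R K T).toRingEquiv) fun k => rfl)
  obtain ⟨x, hx⟩ := exists_points (L := L) (T ⊗[R] K) fun m hm σ => by
    haveI := hm
    letI : Field ((T ⊗[R] K) ⧸ m) := Ideal.Quotient.field m
    refine hL _ ?_ σ
    haveI : (m.comap (Algebra.TensorProduct.includeLeft : T →ₐ[R] T ⊗[R] K)).IsPrime := Ideal.IsPrime.comap _
    obtain ⟨⟨i, q⟩, hq⟩ := (PrimeSpectrum.sigmaToPi_bijective Ti).2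
      ⟨m.comap (Algebra.TensorProduct.includeLeft : T →ₐ[R] T ⊗[R] K), inferInstance⟩
    obtain ⟨M, _, ⟨ρ⟩⟩ := hd i
    have hle : RingHom.ker (Pi.evalRingHom Ti i) ≤
        RingHom.ker ((Ideal.Quotient.mk m).comp ((Algebra.TensorProduct.includeLeft : T →ₐ[R] T ⊗[R] K) : T →+* T ⊗[R] K)) := by
      intro t ht
      rw [RingHom.mem_ker, RingHom.comp_apply, Ideal.Quotient.eq_zero_iff_mem]
      have h1 : t ∈ (PrimeSpectrum.sigmaToPi Ti ⟨i, q⟩).asIdeal := by
        change t i ∈ q.asIdeal
        rw [show t i = 0 from ht]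
        exact q.asIdeal.zero_mem
      rw [hq] at h1
      exact h1
    have hs : Function.Surjective (Pi.evalRingHom Ti i) := fun t => ⟨Pi.single i t, Pi.single_eq_same i t⟩
    let f : Ti i →+* (T ⊗[R] K) ⧸ m := (Pi.evalRingHom Ti i).liftOfSurjective hs ⟨_, hle⟩
    have hf : ∀ t : T, f (t i) = Ideal.Quotient.mk m (t ⊗ₜ[R] (1 : K)) := fun t =>
      RingHom.liftOfRightInverse_comp_apply _ _ _ ⟨_, hle⟩ t
    let g : Ti i →ₐ[R] (T ⊗[R] K) ⧸ m := AlgHom.mk f fun r => by
      change f (algebraMap R (Ti i) r) = _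
      rw [show algebraMap R (Ti i) r = algebraMap R T r i from rfl, hf]
      rfl
    obtain ⟨ρ', -⟩ := exists_split_map g ρ
    exact ⟨M, inferInstance, ⟨ρ'⟩⟩
  obtain ⟨e⟩ := exists_split_closure T (fun j => (x j).restrictScalars R)
    (fun j k => (x j).commutes k) hx
  let S := integralClosure R L
  haveI : Algebra.Etale T (T ⊗[R] S) := Algebra.Etale.of_equiv e.symm
  haveI : Algebra.Etale R S := Algebra.Etale.of_etale_tensorProduct_of_faithfullyFlat T
  haveI : Module.Finite T (T ⊗[R] S) := Module.Finite.equiv e.symm.toLinearEquiv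
  haveI : Module.Finite R S := Module.Finite.of_finite_tensorProduct_of_faithfullyFlat T
  have hRL : Function.Injective (algebraMap R L) := by
    rw [IsScalarTower.algebraMap_eq R K L]
    exact (algebraMap K L).injective.comp (FaithfulSMul.algebraMap_injective R K)
  have hRS : Function.Injective (algebraMap R S) := fun a c hac => hRL (congrArg Subtype.val hac)
  haveI : Module.FaithfullyFlat R S := Module.FaithfullyFlat.of_comap_surjective
    ((PrimeSpectrum.comap_surjective_iff_injective_of_finite).2 hRS)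
  haveI : IsFractionRing S L := integralClosure.isFractionRing_of_finite_extension K L
  haveI : IsIntegrallyClosed S := integralClosure.isIntegrallyClosedOfFiniteExtension K
  refine ⟨L, inferInstance, inferInstance, inferInstance, inferInstance, hfin, inferInstance, inferInstance,
    inferInstance, inferInstance, ?_⟩
  exact isDiag_of_frac L inferInstance (isMultType_baseChange S h) (isDiag_of_equiv (cancelBC R S L A).symm hLd)

section valuation

variable {V : Type u} [CommRing V] [IsDomain V] [ValuationRing V] {L : Type u} [Field L]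
  [Algebra (FractionRing V) L] [Algebra V L] [IsScalarTower V (FractionRing V) L] [FiniteDimensional (FractionRing V) L]
  [Algebra.Etale V (integralClosure V L)] [Module.Finite V (integralClosure V L)]

omit [FiniteDimensional (FractionRing V) L] [Algebra.Etale V (integralClosure V L)] [Module.Finite V (integralClosure V L)] in
theorem algebraMap_L_injective : Function.Injective (algebraMap V L) := by
  rw [IsScalarTower.algebraMap_eq V (FractionRing V) L]
  exact (algebraMap (FractionRing V) L).injective.comp (IsFractionRing.injective V (FractionRing V))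

/-- The integral closure is an unramified semi-local extension. -/
theorem unram : ValLift.Unram (K := FractionRing V) (integralClosure V L) := by
  classical
  let S := integralClosure V L
  let 𝔪 := IsLocalRing.maximalIdeal V
  have hcomap : ∀ m : MaximalSpectrum S, m.asIdeal.comap (algebraMap V S) = 𝔪 := fun m => by
    haveI := m.isMaximal
    haveI : (m.asIdeal.comap (algebraMap V S)).IsMaximal := Ideal.isMaximal_comap_of_isIntegral_of_isMaximal _
    exact IsLocalRing.eq_maximalIdeal ‹_›
  refine ⟨?_, fun m a ha => ?_, fun m x => ?_⟩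
  · let I := 𝔪.map (algebraMap V S)
    letI := Ideal.Quotient.field 𝔪
    haveI : Module.Finite (V ⧸ 𝔪) (S ⧸ I) := Module.Finite.of_restrictScalars_finite V (V ⧸ 𝔪) (S ⧸ I)
    haveI : IsArtinianRing (S ⧸ I) := IsArtinianRing.of_finite (V ⧸ 𝔪) (S ⧸ I)
    have hmem : ∀ m : MaximalSpectrum S, I ≤ m.asIdeal := fun m =>
      Ideal.map_le_iff_le_comap.2 (hcomap m).ge
    let F : MaximalSpectrum S → PrimeSpectrum (S ⧸ I) := fun m =>
      haveI := m.isMaximal
      ⟨m.asIdeal.map (Ideal.Quotient.mk I), Ideal.map_isPrime_of_surjective Ideal.Quotient.mk_surjective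
        (by rw [Ideal.mk_ker]; exact hmem m)⟩
    refine Finite.of_injective F fun m m' h => MaximalSpectrum.ext ?_
    have h1 := congrArg (fun q : PrimeSpectrum (S ⧸ I) => q.asIdeal.comap (Ideal.Quotient.mk I)) h
    simp only [F, Ideal.comap_map_of_surjective _ Ideal.Quotient.mk_surjective, ← RingHom.ker_eq_comap_bot,
      Ideal.mk_ker, sup_eq_left.2 (hmem m), sup_eq_left.2 (hmem m')] at h1
    exact h1
  · rw [← Ideal.mem_comap, hcomap m]
    exact (IsLocalRing.mem_maximalIdeal a).2 ha
  · haveI := m.isMaximal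
    haveI : IsFractionRing S L := integralClosure.isFractionRing_of_finite_extension (FractionRing V) L
    obtain ⟨hdom, -, -, -, hform⟩ := Groth.Agent.S1963.result V S m.asIdeal (hcomap m)
    have key : ∀ s : S, s ≠ 0 → ∃ (d : V) (a b : S), d ≠ 0 ∧ a ∉ m.asIdeal ∧ b ∉ m.asIdeal ∧ s * b = algebraMap V S d * a := by
      intro s hs
      let T := Localization.AtPrime m.asIdeal
      have hinj : Function.Injective (algebraMap S T) :=
        IsLocalization.injective T m.asIdeal.primeCompl_le_nonZeroDivisors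
      obtain ⟨d, u, hu⟩ := hform (algebraMap S T s) fun h => hs (hinj (by rw [h, map_zero]))
      obtain ⟨a, b, hab⟩ := IsLocalization.exists_mk'_eq m.asIdeal.primeCompl (u : T)
      have ha : a ∉ m.asIdeal := by
        have h1 : IsUnit (IsLocalization.mk' T a b) := hab ▸ u.isUnit
        exact (IsLocalization.AtPrime.isUnit_mk'_iff T m.asIdeal a b).1 h1
      refine ⟨d, a, b, fun hd => hs (hinj ?_), ha, b.2, hinj ?_⟩
      · rw [hu, hd, map_zero, mul_zero, map_zero]
      · rw [map_mul, hu, ← hab, map_mul, IsScalarTower.algebraMap_apply V S T, mul_right_comm,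
          IsLocalization.mk'_spec, mul_comm]
    obtain ⟨s, t, ht, hx⟩ := IsFractionRing.div_surjective S (x : L)
    have ht0 : t ≠ 0 := nonZeroDivisors.ne_zero ht
    have hs0 : s ≠ 0 := fun h => x.ne_zero (by rw [← hx, h, map_zero, zero_div])
    obtain ⟨d, a, b, hd, ha, hb, h⟩ := key s hs0
    obtain ⟨d', a', b', hd', ha', hb', h'⟩ := key t ht0
    have hK : algebraMap V (FractionRing V) d / algebraMap V (FractionRing V) d' ≠ 0 :=
      div_ne_zero ((map_ne_zero_iff _ (IsFractionRing.injective V _)).2 hd)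
        ((map_ne_zero_iff _ (IsFractionRing.injective V _)).2 hd')
    refine ⟨Units.mk0 _ hK, a * b', a' * b, fun hm => (m.isMaximal.isPrime.mem_or_mem hm).elim ha hb',
      fun hm => (m.isMaximal.isPrime.mem_or_mem hm).elim ha' hb, ?_⟩
    have e1 : (s : L) * b = algebraMap V L d * a := congrArg Subtype.val h
    have e2 : (t : L) * b' = algebraMap V L d' * a' := congrArg Subtype.val h'
    have htL : (t : L) ≠ 0 := fun h0 => ht0 (Subtype.ext h0)
    have hdL : algebraMap V L d' ≠ 0 := (map_ne_zero_iff _ algebraMap_L_injective).2 hd'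
    rw [← hx, Units.val_mk0, map_div₀, ← IsScalarTower.algebraMap_apply, ← IsScalarTower.algebraMap_apply,
      show algebraMap S L s = (s : L) from rfl, show algebraMap S L t = (t : L) from rfl,
      Subalgebra.coe_mul, Subalgebra.coe_mul]
    field_simp
    linear_combination (algebraMap V L d' * (a' : L)) * e1 - (algebraMap V L d * (a : L)) * e2

/-- Finitely generated ideals of the integral closure are principal. -/
theorem exists_span_singleton (J : Ideal (integralClosure V L)) (hJ : J.FG) : ∃ j, J = Ideal.span {j} := by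
  classical
  let S := integralClosure V L
  have hU : ValLift.Unram (K := FractionRing V) S := unram
  obtain ⟨T, hT⟩ := hJ
  by_cases h0 : ∀ t ∈ T, t = 0
  · refine ⟨0, ?_⟩
    rw [Ideal.span_singleton_eq_bot.2 rfl, ← hT, Submodule.span_eq_bot]
    exact h0
  push Not at h0
  obtain ⟨t₀, ht₀, ht₀'⟩ := h0
  haveI := hU.finite_max
  cases nonempty_fintype (MaximalSpectrum S)
  -- a local generator at each maximal ideal
  have hloc : ∀ m : MaximalSpectrum S, ∃ g ∈ T, ∀ t ∈ T, ∃ u, u ∉ m.asIdeal ∧ u * t ∈ Ideal.span {g} := by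
    intro m
    let T' := T.filter fun t => t ≠ 0
    have hne : ∀ t ∈ T', t ≠ 0 := fun t ht => (Finset.mem_filter.1 ht).2
    choose d a b hd ha hb h using fun t : T' => ValLift.exists_integral_form hU m t.1 (hne t.1 t.2)
    obtain ⟨g, -, hg⟩ := EtAlg23.exists_dvd_all (Finset.univ : Finset T') d
      ⟨⟨t₀, Finset.mem_filter.2 ⟨ht₀, ht₀'⟩⟩, Finset.mem_univ _⟩
    refine ⟨g.1, (Finset.mem_filter.1 g.2).1, fun t ht => ?_⟩
    by_cases ht' : t = 0
    · exact ⟨1, m.isMaximal.isPrime.one_notMem, by rw [ht', mul_zero]; exact Ideal.zero_mem _⟩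
    let t' : T' := ⟨t, Finset.mem_filter.2 ⟨ht, ht'⟩⟩
    obtain ⟨e, he⟩ := hg t' (Finset.mem_univ _)
    refine ⟨b t' * a g, fun hm => (m.isMaximal.isPrime.mem_or_mem hm).elim (hb t') (ha g), ?_⟩
    refine Ideal.mem_span_singleton.2 ⟨algebraMap V S e * a t' * b g, ?_⟩
    have h1 := h t'
    have h2 := h g
    rw [he, map_mul] at h1
    linear_combination (a g) * h1 - (algebraMap V S e * a t') * h2
  choose g hgT hg using hloc
  -- elements concentrated at one maximal ideal
  have hsep : ∀ m : MaximalSpectrum S, ∃ e, e ∉ m.asIdeal ∧ ∀ m' : MaximalSpectrum S, m' ≠ m → e ∈ m'.asIdeal := by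
    intro m
    have htop := Ideal.sup_iInf_eq_top (s := (Finset.univ : Finset (MaximalSpectrum S)).erase m) (I := m.asIdeal)
      (J := fun m' => m'.asIdeal) fun m' hm' => by
        haveI := m.isMaximal
        haveI := m'.isMaximal
        exact Ideal.IsMaximal.coprime_of_ne ‹_› ‹_› fun h => (Finset.mem_erase.1 hm').1 (MaximalSpectrum.ext h).symm
    obtain ⟨x, hx, e, he, hxe⟩ := Submodule.mem_sup.1 (htop ▸ Submodule.mem_top : (1 : S) ∈ m.asIdeal ⊔ _)
    simp only [Submodule.mem_iInf] at he
    exact ⟨e, fun h => m.isMaximal.isPrime.one_notMem (hxe ▸ m.asIdeal.add_mem hx h),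
      fun m' hm' => he m' (Finset.mem_erase.2 ⟨hm', Finset.mem_univ _⟩)⟩
  choose e he he' using hsep
  let j := ∑ m, e m * g m
  refine ⟨j, le_antisymm ?_ ?_⟩
  · rw [← hT, Submodule.span_le]
    intro t ht
    by_contra htj
    let C : Ideal S := Submodule.comap (LinearMap.mulRight S t) (Ideal.span {j} : Submodule S S)
    obtain ⟨M, hM, hCM⟩ := Ideal.exists_le_maximal C fun h => htj (by
      have h1 : (1 : S) ∈ C := h ▸ Submodule.mem_top
      simpa [C] using h1)
    let m : MaximalSpectrum S := ⟨M, hM⟩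
    choose u hu hur using fun k => hg m (g k) (hgT k)
    choose r hr using fun k => Ideal.mem_span_singleton.1 (hur k)
    let U := ∏ k, u k
    let q : S := ∑ k, e k * ((∏ i ∈ Finset.univ.erase k, u i) * r k)
    have hUj : U * j = q * g m := by
      simp only [j, q, Finset.mul_sum, Finset.sum_mul]
      refine Finset.sum_congr rfl fun k _ => ?_
      rw [show U = u k * ∏ i ∈ Finset.univ.erase k, u i from (Finset.mul_prod_erase _ _ (Finset.mem_univ k)).symm]
      linear_combination (e k * ∏ i ∈ Finset.univ.erase k, u i) * hr k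
    have hgm : g m ≠ 0 := fun h0 => by
      obtain ⟨v, hv, hvt⟩ := hg m t₀ ht₀
      rw [h0, Ideal.span_singleton_eq_bot.2 rfl, Submodule.mem_bot] at hvt
      exact (mul_eq_zero.1 hvt).elim (fun h => hv (h ▸ M.zero_mem)) ht₀'
    have hq : q ∉ M := by
      have hrm : r m = u m := mul_left_cancel₀ hgm (by linear_combination -(hr m))
      have hrest : ∀ k ∈ Finset.univ.erase m, e k * ((∏ i ∈ Finset.univ.erase k, u i) * r k) ∈ M := fun k hk =>
        M.mul_mem_right _ (he' k m (Finset.ne_of_mem_erase hk).symm)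
      intro hqm
      have h1 : e m * ((∏ i ∈ Finset.univ.erase m, u i) * r m) ∈ M := by
        have : q = e m * ((∏ i ∈ Finset.univ.erase m, u i) * r m) +
            ∑ k ∈ Finset.univ.erase m, e k * ((∏ i ∈ Finset.univ.erase k, u i) * r k) :=
          (Finset.add_sum_erase _ _ (Finset.mem_univ m)).symm
        rw [this] at hqm
        exact (M.add_mem_iff_left (M.sum_mem hrest)).1 hqm
      rw [hrm, mul_comm _ (u m), Finset.mul_prod_erase _ _ (Finset.mem_univ m)] at h1
      rcases hM.isPrime.mem_or_mem h1 with h2 | h2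
      · exact he m h2
      · obtain ⟨k, -, hk⟩ := (hM.isPrime.prod_mem_iff).1 h2
        exact hu k hk
    obtain ⟨v, hv, hvt⟩ := hg m t ht
    obtain ⟨r', hr'⟩ := Ideal.mem_span_singleton.1 hvt
    refine (fun hm => (hM.isPrime.mem_or_mem hm).elim hq hv) (hCM (show q * v * t ∈ Ideal.span {j} from ?_))
    exact Ideal.mem_span_singleton.2 ⟨U * r', by linear_combination q * hr' - r' * hUj⟩
  · rw [Ideal.span_singleton_le_iff_mem]
    exact J.sum_mem fun m _ => J.mul_mem_left _ (hT ▸ Submodule.subset_span (hgT m))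

end valuation

section descent

variable {V : Type u} [CommRing V] {S : Type u} [CommRing S] [IsDomain S] [Algebra V S]
  {W₀ : Type u} [CommRing W₀] [Algebra V W₀] [Module.Flat V W₀]

/-- An element of a faithfully flat cover whose two pullbacks differ by a unit generates the extension
of a principal ideal. -/
theorem exists_principal (hbez : ∀ J : Ideal S, J.FG → ∃ j, J = Ideal.span {j}) (w w' : S ⊗[V] W₀) (d : S) (hd : d ≠ 0)
    (hww : w * w' = d ⊗ₜ 1) (u : (S ⊗[V] (W₀ ⊗[V] W₀))ˣ)
    (hdesc : Algebra.TensorProduct.map (AlgHom.id S S) (Algebra.TensorProduct.includeRight : W₀ →ₐ[V] W₀ ⊗[V] W₀) w =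
      Algebra.TensorProduct.map (AlgHom.id S S) (Algebra.TensorProduct.includeLeft : W₀ →ₐ[V] W₀ ⊗[V] W₀) w * (u : S ⊗[V] (W₀ ⊗[V] W₀))) :
    ∃ (c : S) (e : (S ⊗[V] W₀)ˣ), c ≠ 0 ∧ w = ((c ⊗ₜ 1 : S ⊗[V] W₀)) * (e : S ⊗[V] W₀) := by
  classical
  let W := S ⊗[V] W₀
  let ι₁ := Algebra.TensorProduct.map (AlgHom.id S S) (Algebra.TensorProduct.includeLeft : W₀ →ₐ[V] W₀ ⊗[V] W₀)
  let N : Submodule V W := (Ideal.span {w}).restrictScalars V
  let πS : S →ₗ[V] W ⧸ N := N.mkQ ∘ₗ (Algebra.TensorProduct.includeLeft : S →ₐ[V] W).toLinearMap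
  let Φ : S ⊗[V] (W₀ ⊗[V] W₀) →ₗ[V] (W ⧸ N) ⊗[V] W₀ :=
    (N.mkQ.rTensor W₀) ∘ₗ (TensorProduct.assoc V S W₀ W₀).symm.toLinearMap
  have hΦ : ∀ z, Φ (ι₁ w * z) = 0 := by
    intro z
    induction z using TensorProduct.induction_on with
    | zero => rw [mul_zero, map_zero]
    | add x y hx hy => rw [mul_add, map_add, hx, hy, add_zero]
    | tmul s p =>
      induction p using TensorProduct.induction_on with
      | zero => rw [TensorProduct.tmul_zero, mul_zero, map_zero]
      | add x y hx hy => rw [TensorProduct.tmul_add, mul_add, map_add, hx, hy, add_zero]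
      | tmul a b =>
        have : ∀ y : W, Φ (ι₁ y * (s ⊗ₜ (a ⊗ₜ b))) = N.mkQ (y * (s ⊗ₜ a)) ⊗ₜ b := by
          intro y
          induction y using TensorProduct.induction_on with
          | zero => rw [map_zero, zero_mul, zero_mul, map_zero, map_zero, TensorProduct.zero_tmul]
          | add x y hx hy => rw [map_add, add_mul, add_mul, map_add, hx, hy, map_add, TensorProduct.add_tmul]
          | tmul s' a' => simp [ι₁, Φ, W, Algebra.TensorProduct.tmul_mul_tmul]
        rw [this, show N.mkQ (w * (s ⊗ₜ a)) = 0 from (Submodule.Quotient.mk_eq_zero _).2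
          (Ideal.mul_mem_right _ _ (Ideal.mem_span_singleton_self w)), TensorProduct.zero_tmul]
  have hT : ∀ y : W, πS.rTensor W₀ y =
      Φ (Algebra.TensorProduct.map (AlgHom.id S S) (Algebra.TensorProduct.includeRight : W₀ →ₐ[V] W₀ ⊗[V] W₀) y) := by
    intro y
    induction y using TensorProduct.induction_on with
    | zero => simp
    | add x y hx hy => rw [map_add, map_add, map_add, hx, hy]
    | tmul s a => simp [Φ, πS]
  have hw : πS.rTensor W₀ w = 0 := by rw [hT, hdesc, hΦ]
  let J₀ : Submodule V S := LinearMap.ker πS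
  obtain ⟨z, hz⟩ := (Module.Flat.rTensor_exact W₀ (LinearMap.exact_subtype_ker_map πS) w).1 hw
  obtain ⟨F, hF⟩ := TensorProduct.exists_finset z
  let J : Ideal S := Ideal.span ((insert d (F.image fun i => (i.1 : S)) : Finset S) : Set S)
  obtain ⟨c, hc⟩ := hbez J ⟨_, rfl⟩
  have hdc : c ∣ d := Ideal.mem_span_singleton.1 (hc ▸ Ideal.subset_span (Finset.mem_insert_self _ _))
  have hc0 : c ≠ 0 := fun h => hd (zero_dvd_iff.1 (h ▸ hdc))
  have hcw : c ⊗ₜ[V] (1 : W₀) ∈ Ideal.span {w} := by
    let I : Ideal S := (Ideal.span {w}).comap (Algebra.TensorProduct.includeLeft : S →ₐ[V] W)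
    have hJI : J ≤ I := by
      rw [Ideal.span_le]
      intro j hj
      rcases Finset.mem_insert.1 hj with rfl | hj
      · show j ⊗ₜ[V] (1 : W₀) ∈ Ideal.span {w}
        exact hww ▸ Ideal.mul_mem_right _ _ (Ideal.mem_span_singleton_self w)
      · obtain ⟨i, -, rfl⟩ := Finset.mem_image.1 hj
        exact ((Submodule.Quotient.mk_eq_zero N).1 (LinearMap.mem_ker.1 i.1.2) : (i.1 : S) ⊗ₜ[V] (1 : W₀) ∈ N)
    exact hJI (hc ▸ Ideal.mem_span_singleton_self c)
  have hwc : ∃ e, w = (c ⊗ₜ[V] (1 : W₀)) * e := by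
    rw [← hz, hF, map_sum]
    have : ∀ i ∈ F, ∃ e, (J₀.subtype.rTensor W₀) (i.1 ⊗ₜ i.2) = (c ⊗ₜ[V] (1 : W₀)) * e := by
      intro i hi
      obtain ⟨q, hq⟩ : c ∣ (i.1 : S) := Ideal.mem_span_singleton.1 (hc ▸ Ideal.subset_span
        (Finset.mem_insert_of_mem (Finset.mem_image.2 ⟨i, hi, rfl⟩)))
      exact ⟨q ⊗ₜ i.2, by rw [Algebra.TensorProduct.tmul_mul_tmul, one_mul, ← hq]; rfl⟩
    choose e he using this
    refine ⟨∑ i ∈ F.attach, e i.1 i.2, ?_⟩
    rw [Finset.mul_sum, ← Finset.sum_attach]
    exact Finset.sum_congr rfl fun i _ => he i.1 i.2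
  obtain ⟨e, he⟩ := hwc
  obtain ⟨f, hf⟩ := Ideal.mem_span_singleton.1 hcw
  have hreg : ∀ y : W, (d ⊗ₜ[V] (1 : W₀)) * y = 0 → y = 0 := by
    intro y hy
    have hinj : Function.Injective ((LinearMap.mulLeft V d).rTensor W₀) :=
      Module.Flat.rTensor_preserves_injective_linearMap _ (mul_right_injective₀ hd)
    refine hinj ?_
    rw [map_zero, ← hy]
    clear hy
    induction y using TensorProduct.induction_on with
    | zero => simp
    | add x y hx hy => rw [map_add, mul_add, hx, hy]
    | tmul s a => simp [W, Algebra.TensorProduct.tmul_mul_tmul]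
  have hunit : f * e = 1 := by
    have h1 : w * (f * e) = w := by rw [← mul_assoc, ← hf, ← he]
    have h2 := hreg (f * e - 1) (by rw [← hww, mul_sub, mul_one, mul_comm w w', mul_assoc, h1, sub_self])
    exact sub_eq_zero.1 h2
  exact ⟨c, ⟨e, f, by rw [mul_comm]; exact hunit, hunit⟩, hc0, he⟩

end descent

end Groth.Agent.Tors37.MultSetup
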