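import Groth.Prelude.Def_Desc
import Groth.Agent.Desc59.DDFppf
import Groth.Agent.SpFP87.RepDescProps
import Mathlib.CategoryTheory.Monoidal.Cartesian.Over
import Mathlib.CategoryTheory.Monoidal.Grp
import Groth.Prelude.Def_AlgGrp

/-! Twisting an affine scheme by permutations of its points along an fpqc morphism (after Push96.Twist). -/

set_option autoImplicit false
set_option backward.isDefEq.respectTransparency false
set_option backward.isDefEq.respectTransparency.types false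

universe u

open CategoryTheory CategoryTheory.Limits MonoidalCategory CartesianMonoidalCategory MonObj GrpObj AlgebraicGeometry
open Desc

noncomputable section

namespace Groth.Agent.Tors37.PermTwist

variable {S : Scheme.{u}} (Q G : Over S)

/-- A transitive natural family of permutations of the points of `G`, indexed by pairs of points of `Q`. -/
structure Cocycle where
  /-- the values -/
  c : ∀ {Z : Over S}, (Z ⟶ Q) → (Z ⟶ Q) → ((Z ⟶ G) ≃ (Z ⟶ G))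
  nat : ∀ {Z Z' : Over S} (k : Z' ⟶ Z) (q₀ q₁ : Z ⟶ Q) (g : Z ⟶ G),
    k ≫ c q₀ q₁ g = c (k ≫ q₀) (k ≫ q₁) (k ≫ g)
  trans' : ∀ {Z : Over S} (q₀ q₁ q₂ : Z ⟶ Q) (g : Z ⟶ G), c q₁ q₂ (c q₀ q₁ g) = c q₀ q₂ g

variable {Q G}

theorem Cocycle.c_self (C : Cocycle Q G) {Z : Over S} (q : Z ⟶ Q) (g : Z ⟶ G) : C.c q q g = g :=
  (C.c q q).injective (C.trans' q q q g)

/-- Points of the trivial object over a point of `Q`. -/
def liftsEquiv {Z : Over S} (x : Z ⟶ Q) :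
    Lifts (Over.mk (pullback.fst Q.hom G.hom) : Over Q.left) x.left ≃ (Z ⟶ G) where
  toFun v := Over.homMk (v.1 ≫ pullback.snd Q.hom G.hom) (by
    have h : v.1 ≫ pullback.fst Q.hom G.hom = x.left := v.2
    rw [Category.assoc, ← pullback.condition, ← Category.assoc, h, Over.w x])
  invFun m := ⟨pullback.lift x.left m.left (by rw [Over.w, Over.w]), pullback.lift_fst _ _ _⟩
  left_inv v := Subtype.ext (pullback.hom_ext (by
    have h : v.1 ≫ pullback.fst Q.hom G.hom = x.left := v.2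
    rw [pullback.lift_fst, h]) (by simp))
  right_inv m := Over.OverMorphism.ext (pullback.lift_snd _ _ _)

theorem liftsEquiv_symm_comp {Z Z' : Over S} (k : Z' ⟶ Z) (x : Z ⟶ Q) (m : Z ⟶ G) :
    ((liftsEquiv (k ≫ x)).symm (k ≫ m)).1 = k.left ≫ ((liftsEquiv x).symm m).1 := by
  apply pullback.hom_ext <;> simp [liftsEquiv]

variable (C : Cocycle Q G)

/-- The gluing on points in the presence of a common structure map. -/
def glueEquiv {Z : Over S} (x₀ x₁ : Z ⟶ Q) :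
    Lifts (Over.mk (pullback.fst Q.hom G.hom) : Over Q.left) x₀.left ≃
      Lifts (Over.mk (pullback.fst Q.hom G.hom) : Over Q.left) x₁.left :=
  (liftsEquiv x₀).trans ((C.c x₀ x₁).trans (liftsEquiv x₁).symm)

theorem liftsEquiv_glueEquiv {Z : Over S} (x₀ x₁ : Z ⟶ Q)
    (v : Lifts (Over.mk (pullback.fst Q.hom G.hom) : Over Q.left) x₀.left) :
    liftsEquiv x₁ (glueEquiv C x₀ x₁ v) = C.c x₀ x₁ (liftsEquiv x₀ v) :=
  (liftsEquiv x₁).apply_symm_apply _

/-- The gluing bijections of the twist. -/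
def twistPhi {T : Scheme.{u}} (x₀ x₁ : T ⟶ Q.left) (h : x₀ ≫ Q.hom = x₁ ≫ Q.hom) :
    Lifts (Over.mk (pullback.fst Q.hom G.hom) : Over Q.left) x₀ ≃
      Lifts (Over.mk (pullback.fst Q.hom G.hom) : Over Q.left) x₁ :=
  glueEquiv C (Over.homMk x₀ rfl : Over.mk (x₀ ≫ Q.hom) ⟶ Q) (Over.homMk x₁ h.symm)

theorem twistPhi_eq {T : Scheme.{u}} (t : T ⟶ S) (x₀ x₁ : Over.mk t ⟶ Q)
    (h : x₀.left ≫ Q.hom = x₁.left ≫ Q.hom) :
    twistPhi C x₀.left x₁.left h = glueEquiv C x₀ x₁ := by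
  have key : ∀ (y₀ y₁ : T ⟶ Q.left) (h' : y₀ ≫ Q.hom = y₁ ≫ Q.hom) (s : T ⟶ S) (h₀ : y₀ ≫ Q.hom = s)
      (h₁ : y₁ ≫ Q.hom = s),
      twistPhi C y₀ y₁ h' = glueEquiv C (Over.homMk y₀ h₀ : Over.mk s ⟶ Q) (Over.homMk y₁ h₁) := by
    intro y₀ y₁ h' s h₀ h₁
    subst h₀
    rfl
  exact key _ _ h t (Over.w x₀) (Over.w x₁)

theorem twistPhi_comp {T : Scheme.{u}} (x₀ x₁ x₂ : T ⟶ Q.left) (h₀₁ : x₀ ≫ Q.hom = x₁ ≫ Q.hom)
    (h₁₂ : x₁ ≫ Q.hom = x₂ ≫ Q.hom) (v : Lifts (Over.mk (pullback.fst Q.hom G.hom) : Over Q.left) x₀) :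
    twistPhi C x₁ x₂ h₁₂ (twistPhi C x₀ x₁ h₀₁ v) = twistPhi C x₀ x₂ (h₀₁.trans h₁₂) v := by
  let X₀ : Over.mk (x₀ ≫ Q.hom) ⟶ Q := Over.homMk x₀ rfl
  let X₁ : Over.mk (x₀ ≫ Q.hom) ⟶ Q := Over.homMk x₁ h₀₁.symm
  let X₂ : Over.mk (x₀ ≫ Q.hom) ⟶ Q := Over.homMk x₂ (h₀₁.trans h₁₂).symm
  show twistPhi C X₁.left X₂.left h₁₂ (glueEquiv C X₀ X₁ v) = glueEquiv C X₀ X₂ v
  rw [twistPhi_eq C _ X₁ X₂ h₁₂]
  apply (liftsEquiv X₂).injective
  rw [liftsEquiv_glueEquiv, liftsEquiv_glueEquiv, liftsEquiv_glueEquiv, C.trans']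

/-- The descent datum of the twist. -/
def twistDD : SchDD Q.hom where
  obj := Over.mk (pullback.fst Q.hom G.hom)
  φ _ x₀ x₁ h := twistPhi C x₀ x₁ h
  φ_natural T T' g x₀ x₁ h h' v v' hv := by
    let X₀ : Over.mk (x₀ ≫ Q.hom) ⟶ Q := Over.homMk x₀ rfl
    let X₁ : Over.mk (x₀ ≫ Q.hom) ⟶ Q := Over.homMk x₁ h.symm
    let k : Over.mk ((g ≫ x₀) ≫ Q.hom) ⟶ Over.mk (x₀ ≫ Q.hom) := Over.homMk g (Category.assoc _ _ _).symm
    show (twistPhi C (k ≫ X₀).left (k ≫ X₁).left h' v').1 = k.left ≫ (glueEquiv C X₀ X₁ v).1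
    rw [twistPhi_eq C _ (k ≫ X₀) (k ≫ X₁) h']
    show ((liftsEquiv (k ≫ X₁)).symm (C.c (k ≫ X₀) (k ≫ X₁) (liftsEquiv (k ≫ X₀) v'))).1 = _
    rw [show liftsEquiv (k ≫ X₀) v' = k ≫ liftsEquiv X₀ v from Over.OverMorphism.ext (by
      simp [liftsEquiv, hv, k]), ← C.nat, liftsEquiv_symm_comp]
    rfl
  φ_self T x v := by
    show glueEquiv C (Over.homMk x rfl : Over.mk (x ≫ Q.hom) ⟶ Q) (Over.homMk x rfl) v = v
    apply (liftsEquiv _).injective
    rw [liftsEquiv_glueEquiv, C.c_self]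
  φ_comp T x₀ x₁ x₂ h₀₁ h₁₂ v := twistPhi_comp C x₀ x₁ x₂ h₀₁ h₁₂ v

/-- The twist exists. -/
theorem exists_twist [IsAffineHom G.hom] [Surjective Q.hom] [Flat Q.hom] [Desc59.IsFpqcMor Q.hom] :
    ∃ (U : Over S) (e : ∀ {Z : Over S}, (Z ⟶ Q) → (Z ⟶ U) ≃ (Z ⟶ G)),
      (∀ {Z Z' : Over S} (k : Z' ⟶ Z) (q : Z ⟶ Q) (y : Z ⟶ U), e (k ≫ q) (k ≫ y) = k ≫ e q y) ∧
      (∀ {Z : Over S} (q₀ q₁ : Z ⟶ Q) (y : Z ⟶ U), e q₁ y = C.c q₀ q₁ (e q₀ y)) := by
  have hD : MoreMor.IsIndQuasiAffineHom (twistDD C).obj.hom := by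
    show MoreMor.IsIndQuasiAffineHom (pullback.fst Q.hom G.hom)
    have : IsAffineHom (pullback.fst Q.hom G.hom) :=
      MorphismProperty.pullback_fst (P := @IsAffineHom) _ _ ‹_›
    exact SpFP87.isIndQuasiAffineHom_of_isAffineHom _
  obtain ⟨U, ⟨iD⟩⟩ := Desc59.effective_of_isIndQuasiAffineHom' Q.hom (twistDD C) hD
  let can : ∀ {Z : Over S}, (x : Z ⟶ Q) → (Z ⟶ U) →
      Lifts (Over.mk (pullback.fst Q.hom U.hom) : Over Q.left) x.left := fun x y =>
    ⟨pullback.lift x.left y.left (by rw [Over.w, Over.w]), pullback.lift_fst _ _ _⟩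
  have hcan : ∀ {Z : Over S} (x : Z ⟶ Q), Function.Bijective (can x) := fun x =>
    ⟨fun y y' h => Over.OverMorphism.ext (by
        simpa [can] using congrArg (fun v => v.1 ≫ pullback.snd Q.hom U.hom) h),
      fun v => ⟨Over.homMk (v.1 ≫ pullback.snd Q.hom U.hom) (by
        have h : v.1 ≫ pullback.fst Q.hom U.hom = x.left := v.2
        rw [Category.assoc, ← pullback.condition, ← Category.assoc, h, Over.w x]),
        Subtype.ext (pullback.hom_ext (by simpa [can] using v.2.symm) (by simp [can]))⟩⟩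
  let push : ∀ {T : Scheme.{u}} (x : T ⟶ Q.left),
      Lifts ((toDD Q.hom).obj U).obj x ≃ Lifts (twistDD C).obj x := fun x =>
    { toFun := fun v => iD.hom.push v
      invFun := fun v => iD.inv.push v
      left_inv := fun v => Subtype.ext (by
        show (v.1 ≫ iD.hom.hom.left) ≫ iD.inv.hom.left = v.1
        rw [Category.assoc, ← Over.comp_left, ← SchDD.comp_hom, iD.hom_inv_id]
        exact Category.comp_id _)
      right_inv := fun v => Subtype.ext (by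
        show (v.1 ≫ iD.inv.hom.left) ≫ iD.hom.hom.left = v.1
        rw [Category.assoc, ← Over.comp_left, ← SchDD.comp_hom, iD.inv_hom_id]
        exact Category.comp_id _) }
  refine ⟨U, fun x => ((Equiv.ofBijective _ (hcan x)).trans (push x.left)).trans (liftsEquiv x),
    fun {Z Z'} k q y => ?_, fun {Z} q₀ q₁ y => ?_⟩
  · apply Over.OverMorphism.ext
    show ((can (k ≫ q) (k ≫ y)).1 ≫ iD.hom.hom.left) ≫ pullback.snd Q.hom G.hom =
      k.left ≫ ((can q y).1 ≫ iD.hom.hom.left) ≫ pullback.snd Q.hom G.hom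
    rw [show (can (k ≫ q) (k ≫ y)).1 = k.left ≫ (can q y).1 from
      pullback.hom_ext (by simp [can]) (by simp [can])]
    simp only [Category.assoc]
  · have h : q₀.left ≫ Q.hom = q₁.left ≫ Q.hom := by rw [Over.w, Over.w]
    have hc := iD.hom.comm q₀.left q₁.left h (can q₀ y) (iD.hom.push (can q₀ y)) rfl
    have e1 : (((toDD Q.hom).obj U).φ q₀.left q₁.left h (can q₀ y)).1 = (can q₁ y).1 := by
      show (pullback.lift _ _ _ : _ ⟶ pullback Q.hom U.hom) = _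
      apply pullback.hom_ext <;> simp [can]
    have e2 : (twistDD C).φ q₀.left q₁.left h (iD.hom.push (can q₀ y)) = iD.hom.push (can q₁ y) := by
      apply Subtype.ext
      rw [hc, e1]
      rfl
    show liftsEquiv q₁ (iD.hom.push (can q₁ y)) = C.c q₀ q₁ (liftsEquiv q₀ (iD.hom.push (can q₀ y)))
    rw [← e2, show (twistDD C).φ q₀.left q₁.left h = glueEquiv C q₀ q₁ from
      twistPhi_eq C Z.hom q₀ q₁ h]
    exact liftsEquiv_glueEquiv C q₀ q₁ _

end Groth.Agent.Tors37.PermTwist
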