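import Groth.Agent.H98QP.Scale

/-! Uniqueness for the rescaling of points: points over `A[V]` agreeing at `0` and over `A[1/r][V]`
agree after rescaling by a power of `r`. -/

set_option autoImplicit false
universe u

open AlgebraicGeometry CategoryTheory CategoryTheory.Limits Polynomial

namespace Groth.Agent.Tors37

open H98QP

variable {C A₀ B' B : Type u} [CommRing C] [CommRing A₀] [CommRing B'] [CommRing B]
  {p : C →+* A₀} {q : C →+* B'} {γ : A₀ →+* B} {π : B' →+* B}

/-- Morphisms out of the spectrum of a Milnor square are determined by the two components. -/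
theorem square_hom_ext (h : Square p q γ π) {G : Scheme.{u}} {f g : Spec (CommRingCat.of C) ⟶ G}
    (h1 : sm p ≫ f = sm p ≫ g) (h2 : sm q ≫ f = sm q ≫ g) : f = g := by
  have hf : sm γ ≫ sm p ≫ f = sm π ≫ sm q ≫ f := by
    rw [← Category.assoc, ← Category.assoc, ← sm_comp, ← sm_comp, h.comm]
  choose c U hc hU k1 k2 using h.exists_nhd (sm p ≫ f) (sm q ≫ f) hf
  have hspan : Ideal.span (Set.range c) = ⊤ := by
    by_contra hne
    obtain ⟨m, hm, hle⟩ := Ideal.exists_le_maximal _ hne
    exact hc ⟨m, hm.isPrime⟩ (hle (Ideal.subset_span ⟨⟨m, hm.isPrime⟩, rfl⟩))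
  let 𝒰 : (Spec (CommRingCat.of C)).OpenCover :=
    (Scheme.affineOpenCoverOfSpanRangeEqTop (R := CommRingCat.of C) c hspan).openCover
  refine 𝒰.hom_ext _ _ fun P => ?_
  show sm (algebraMap C (Localization.Away (c P))) ≫ f = sm (algebraMap C (Localization.Away (c P))) ≫ g
  have e : ∀ {D : Type u} [CommRing D] (r : C →+* D) (k : Spec (CommRingCat.of C) ⟶ G),
      sm (pl r (c P)) ≫ sm (algebraMap C (Localization.Away (c P))) ≫ k = toC r (c P) ≫ sm r ≫ k := by
    intro D _ r k
    rw [← Category.assoc, ← Category.assoc, toC, ← sm_comp, ← sm_comp, pl_comp]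
  have hrange : ∀ k : Spec (CommRingCat.of C) ⟶ G, sm p ≫ k = sm p ≫ f → sm q ≫ k = sm q ≫ f →
      Set.range (sm (algebraMap C (Localization.Away (c P))) ≫ k) ⊆ (U P : Set G) := by
    intro k e1 e2
    refine h.range_subset_of_pl (c P) _ _ ?_ ?_
    · rw [e, e1]
      rintro _ ⟨z, rfl⟩
      rw [Scheme.Hom.comp_apply]
      exact k1 P _ ((mem_range_away (p (c P)) _).mp ⟨z, rfl⟩)
    · rw [e, e2]
      rintro _ ⟨z, rfl⟩
      rw [Scheme.Hom.comp_apply]
      exact k2 P _ ((mem_range_away (q (c P)) _).mp ⟨z, rfl⟩)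
  exact h.hom_ext_loc (c P) (hU P) _ _ (by rw [e, e, h1]) (by rw [e, e, h2])
    (hrange f rfl rfl) (hrange g h1.symm h2.symm)

end Groth.Agent.Tors37

namespace Groth.Agent.Tors37

open H98QP

variable {A B : Type u} [CommRing A] [CommRing B] [Algebra A B] (r : A) [IsLocalization.Away r B]
  {R : Type u} [CommRing R] {G : Scheme.{u}} (str : G ⟶ Spec (CommRingCat.of R))
  [LocallyOfFinitePresentation str]

theorem exists_scale_eq_point (sA : R →+* A[X])
    (hsA : ∀ (b : A) (x : R), scale b (sA x) = sA x)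
    (a b : Spec (CommRingCat.of A[X]) ⟶ G) (ha : a ≫ str = sm sA) (hb : b ≫ str = sm sA)
    (h0 : sm (evalRingHom (0 : A)) ≫ a = sm (evalRingHom (0 : A)) ≫ b)
    (h1 : sm (mapRingHom (algebraMap A B)) ≫ a = sm (mapRingHom (algebraMap A B)) ≫ b) :
    ∃ M : ℕ, sm (scale (r ^ M)) ≫ a = sm (scale (r ^ M)) ≫ b := by
  let D : (AsSmall.{u} ℕ)ᵒᵖ ⥤ Scheme.{u} := (diag r).op ⋙ Scheme.Spec
  let t : D ⟶ (Functor.const _).obj (Spec (CommRingCat.of R)) :=
    { app := fun n => sm sA
      naturality := fun i j f => by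
        show Spec.map _ ≫ sm sA = _ ≫ 𝟙 _
        rw [Category.comp_id, sm, ← Spec.map_comp]
        congr 1
        ext x
        exact hsA _ _ }
  let c : Cone D := Scheme.Spec.mapCone (cocone (B := B) r).op
  have hc : IsLimit c := isLimitOfPreserves Scheme.Spec (isColimit r).op
  have : ∀ {i j} (f : i ⟶ j), IsAffineHom (D.map f) := fun f => by
    show IsAffineHom (Spec.map _); infer_instance
  have : ∀ i, CompactSpace (D.obj i) := fun i =>
    inferInstanceAs (CompactSpace (Spec (CommRingCat.of A[X])))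
  have hab : c.π.app (Opposite.op (AsSmall.up.obj 0)) ≫ a = c.π.app (Opposite.op (AsSmall.up.obj 0)) ≫ b := by
    show sm (toFibre (B := B) r 0) ≫ a = sm (toFibre (B := B) r 0) ≫ b
    have e1 : ((RingHom.fst A B[X]).comp (FibreRing A B).subtype).comp (toFibre (B := B) r 0) =
        evalRingHom (0 : A) := RingHom.ext fun p => rfl
    have e2 : ((RingHom.snd A B[X]).comp (FibreRing A B).subtype).comp (toFibre (B := B) r 0) =
        mapRingHom (algebraMap A B) := RingHom.ext fun p => by
      show scale ((rinv (B := B) r) ^ 0) (p.map (algebraMap A B)) = p.map (algebraMap A B)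
      rw [pow_zero, scale_one]; rfl
    refine square_hom_ext (square (A := A) (B := B)) ?_ ?_
    · rw [← Category.assoc, ← Category.assoc, ← sm_comp, e1, h0]
    · rw [← Category.assoc, ← Category.assoc, ← sm_comp, e2, h1]
  obtain ⟨k, hik, hk⟩ := Scheme.exists_hom_comp_eq_comp_of_locallyOfFiniteType D t str c hc
    (i := Opposite.op (AsSmall.up.obj 0)) a b ha.symm hb.symm hab
  refine ⟨AsSmall.down.obj k.unop, ?_⟩
  exact hk

end Groth.Agent.Tors37
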