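import Groth.Agent.H98QP.Patch
import Groth.Agent.Tors37.QuillenExt

/-! Quillen's decomposition for points of a group scheme commuting with a cocycle. -/

set_option autoImplicit false
universe u

open AlgebraicGeometry CategoryTheory CategoryTheory.Limits MonoidalCategory CartesianMonoidalCategory
  MonObj GrpObj Polynomial

namespace Groth.Agent.Tors37

open H98QP

variable {R : Type u} [CommRing R]

/-- The morphism of spectra given by an algebra map. -/
noncomputable def spA {C D : Type u} [CommRing C] [CommRing D] [Algebra R C] [Algebra R D]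
    (φ : C →ₐ[R] D) : pt R D ⟶ pt R C :=
  sp φ.toRingHom φ.comp_algebraMap

theorem spA_left {C D : Type u} [CommRing C] [CommRing D] [Algebra R C] [Algebra R D]
    (φ : C →ₐ[R] D) : (spA φ).left = sm φ.toRingHom := rfl

theorem spA_comp {C D E : Type u} [CommRing C] [CommRing D] [CommRing E] [Algebra R C] [Algebra R D]
    [Algebra R E] (φ : C →ₐ[R] D) (ψ : D →ₐ[R] E) : spA ψ ≫ spA φ = spA (ψ.comp φ) :=
  sp_sp _ _ _ _

theorem spA_comp_assoc {C D E : Type u} [CommRing C] [CommRing D] [CommRing E] [Algebra R C] [Algebra R D]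
    [Algebra R E] (φ : C →ₐ[R] D) (ψ : D →ₐ[R] E) {G : Over (Spec (CommRingCat.of R))} (g : pt R C ⟶ G) :
    spA ψ ≫ spA φ ≫ g = spA (ψ.comp φ) ≫ g := by
  rw [← Category.assoc, spA_comp]

theorem spA_id {C : Type u} [CommRing C] [Algebra R C] : spA (AlgHom.id R C) = 𝟙 (pt R C) := by
  ext : 1
  exact Spec.map_id _

/-- The substitution `T ↦ b T`. -/
noncomputable def scaleA {C : Type u} [CommRing C] [Algebra R C] (b : C) : C[X] →ₐ[R] C[X] :=
  { scale b with commutes' := fun x => scale_C b (algebraMap R C x) }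

/-- `C → C[X]`. -/
noncomputable abbrev constA (C : Type u) [CommRing C] [Algebra R C] : C →ₐ[R] C[X] :=
  IsScalarTower.toAlgHom R C C[X]

/-- `C[X] → C` at zero. -/
noncomputable abbrev ev0A (C : Type u) [CommRing C] [Algebra R C] : C[X] →ₐ[R] C :=
  { evalRingHom (0 : C) with commutes' := fun x => eval_C }

theorem scaleA_mul {C : Type u} [CommRing C] [Algebra R C] (a b : C) :
    (scaleA (R := R) a).comp (scaleA b) = scaleA (a * b) :=
  AlgHom.ext fun p => RingHom.congr_fun (scale_scale a b) p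

theorem mapA_comp {C D E : Type u} [CommRing C] [CommRing D] [CommRing E] [Algebra R C] [Algebra R D]
    [Algebra R E] (f : C →ₐ[R] D) (g : D →ₐ[R] E) :
    (mapAlgHom g).comp (mapAlgHom f) = mapAlgHom (g.comp f) :=
  AlgHom.ext fun p => Polynomial.map_map f.toRingHom g.toRingHom p

theorem mapA_scaleA {C D : Type u} [CommRing C] [CommRing D] [Algebra R C] [Algebra R D] (φ : C →ₐ[R] D) (b : C) :
    (mapAlgHom φ).comp (scaleA b) = (scaleA (φ b)).comp (mapAlgHom φ) :=
  AlgHom.ext fun p => RingHom.congr_fun (map_scale φ.toRingHom b) p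

variable {G : Over (Spec (CommRingCat.of R))} [GrpObj G]

/-- `g` commutes with the cocycle `d` along the pair `i, i'`. -/
def Tw {C C'' : Type u} [CommRing C] [CommRing C''] [Algebra R C] [Algebra R C''] (i i' : C →ₐ[R] C'')
    (d : pt R C'' ⟶ G) (g : pt R C ⟶ G) : Prop :=
  (spA i ≫ g) * d = d * (spA i' ≫ g)

theorem Tw.map {C C'' D D'' : Type u} [CommRing C] [CommRing C''] [CommRing D] [CommRing D'']
    [Algebra R C] [Algebra R C''] [Algebra R D] [Algebra R D''] {i i' : C →ₐ[R] C''} {j j' : D →ₐ[R] D''}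
    {d : pt R C'' ⟶ G} {g : pt R C ⟶ G} (h : Tw i i' d g) (φ : C →ₐ[R] D) (φ'' : C'' →ₐ[R] D'')
    (hi : φ''.comp i = j.comp φ) (hi' : φ''.comp i' = j'.comp φ) :
    Tw j j' (spA φ'' ≫ d) (spA φ ≫ g) := by
  have := congrArg (spA φ'' ≫ ·) h
  simp only [MonObj.comp_mul, spA_comp_assoc, hi, hi'] at this
  simpa only [Tw, spA_comp_assoc] using this

theorem Tw.mul_inv {C C'' : Type u} [CommRing C] [CommRing C''] [Algebra R C] [Algebra R C''] {i i' : C →ₐ[R] C''}
    {d : pt R C'' ⟶ G} {g h : pt R C ⟶ G} (hg : Tw i i' d g) (hh : Tw i i' d h) : Tw i i' d (g * h⁻¹) := by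
  unfold Tw at *
  have e : (spA i ≫ h)⁻¹ * d = d * (spA i' ≫ h)⁻¹ := by
    rw [eq_mul_inv_iff_mul_eq, _root_.mul_assoc, ← hh, inv_mul_cancel_left]
  rw [MonObj.comp_mul, GrpObj.comp_inv, _root_.mul_assoc, e, ← _root_.mul_assoc, hg, MonObj.comp_mul, GrpObj.comp_inv,
    _root_.mul_assoc]

theorem Tw.mul {C C'' : Type u} [CommRing C] [CommRing C''] [Algebra R C] [Algebra R C''] {i i' : C →ₐ[R] C''}
    {d : pt R C'' ⟶ G} {g h : pt R C ⟶ G} (hg : Tw i i' d g) (hh : Tw i i' d h) : Tw i i' d (g * h) := by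
  unfold Tw at *
  rw [MonObj.comp_mul, _root_.mul_assoc, hh, ← _root_.mul_assoc, hg, MonObj.comp_mul, _root_.mul_assoc]

/-- The normalisation of a point at the origin. -/
noncomputable def normalise {C : Type u} [CommRing C] [Algebra R C] (k : pt R C[X] ⟶ G) : pt R C[X] ⟶ G :=
  k * (spA (constA C) ≫ spA (ev0A C) ≫ k)⁻¹

theorem normalise_zero {C : Type u} [CommRing C] [Algebra R C] (k : pt R C[X] ⟶ G) :
    spA (ev0A C) ≫ normalise k = 1 := by
  rw [normalise, MonObj.comp_mul, GrpObj.comp_inv, spA_comp_assoc, spA_comp_assoc,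
    show ((ev0A (R := R) C).comp (constA C)).comp (ev0A C) = ev0A C from AlgHom.ext fun p => eval_C,
    mul_inv_cancel]

theorem map_normalise {C D : Type u} [CommRing C] [CommRing D] [Algebra R C] [Algebra R D] (φ : C →ₐ[R] D)
    (k : pt R C[X] ⟶ G) : spA (mapAlgHom φ) ≫ normalise k = normalise (spA (mapAlgHom φ) ≫ k) := by
  simp only [normalise, MonObj.comp_mul, GrpObj.comp_inv, spA_comp_assoc]
  congr 4
  refine Polynomial.algHom_ext' (AlgHom.ext fun x => ?_) ?_ <;> simp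

theorem exists_scale_eq' [LocallyOfFinitePresentation G.hom] {A B : Type u} [CommRing A] [CommRing B]
    [Algebra R A] [Algebra R B] (φ : A →ₐ[R] B) (r : A)
    (hloc : @IsLocalization.Away _ _ r B _ φ.toRingHom.toAlgebra) (a b : pt R A[X] ⟶ G)
    (h0 : spA (ev0A A) ≫ a = spA (ev0A A) ≫ b)
    (h1 : spA (mapAlgHom φ) ≫ a = spA (mapAlgHom φ) ≫ b) :
    ∃ M : ℕ, spA (scaleA (r ^ M)) ≫ a = spA (scaleA (r ^ M)) ≫ b := by
  let _ : Algebra A B := φ.toRingHom.toAlgebra
  have := hloc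
  obtain ⟨M, hM⟩ := exists_scale_eq_point (B := B) r G.hom (algebraMap R A[X])
    (fun c x => scale_C c (algebraMap R A x)) a.left b.left (Over.w a) (Over.w b)
    (congrArg CommaMorphism.left h0) (congrArg CommaMorphism.left h1)
  exact ⟨M, Over.OverMorphism.ext hM⟩

theorem exists_factor' [LocallyOfFinitePresentation G.hom] {A B : Type u} [CommRing A] [CommRing B]
    [Algebra R A] [Algebra R B] (φ : A →ₐ[R] B) (r : A)
    (hloc : @IsLocalization.Away _ _ r B _ φ.toRingHom.toAlgebra) (h : pt R B[X] ⟶ G)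
    (hh : spA (ev0A B) ≫ h = 1) :
    ∃ (N : ℕ) (k : pt R A[X] ⟶ G), spA (mapAlgHom φ) ≫ k = spA (scaleA (φ r ^ N)) ≫ h := by
  let _ : Algebra A B := φ.toRingHom.toAlgebra
  have := hloc
  have : IsScalarTower R A B := .of_algebraMap_eq fun x => (φ.commutes x).symm
  obtain ⟨N, k, hk⟩ := exists_factor G r h hh
  exact ⟨N, k, hk⟩

theorem mapA_loc {A B : Type u} [CommRing A] [CommRing B] [Algebra R A] [Algebra R B] (φ : A →ₐ[R] B) (r : A)
    (hloc : @IsLocalization.Away _ _ r B _ φ.toRingHom.toAlgebra) :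
    @IsLocalization.Away _ _ (Polynomial.C r) B[X] _ (mapAlgHom φ).toRingHom.toAlgebra := by
  let _ : Algebra A B := φ.toRingHom.toAlgebra
  have := hloc
  have := Polynomial.isLocalization (Submonoid.powers r) B
  rwa [Submonoid.map_powers] at this

/-- `T ↦ X T + Y T Z`, in three variables. -/
noncomputable def rho {C : Type u} [CommRing C] [Algebra R C] (e : ((C[X])[X])[X]) :
    C[X] →ₐ[R] ((C[X])[X])[X] :=
  { eval₂RingHom (((Polynomial.C).comp (Polynomial.C)).comp Polynomial.C)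
      (e * Polynomial.C (Polynomial.C (Polynomial.X : C[X]))) with
    commutes' := fun x => (eval₂_C _ _).trans (by simp [Polynomial.algebraMap_apply]) }

/-- Specialisation of the two auxiliary variables. -/
noncomputable def evC {C : Type u} [CommRing C] [Algebra R C] (s v : R) : ((C[X])[X])[X] →ₐ[R] C[X] :=
  { (evalRingHom (Polynomial.C (algebraMap R C v))).comp
      (evalRingHom (Polynomial.C (Polynomial.C (algebraMap R C s)))) with
    commutes' := fun x => by simp [Polynomial.algebraMap_apply] }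

theorem evC_nat {C D : Type u} [CommRing C] [CommRing D] [Algebra R C] [Algebra R D] (φ : C →ₐ[R] D) (s v : R) :
    (mapAlgHom φ).comp (evC (C := C) s v) = (evC (C := D) s v).comp (mapAlgHom (mapAlgHom (mapAlgHom φ))) := by
  refine AlgHom.ext fun p => ?_
  have : (mapRingHom φ.toRingHom).comp (evC (C := C) s v).toRingHom =
      (evC (C := D) s v).toRingHom.comp (mapRingHom (mapRingHom (mapRingHom φ.toRingHom))) := by
    ext x <;> simp [evC]
  exact RingHom.congr_fun this p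

theorem rho_nat {C D : Type u} [CommRing C] [CommRing D] [Algebra R C] [Algebra R D] (φ : C →ₐ[R] D)
    (e : ((C[X])[X])[X]) :
    (mapAlgHom (mapAlgHom (mapAlgHom φ))).comp (rho (R := R) e) =
      (rho ((mapAlgHom (mapAlgHom (mapAlgHom φ))) e)).comp (mapAlgHom φ) := by
  refine AlgHom.ext fun p => ?_
  have : (mapRingHom (mapRingHom (mapRingHom φ.toRingHom))).comp (rho (R := R) e).toRingHom =
      (rho (R := R) ((mapRingHom (mapRingHom (mapRingHom φ.toRingHom))) e)).toRingHom.comp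
        (mapRingHom φ.toRingHom) := by
    ext x <;> simp [rho]
  exact RingHom.congr_fun this p

theorem evC_scaleA_rho {C : Type u} [CommRing C] [Algebra R C] (s v r : R) :
    ((evC (R := R) (C := C) s v).comp (scaleA (Polynomial.C (Polynomial.C (algebraMap R C r))))).comp
        (rho (Polynomial.C Polynomial.X + Polynomial.X)) = scaleA (algebraMap R C (v + r * s)) ∧
    ((evC (R := R) (C := C) s v).comp (scaleA (Polynomial.C (Polynomial.C (algebraMap R C r))))).comp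
        (rho (Polynomial.C Polynomial.X)) = scaleA (algebraMap R C v) := by
  constructor <;>
  · refine Polynomial.algHom_ext' (AlgHom.ext fun x => ?_) ?_
    · simp [rho, evC, scaleA, scale_apply]
    · simp [rho, evC, scaleA, scale_apply]
      try ring

/-- A twisted point over `B[X]` becomes, after rescaling, the image of a twisted point over `A[X]`. -/
theorem exists_factor_tw [LocallyOfFinitePresentation G.hom] {A A'' B B'' : Type u}
    [CommRing A] [CommRing A''] [CommRing B] [CommRing B'']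
    [Algebra R A] [Algebra R A''] [Algebra R B] [Algebra R B'']
    {i i' : A →ₐ[R] A''} {j j' : B →ₐ[R] B''} (φ : A →ₐ[R] B) (φ'' : A'' →ₐ[R] B'')
    (hi : φ''.comp i = j.comp φ) (hi' : φ''.comp i' = j'.comp φ) (d : pt R A'' ⟶ G) (r : R)
    (hB : @IsLocalization.Away _ _ (algebraMap R A r) B _ φ.toRingHom.toAlgebra)
    (hB'' : @IsLocalization.Away _ _ (algebraMap R A'' r) B'' _ φ''.toRingHom.toAlgebra)
    (h : pt R B[X] ⟶ G) (hh : spA (ev0A B) ≫ h = 1)
    (hht : Tw (mapAlgHom j) (mapAlgHom j') (spA (constA B'') ≫ spA φ'' ≫ d) h) :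
    ∃ (n : ℕ) (k : pt R A[X] ⟶ G), Tw (mapAlgHom i) (mapAlgHom i') (spA (constA A'') ≫ d) k ∧
      spA (mapAlgHom φ) ≫ k = spA (scaleA (algebraMap R B (r ^ n))) ≫ h := by
  obtain ⟨N, k₀, hk₀⟩ := exists_factor' φ _ hB h hh
  rw [φ.commutes, ← map_pow] at hk₀
  let k₁ := normalise k₀
  have hk₁ : spA (mapAlgHom φ) ≫ k₁ = spA (scaleA (algebraMap R B (r ^ N))) ≫ h := by
    rw [map_normalise, hk₀, normalise]
    have : spA (ev0A B) ≫ spA (scaleA (algebraMap R B (r ^ N))) ≫ h = 1 := by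
      rw [spA_comp_assoc, show (ev0A (R := R) B).comp (scaleA (algebraMap R B (r ^ N))) = ev0A B by
        refine Polynomial.algHom_ext' (AlgHom.ext fun x => ?_) ?_ <;> simp [scaleA, scale_apply], hh]
    rw [this, MonObj.comp_one, inv_one, _root_.mul_one]
  let dA : pt R A''[X] ⟶ G := spA (constA A'') ≫ d
  have hs : ∀ c : A'', spA (scaleA c) ≫ dA = dA := fun c => by
    simp only [dA, spA_comp_assoc]
    congr 2
    exact AlgHom.ext fun x => by simp [scaleA, scale_apply]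
  have hd : spA (mapAlgHom φ'') ≫ dA = spA (constA B'') ≫ spA φ'' ≫ d := by
    simp only [dA, spA_comp_assoc]
    congr 2
    exact AlgHom.ext fun x => by simp
  obtain ⟨M, hM⟩ := exists_scale_eq' φ'' (algebraMap R A'' r) hB''
    ((spA (mapAlgHom i) ≫ k₁) * dA) (dA * (spA (mapAlgHom i') ≫ k₁)) (by
      have e : ∀ κ : A →ₐ[R] A'', spA (ev0A A'') ≫ spA (mapAlgHom κ) ≫ k₁ = 1 := fun κ => by
        rw [spA_comp_assoc, show (ev0A (R := R) A'').comp (mapAlgHom κ) = κ.comp (ev0A A) by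
          refine Polynomial.algHom_ext' (AlgHom.ext fun x => ?_) ?_ <;> simp,
          ← spA_comp_assoc, normalise_zero, MonObj.comp_one]
      rw [MonObj.comp_mul, MonObj.comp_mul, e, e, _root_.one_mul, _root_.mul_one]) (by
      have e : ∀ (κ : A →ₐ[R] A'') (κ' : B →ₐ[R] B''), φ''.comp κ = κ'.comp φ →
          spA (mapAlgHom φ'') ≫ spA (mapAlgHom κ) ≫ k₁ =
            spA (mapAlgHom κ') ≫ spA (scaleA (algebraMap R B (r ^ N))) ≫ h := fun κ κ' hκ => by
        rw [← hk₁, spA_comp_assoc, spA_comp_assoc, mapA_comp, mapA_comp, hκ]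
      rw [MonObj.comp_mul, MonObj.comp_mul, hd, e i j hi, e i' j' hi']
      have h2 := hht.map (scaleA (algebraMap R B (r ^ N))) (scaleA (algebraMap R B'' (r ^ N)))
        (j := mapAlgHom j) (j' := mapAlgHom j') (by rw [mapA_scaleA, j.commutes])
        (by rw [mapA_scaleA, j'.commutes])
      rw [show spA (scaleA (algebraMap R B'' (r ^ N))) ≫ spA (constA B'') ≫ spA φ'' ≫ d =
          spA (constA B'') ≫ spA φ'' ≫ d by
        rw [spA_comp_assoc]
        congr 2
        exact AlgHom.ext fun x => by simp [scaleA, scale_apply]] at h2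
      exact h2)
  refine ⟨N + M, spA (scaleA (algebraMap R A (r ^ M))) ≫ k₁, ?_, ?_⟩
  · unfold Tw
    rw [MonObj.comp_mul, MonObj.comp_mul, hs] at hM
    rw [spA_comp_assoc, spA_comp_assoc, mapA_scaleA, mapA_scaleA, i.commutes, i'.commutes, ← spA_comp_assoc,
      ← spA_comp_assoc, map_pow]
    exact hM
  · rw [spA_comp_assoc, mapA_scaleA, φ.commutes, ← spA_comp_assoc, hk₁, spA_comp_assoc, scaleA_mul, ← map_mul,
      ← pow_add, add_comm M]

set_option maxHeartbeats 800000 in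
/-- The key step of Quillen patching, keeping track of a cocycle. -/
theorem exists_difference_tw [LocallyOfFinitePresentation G.hom] {A A'' B B'' : Type u}
    [CommRing A] [CommRing A''] [CommRing B] [CommRing B'']
    [Algebra R A] [Algebra R A''] [Algebra R B] [Algebra R B'']
    {i i' : A →ₐ[R] A''} {j j' : B →ₐ[R] B''} (φ : A →ₐ[R] B) (φ'' : A'' →ₐ[R] B'')
    (hi : φ''.comp i = j.comp φ) (hi' : φ''.comp i' = j'.comp φ) (d : pt R A'' ⟶ G) (r : R)
    (hB : @IsLocalization.Away _ _ (algebraMap R A r) B _ φ.toRingHom.toAlgebra)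
    (hB'' : @IsLocalization.Away _ _ (algebraMap R A'' r) B'' _ φ''.toRingHom.toAlgebra)
    (g : pt R B[X] ⟶ G) (hg : spA (ev0A B) ≫ g = 1)
    (hgt : Tw (mapAlgHom j) (mapAlgHom j') (spA (constA B'') ≫ spA φ'' ≫ d) g) :
    ∃ N : ℕ, ∀ s v : R, ∃ k : pt R A[X] ⟶ G,
      spA (ev0A A) ≫ k = 1 ∧ Tw (mapAlgHom i) (mapAlgHom i') (spA (constA A'') ≫ d) k ∧
      spA (mapAlgHom φ) ≫ k =
        (spA (scaleA (algebraMap R B (v + r ^ N * s))) ≫ g) * (spA (scaleA (algebraMap R B v)) ≫ g)⁻¹ := by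
  let h : pt R ((B[X])[X])[X] ⟶ G :=
    (spA (rho (R := R) (C := B) (Polynomial.C Polynomial.X + Polynomial.X)) ≫ g) *
      (spA (rho (R := R) (C := B) (Polynomial.C Polynomial.X)) ≫ g)⁻¹
  have hh : spA (ev0A _) ≫ h = 1 := by
    simp only [h, MonObj.comp_mul, GrpObj.comp_inv, spA_comp_assoc]
    rw [show (ev0A (R := R) ((B[X])[X])).comp (rho (Polynomial.C Polynomial.X + Polynomial.X)) =
      (ev0A _).comp (rho (Polynomial.C Polynomial.X)) from by
        refine Polynomial.algHom_ext' (AlgHom.ext fun x => ?_) ?_ <;> simp [rho], mul_inv_cancel]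
  let dA₂ : pt R ((A''[X])[X]) ⟶ G := spA (constA _) ≫ spA (constA A'') ≫ d
  let dB : pt R ((B''[X])[X])[X] ⟶ G := spA (constA _) ≫ spA (mapAlgHom (mapAlgHom φ'')) ≫ dA₂
  have hht : Tw (mapAlgHom (mapAlgHom (mapAlgHom j))) (mapAlgHom (mapAlgHom (mapAlgHom j'))) dB h := by
    have e : ∀ (eC : ((B''[X])[X])[X]) (eB : ((B[X])[X])[X]),
        mapAlgHom (mapAlgHom (mapAlgHom j)) eB = eC → mapAlgHom (mapAlgHom (mapAlgHom j')) eB = eC →
        Tw (mapAlgHom (mapAlgHom (mapAlgHom j))) (mapAlgHom (mapAlgHom (mapAlgHom j'))) dB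
          (spA (D := ((B[X])[X])[X]) (rho (R := R) eB) ≫ g) := by
      intro eC eB h1 h2
      have := hgt.map (D := ((B[X])[X])[X]) (D'' := ((B''[X])[X])[X]) (rho (R := R) eB) (rho (R := R) eC)
        (j := mapAlgHom (mapAlgHom (mapAlgHom j)))
        (j' := mapAlgHom (mapAlgHom (mapAlgHom j'))) (by rw [rho_nat, h1]) (by rw [rho_nat, h2])
      rwa [show spA (D := ((B''[X])[X])[X]) (rho (R := R) eC) ≫ spA (constA B'') ≫ spA φ'' ≫ d = dB by
        simp only [dB, dA₂, spA_comp_assoc]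
        congr 2
        exact AlgHom.ext fun x => by simp [rho]] at this
    exact (e (Polynomial.C Polynomial.X + Polynomial.X) _ (by simp) (by simp)).mul_inv
      (e (Polynomial.C Polynomial.X) _ (by simp) (by simp))
  obtain ⟨N, k₂, hk₂t, hk₂⟩ := exists_factor_tw (A := (A[X])[X]) (A'' := (A''[X])[X]) (B := (B[X])[X])
    (B'' := (B''[X])[X]) (i := mapAlgHom (mapAlgHom i)) (i' := mapAlgHom (mapAlgHom i'))
    (j := mapAlgHom (mapAlgHom j)) (j' := mapAlgHom (mapAlgHom j')) (mapAlgHom (mapAlgHom φ))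
    (mapAlgHom (mapAlgHom φ'')) (by simp only [mapA_comp, hi]) (by simp only [mapA_comp, hi']) dA₂ r
    (mapA_loc (mapAlgHom φ) _ (mapA_loc φ _ hB)) (mapA_loc (mapAlgHom φ'') _ (mapA_loc φ'' _ hB'')) h hh hht
  refine ⟨N, fun s v => ⟨normalise (spA (evC s v) ≫ k₂), normalise_zero _, ?_, ?_⟩⟩
  · have h1 : Tw (mapAlgHom i) (mapAlgHom i') (spA (constA A'') ≫ d) (spA (evC s v) ≫ k₂) := by
      have := hk₂t.map (evC s v) (evC s v) (j := mapAlgHom i) (j' := mapAlgHom i')
        (evC_nat i s v).symm (evC_nat i' s v).symm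
      rwa [show spA (evC (R := R) (C := A'') s v) ≫ spA (constA ((A''[X])[X])) ≫ dA₂ = spA (constA A'') ≫ d by
        simp only [dA₂, spA_comp_assoc]
        congr 2
        exact AlgHom.ext fun x => by simp [evC]] at this
    refine h1.mul_inv ?_
    have e0 : ∀ κ : A →ₐ[R] A'', (ev0A (R := R) A'').comp (mapAlgHom κ) = κ.comp (ev0A A) := fun κ => by
      refine Polynomial.algHom_ext' (AlgHom.ext fun x => ?_) ?_ <;> simp
    have h2 := h1.map (ev0A A) (ev0A A'') (j := i) (j' := i') (e0 i) (e0 i')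
    rw [show spA (ev0A A'') ≫ spA (constA A'') ≫ d = d by
      rw [spA_comp_assoc, show (ev0A (R := R) A'').comp (constA A'') = AlgHom.id R A'' from AlgHom.ext fun x => by simp,
        spA_id, Category.id_comp]] at h2
    exact h2.map (constA A) (constA A'') (j := mapAlgHom i) (j' := mapAlgHom i')
      (AlgHom.ext fun x => by simp) (AlgHom.ext fun x => by simp)
  · have hk : spA (mapAlgHom φ) ≫ spA (evC s v) ≫ k₂ =
        (spA (scaleA (algebraMap R B (v + r ^ N * s))) ≫ g) * (spA (scaleA (algebraMap R B v)) ≫ g)⁻¹ := by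
      rw [spA_comp_assoc, evC_nat, ← spA_comp_assoc (D := ((B[X])[X])[X]), hk₂]
      simp only [h, MonObj.comp_mul, GrpObj.comp_inv, spA_comp_assoc]
      obtain ⟨e1, e2⟩ := evC_scaleA_rho (R := R) (C := B) s v (r ^ N)
      rw [show algebraMap R ((B[X])[X]) (r ^ N) = Polynomial.C (Polynomial.C (algebraMap R B (r ^ N))) from rfl,
        ← AlgHom.comp_assoc, ← AlgHom.comp_assoc _ _ (rho (R := R) (C := B) (Polynomial.C Polynomial.X)), e1, e2]
    rw [map_normalise, hk, normalise]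
    have : ∀ b : R, spA (ev0A B) ≫ spA (scaleA (algebraMap R B b)) ≫ g = 1 := fun b => by
      rw [spA_comp_assoc, show (ev0A (R := R) B).comp (scaleA (algebraMap R B b)) = ev0A B by
        refine Polynomial.algHom_ext' (AlgHom.ext fun x => ?_) ?_ <;> simp [scaleA, scale_apply], hg]
    rw [MonObj.comp_mul (spA (ev0A B)), GrpObj.comp_inv, this, this, inv_one, _root_.one_mul, MonObj.comp_one,
      inv_one, _root_.mul_one]

/-- Quillen's decomposition of a twisted point over an overlap. -/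
theorem exists_decomposition_tw [LocallyOfFinitePresentation G.hom] {A₁ A₁'' A₂ A₂'' B B'' : Type u}
    [CommRing A₁] [CommRing A₁''] [CommRing A₂] [CommRing A₂''] [CommRing B] [CommRing B'']
    [Algebra R A₁] [Algebra R A₁''] [Algebra R A₂] [Algebra R A₂''] [Algebra R B] [Algebra R B'']
    {i₁ i₁' : A₁ →ₐ[R] A₁''} {i₂ i₂' : A₂ →ₐ[R] A₂''} {j j' : B →ₐ[R] B''}
    (φ₁ : A₁ →ₐ[R] B) (φ₁'' : A₁'' →ₐ[R] B'') (φ₂ : A₂ →ₐ[R] B) (φ₂'' : A₂'' →ₐ[R] B'')
    (h₁ : φ₁''.comp i₁ = j.comp φ₁) (h₁' : φ₁''.comp i₁' = j'.comp φ₁)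
    (h₂ : φ₂''.comp i₂ = j.comp φ₂) (h₂' : φ₂''.comp i₂' = j'.comp φ₂)
    (d₁ : pt R A₁'' ⟶ G) (d₂ : pt R A₂'' ⟶ G) (hd : spA φ₁'' ≫ d₁ = spA φ₂'' ≫ d₂)
    (r r' : R)
    (hB₁ : @IsLocalization.Away _ _ (algebraMap R A₁ r') B _ φ₁.toRingHom.toAlgebra)
    (hB₁'' : @IsLocalization.Away _ _ (algebraMap R A₁'' r') B'' _ φ₁''.toRingHom.toAlgebra)
    (hB₂ : @IsLocalization.Away _ _ (algebraMap R A₂ r) B _ φ₂.toRingHom.toAlgebra)
    (hB₂'' : @IsLocalization.Away _ _ (algebraMap R A₂'' r) B'' _ φ₂''.toRingHom.toAlgebra)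
    (g : pt R B[X] ⟶ G) (hg : spA (ev0A B) ≫ g = 1)
    (hgt : Tw (mapAlgHom j) (mapAlgHom j') (spA (constA B'') ≫ spA φ₁'' ≫ d₁) g) :
    ∃ N : ℕ, ∀ s s' : R, ∃ (g₁ : pt R A₁[X] ⟶ G) (g₂ : pt R A₂[X] ⟶ G),
      spA (ev0A A₁) ≫ g₁ = 1 ∧ spA (ev0A A₂) ≫ g₂ = 1 ∧
      Tw (mapAlgHom i₁) (mapAlgHom i₁') (spA (constA A₁'') ≫ d₁) g₁ ∧
      Tw (mapAlgHom i₂) (mapAlgHom i₂') (spA (constA A₂'') ≫ d₂) g₂ ∧
      spA (scaleA (algebraMap R B (r ^ N * s + r' ^ N * s'))) ≫ g = (spA (mapAlgHom φ₁) ≫ g₁) * (spA (mapAlgHom φ₂) ≫ g₂) := by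
  obtain ⟨N₁, hN₁⟩ := exists_difference_tw φ₂ φ₂'' h₂ h₂' d₂ r hB₂ hB₂'' g hg (by rw [← hd]; exact hgt)
  obtain ⟨N₂, hN₂⟩ := exists_difference_tw φ₁ φ₁'' h₁ h₁' d₁ r' hB₁ hB₁'' g hg hgt
  refine ⟨N₁ + N₂, fun s s' => ?_⟩
  obtain ⟨g₁, hg₁, hg₁t, hg₁'⟩ := hN₂ (r' ^ N₁ * s') (r ^ (N₁ + N₂) * s)
  obtain ⟨g₂, hg₂, hg₂t, hg₂'⟩ := hN₁ (r ^ N₂ * s) 0
  refine ⟨g₁, g₂, hg₁, hg₂, hg₁t, hg₂t, ?_⟩
  have h0 : spA (scaleA (algebraMap R B 0)) ≫ g = 1 := by
    rw [show scaleA (R := R) (algebraMap R B 0) = (constA B).comp (ev0A B) by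
      refine Polynomial.algHom_ext' (AlgHom.ext fun x => ?_) ?_ <;> simp [scaleA, scale_apply],
      ← spA_comp_assoc, hg, MonObj.comp_one]
  rw [hg₁', hg₂', zero_add, h0, inv_one, _root_.mul_one, ← _root_.mul_assoc (r ^ N₁), ← pow_add,
    ← _root_.mul_assoc (r' ^ N₂), ← pow_add, add_comm N₂ N₁, inv_mul_cancel_right]

end Groth.Agent.Tors37
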