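import Groth.Agent.Tors37.GAct
import Groth.Agent.Tors37.QuillenTwist

/-! Levels: algebras with a cocycle and a contraction, and their localisations. -/

set_option autoImplicit false
universe u

open AlgebraicGeometry CategoryTheory CategoryTheory.Limits MonoidalCategory CartesianMonoidalCategory
  MonObj Polynomial

namespace Groth.Agent.Tors37

open H98QP

variable {R : Type u} [CommRing R] {G : Over (Spec (CommRingCat.of R))} [GrpObj G]
  {T : Scheme.{u}} {π : T ⟶ Spec (CommRingCat.of R)} {X : Over T}

/-- The data on which twisted points live. -/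
structure Lev (a : AlgGrp.Action (Red.bc π G) X) (A A'' : Type u) [CommRing A] [CommRing A'']
    [Algebra R A] [Algebra R A''] where
  i : A →ₐ[R] A''
  i' : A →ₐ[R] A''
  c : A →ₐ[R] A[X]
  c'' : A'' →ₐ[R] A''[X]
  base : Spec (CommRingCat.of A) ⟶ T
  d : pt R A'' ⟶ G
  y : pt R A ⟶ (Over.map π).obj X
  base_eq : sm i.toRingHom ≫ base = sm i'.toRingHom ≫ base
  y_base : y.left ≫ X.hom = sm ((ev0A A).comp c).toRingHom ≫ base
  y_tw : spA i ≫ y = gact a d (spA i' ≫ y)
  hy : spA ((ev0A A).comp c) ≫ y = y
  hi : c''.comp i = (mapAlgHom i).comp c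
  hi' : c''.comp i' = (mapAlgHom i').comp c
  hd : spA c'' ≫ d = spA (constA A'') ≫ d
  hc1 : ∀ x, (c x).eval 1 = x
  hη : c.comp ((ev0A A).comp c) = (constA A).comp ((ev0A A).comp c)

variable {a : AlgGrp.Action (Red.bc π G) X}

/-- The evaluation at the origin of a level. -/
noncomputable abbrev Lev.η {A A'' : Type u} [CommRing A] [CommRing A''] [Algebra R A] [Algebra R A'']
    (L : Lev a A A'') : A →ₐ[R] A := (ev0A A).comp L.c

/-- A point of the torsor compatible with the cocycle. -/
structure Lev.Twisted {A A'' : Type u} [CommRing A] [CommRing A''] [Algebra R A] [Algebra R A'']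
    (L : Lev a A A'') (x : pt R A ⟶ (Over.map π).obj X) : Prop where
  base : x.left ≫ X.hom = L.base
  tw : spA L.i ≫ x = gact a L.d (spA L.i' ≫ x)

/-- A morphism of levels. -/
structure Lev.Hom {A A'' B B'' : Type u} [CommRing A] [CommRing A''] [CommRing B] [CommRing B'']
    [Algebra R A] [Algebra R A''] [Algebra R B] [Algebra R B''] (L : Lev a A A'') (M : Lev a B B'') where
  φ : A →ₐ[R] B
  φ'' : A'' →ₐ[R] B''
  hi : φ''.comp L.i = M.i.comp φ
  hi' : φ''.comp L.i' = M.i'.comp φ
  hc : (mapAlgHom φ).comp L.c = M.c.comp φ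
  hc'' : (mapAlgHom φ'').comp L.c'' = M.c''.comp φ''
  hbase : sm φ.toRingHom ≫ L.base = M.base
  hd : spA φ'' ≫ L.d = M.d
  hy : spA φ ≫ L.y = M.y

section

variable {A A'' B B'' C C'' : Type u} [CommRing A] [CommRing A''] [CommRing B] [CommRing B''] [CommRing C]
  [CommRing C''] [Algebra R A] [Algebra R A''] [Algebra R B] [Algebra R B''] [Algebra R C] [Algebra R C'']
  {L : Lev a A A''} {M : Lev a B B''} {N : Lev a C C''}

theorem sm_spA_comp (φ : A →ₐ[R] B) (ψ : B →ₐ[R] C) :
    sm ψ.toRingHom ≫ sm φ.toRingHom = sm (ψ.comp φ).toRingHom := (sm_comp _ _).symm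

theorem Lev.Twisted.map {x : pt R A ⟶ (Over.map π).obj X} (hx : L.Twisted x) (f : L.Hom M) :
    M.Twisted (spA f.φ ≫ x) := by
  refine ⟨?_, ?_⟩
  · rw [Over.comp_left, spA_left, Category.assoc, hx.base, f.hbase]
  · rw [spA_comp_assoc, spA_comp_assoc, ← f.hi, ← f.hi', ← spA_comp_assoc, hx.tw, comp_gact, spA_comp_assoc, f.hd]

/-- Composition of morphisms of levels. -/
noncomputable def Lev.Hom.comp (f : L.Hom M) (g : M.Hom N) : L.Hom N where
  φ := g.φ.comp f.φ
  φ'' := g.φ''.comp f.φ''
  hi := by rw [AlgHom.comp_assoc, f.hi, ← AlgHom.comp_assoc, g.hi, AlgHom.comp_assoc]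
  hi' := by rw [AlgHom.comp_assoc, f.hi', ← AlgHom.comp_assoc, g.hi', AlgHom.comp_assoc]
  hc := by rw [← mapA_comp, AlgHom.comp_assoc, f.hc, ← AlgHom.comp_assoc, g.hc, AlgHom.comp_assoc]
  hc'' := by rw [← mapA_comp, AlgHom.comp_assoc, f.hc'', ← AlgHom.comp_assoc, g.hc'', AlgHom.comp_assoc]
  hbase := by rw [← sm_spA_comp, Category.assoc, f.hbase, g.hbase]
  hd := by rw [← spA_comp_assoc, f.hd, g.hd]
  hy := by rw [← spA_comp_assoc, f.hy, g.hy]

end

section Loc

variable {A A'' B B'' : Type u} [CommRing A] [CommRing A''] [CommRing B] [CommRing B''] [Algebra R A]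
  [Algebra R A''] [Algebra R B] [Algebra R B'']

/-- The localisation at an element of the base ring. -/
noncomputable abbrev loc (r : R) (A : Type u) [CommRing A] [Algebra R A] :
    A →ₐ[R] Localization.Away (algebraMap R A r) :=
  IsScalarTower.toAlgHom R A _

theorem isUnit_loc (r : R) : IsUnit (algebraMap R (Localization.Away (algebraMap R A r)) r) := by
  rw [IsScalarTower.algebraMap_apply R A (Localization.Away (algebraMap R A r))]
  exact IsLocalization.Away.algebraMap_isUnit _

theorem isUnit_map (φ : A →ₐ[R] B) {r : R} (h : IsUnit (algebraMap R A r)) : IsUnit (algebraMap R B r) := by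
  rw [← φ.commutes]; exact h.map φ

/-- The extension of an algebra map to the localisation. -/
noncomputable def liftR {r : R} (f : A →ₐ[R] B) (hr : IsUnit (algebraMap R B r)) :
    Localization.Away (algebraMap R A r) →ₐ[R] B :=
  have h : IsUnit (f.toRingHom (algebraMap R A r)) := by
    show IsUnit (f (algebraMap R A r))
    rwa [f.commutes]
  { IsLocalization.Away.lift (S := Localization.Away (algebraMap R A r)) (algebraMap R A r) h with
    commutes' := fun x => by
      show IsLocalization.Away.lift (algebraMap R A r) h (algebraMap R _ x) = _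
      rw [IsScalarTower.algebraMap_apply R A (Localization.Away (algebraMap R A r)), IsLocalization.Away.lift_eq]
      exact f.commutes x }

@[simp] theorem liftR_loc {r : R} (f : A →ₐ[R] B) (hr : IsUnit (algebraMap R B r)) :
    (liftR f hr).comp (loc r A) = f :=
  AlgHom.ext fun x => by
    have h : IsUnit (f.toRingHom (algebraMap R A r)) := by
      show IsUnit (f (algebraMap R A r))
      rwa [f.commutes]
    exact IsLocalization.Away.lift_eq (algebraMap R A r) h x

theorem loc_ext {r : R} {f g : Localization.Away (algebraMap R A r) →ₐ[R] B}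
    (h : f.comp (loc r A) = g.comp (loc r A)) : f = g :=
  IsLocalization.algHom_ext (Submonoid.powers (algebraMap R A r)) h

theorem spA_loc_ext {r : R} {G' : Over (Spec (CommRingCat.of R))} (f : pt R A ⟶ G') {φ : A →ₐ[R] B}
    (hr : IsUnit (algebraMap R B r)) : spA (liftR φ hr) ≫ spA (loc r A) ≫ f = spA φ ≫ f := by
  rw [spA_comp_assoc, liftR_loc]

/-- A level localised at an element of the base ring. -/
noncomputable def Lev.away (L : Lev a A A'') (r : R) :
    Lev a (Localization.Away (algebraMap R A r)) (Localization.Away (algebraMap R A'' r)) where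
  i := liftR ((loc r A'').comp L.i) (isUnit_loc r)
  i' := liftR ((loc r A'').comp L.i') (isUnit_loc r)
  c := liftR ((mapAlgHom (loc r A)).comp L.c) (isUnit_map (constA _) (isUnit_loc r))
  c'' := liftR ((mapAlgHom (loc r A'')).comp L.c'') (isUnit_map (constA _) (isUnit_loc r))
  base := sm (loc r A).toRingHom ≫ L.base
  d := spA (loc r A'') ≫ L.d
  y := spA (loc r A) ≫ L.y
  base_eq := by
    simp only [← Category.assoc, sm_spA_comp, liftR_loc]
    simp only [← sm_spA_comp, Category.assoc, L.base_eq]
  y_base := by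
    rw [Over.comp_left, spA_left, Category.assoc, L.y_base, ← Category.assoc, ← Category.assoc, sm_spA_comp,
      sm_spA_comp]
    congr 3
    rw [AlgHom.comp_assoc, liftR_loc]
    refine AlgHom.ext fun x => ?_
    show loc r A ((L.c x).eval 0) = (mapAlgHom (loc r A) (L.c x)).eval 0
    simp [← coeff_zero_eq_eval_zero, coeff_zero_eq_aeval_zero']
  y_tw := by
    rw [spA_comp_assoc, spA_comp_assoc, liftR_loc, liftR_loc, ← spA_comp_assoc, L.y_tw, comp_gact, spA_comp_assoc]
  hy := by
    rw [spA_comp_assoc]
    conv_rhs => rw [← L.hy, spA_comp_assoc]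
    congr 2
    rw [AlgHom.comp_assoc, liftR_loc]
    refine AlgHom.ext fun x => ?_
    show (mapAlgHom (loc r A) (L.c x)).eval 0 = loc r A ((L.c x).eval 0)
    simp [← coeff_zero_eq_eval_zero, coeff_zero_eq_aeval_zero']
  hi := loc_ext (by
    simp only [AlgHom.comp_assoc, liftR_loc]
    rw [← AlgHom.comp_assoc, liftR_loc, AlgHom.comp_assoc, L.hi, ← AlgHom.comp_assoc, ← AlgHom.comp_assoc,
      mapA_comp, mapA_comp, liftR_loc])
  hi' := loc_ext (by
    simp only [AlgHom.comp_assoc, liftR_loc]
    rw [← AlgHom.comp_assoc, liftR_loc, AlgHom.comp_assoc, L.hi', ← AlgHom.comp_assoc, ← AlgHom.comp_assoc,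
      mapA_comp, mapA_comp, liftR_loc])
  hd := by
    rw [spA_comp_assoc, liftR_loc, ← spA_comp_assoc, L.hd, spA_comp_assoc, spA_comp_assoc]
    congr 2
    exact AlgHom.ext fun x => by simp
  hc1 := by
    have : (({ evalRingHom (1 : Localization.Away (algebraMap R A r)) with commutes' := fun x => eval_C } :
        (Localization.Away (algebraMap R A r))[X] →ₐ[R] Localization.Away (algebraMap R A r)).comp
          (liftR ((mapAlgHom (loc r A)).comp L.c) (isUnit_map (constA _) (isUnit_loc r)))) = AlgHom.id R _ := by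
      refine loc_ext ?_
      rw [AlgHom.comp_assoc, liftR_loc]
      refine AlgHom.ext fun x => ?_
      show (mapAlgHom (loc r A) (L.c x)).eval 1 = loc r A x
      conv_rhs => rw [← L.hc1 x]
      simp [Polynomial.eval_map, Polynomial.aeval_def]
    exact fun x => DFunLike.congr_fun this x
  hη := loc_ext (by
    have e : ((ev0A (Localization.Away (algebraMap R A r))).comp (mapAlgHom (loc r A))).comp L.c =
        (loc r A).comp ((ev0A A).comp L.c) := AlgHom.ext fun x => by simp [← coeff_zero_eq_eval_zero, coeff_zero_eq_aeval_zero']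
    simp only [AlgHom.comp_assoc, liftR_loc]
    rw [← AlgHom.comp_assoc (ev0A _), e, ← AlgHom.comp_assoc, ← AlgHom.comp_assoc, liftR_loc, AlgHom.comp_assoc,
      AlgHom.comp_assoc, L.hη]
    exact AlgHom.ext fun x => by simp)

/-- The canonical morphism to a localised level. -/
noncomputable def Lev.toAway (L : Lev a A A'') (r : R) : L.Hom (L.away r) where
  φ := loc r A
  φ'' := loc r A''
  hi := by simp only [Lev.away, liftR_loc]
  hi' := by simp only [Lev.away, liftR_loc]
  hc := by simp only [Lev.away, liftR_loc]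
  hc'' := by simp only [Lev.away, liftR_loc]
  hbase := rfl
  hd := rfl
  hy := rfl

/-- The universal property of a localised level. -/
noncomputable def Lev.Hom.liftAway {L : Lev a A A''} {M : Lev a B B''} (f : L.Hom M) (r : R)
    (hr : IsUnit (algebraMap R B r)) : (L.away r).Hom M where
  φ := liftR f.φ hr
  φ'' := liftR f.φ'' (isUnit_map M.i hr)
  hi := loc_ext (by
    simp only [Lev.away, AlgHom.comp_assoc, liftR_loc]
    rw [← AlgHom.comp_assoc, liftR_loc, f.hi])
  hi' := loc_ext (by
    simp only [Lev.away, AlgHom.comp_assoc, liftR_loc]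
    rw [← AlgHom.comp_assoc, liftR_loc, f.hi'])
  hc := loc_ext (by
    simp only [Lev.away, AlgHom.comp_assoc, liftR_loc]
    rw [← AlgHom.comp_assoc, mapA_comp, liftR_loc, f.hc])
  hc'' := loc_ext (by
    simp only [Lev.away, AlgHom.comp_assoc, liftR_loc]
    rw [← AlgHom.comp_assoc, mapA_comp, liftR_loc, f.hc''])
  hbase := by
    show _ ≫ sm (loc r A).toRingHom ≫ L.base = _
    rw [← Category.assoc, sm_spA_comp, liftR_loc, f.hbase]
  hd := by
    show _ ≫ spA (loc r A'') ≫ L.d = _
    rw [spA_loc_ext, f.hd]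
  hy := by
    show _ ≫ spA (loc r A) ≫ L.y = _
    rw [spA_loc_ext, f.hy]

end Loc

end Groth.Agent.Tors37
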