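import Mathlib.AlgebraicGeometry.GammaSpecAdjunction
import Groth.Agent.H98QP.Milnor

/-! Morphisms to affine schemes as ring maps. -/

set_option autoImplicit false
universe u

open AlgebraicGeometry CategoryTheory

namespace Groth.Agent.Tors37

open H98QP

theorem exists_toSpec {Z : Scheme.{u}} {A : Type u} [CommRing A] (f : Z ⟶ Spec (CommRingCat.of A)) :
    ∃ φ : A →+* Γ(Z, ⊤), f = Z.toSpecΓ ≫ sm φ := by
  refine ⟨((Scheme.ΓSpecIso (CommRingCat.of A)).inv ≫ f.appTop).hom, ?_⟩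
  refine Eq.trans ?_ (congrArg (Z.toSpecΓ ≫ ·) (Spec.map_comp _ _).symm)
  rw [← Category.assoc, ← Scheme.toSpecΓ_naturality, Category.assoc,
    show (Spec (CommRingCat.of A)).toSpecΓ = Spec.map (Scheme.ΓSpecIso (CommRingCat.of A)).hom from
      (SpecMap_ΓSpecIso_hom _).symm, ← Spec.map_comp, Iso.inv_hom_id, Spec.map_id, Category.comp_id]

theorem toSpec_inj {Z : Scheme.{u}} {A : Type u} [CommRing A] {φ ψ : A →+* Γ(Z, ⊤)}
    (h : Z.toSpecΓ ≫ sm φ = Z.toSpecΓ ≫ sm ψ) : φ = ψ := by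
  have := congrArg (fun m => (Scheme.ΓSpecIso (CommRingCat.of A)).inv ≫ m.appTop) h
  simp only [sm, Scheme.Hom.comp_appTop, Scheme.toSpecΓ_appTop] at this
  erw [← Scheme.ΓSpecIso_inv_naturality_assoc, ← Scheme.ΓSpecIso_inv_naturality_assoc] at this
  simp only [Iso.inv_hom_id, Category.comp_id] at this
  exact congrArg CommRingCat.Hom.hom this

end Groth.Agent.Tors37
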