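import Groth.Agent.Tors37.TwistDescend
import Groth.Agent.Tors37.ToSpec
import Mathlib.RingTheory.TensorProduct.Maps
import Mathlib.AlgebraicGeometry.Sites.Fpqc

/-! The level of a torsor over an affine space with a point over a faithfully flat algebra. -/

set_option autoImplicit false
universe u

open AlgebraicGeometry CategoryTheory CategoryTheory.Limits MonoidalCategory CartesianMonoidalCategory
  MonObj GrpObj Polynomial
open scoped TensorProduct

namespace Groth.Agent.Tors37

open H98QP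

variable {R : Type u} [CommRing R]

/-- The map out of `F ⊗_E F` given by two maps agreeing on `E`. -/
noncomputable def liftBase {E F K : Type u} [CommRing E] [CommRing F] [CommRing K] [Algebra E F] (f g : F →+* K)
    (h : f.comp (algebraMap E F) = g.comp (algebraMap E F)) : F ⊗[E] F →+* K :=
  letI : Algebra E K := (f.comp (algebraMap E F)).toAlgebra
  (Algebra.TensorProduct.lift ({ f with commutes' := fun _ => rfl } : F →ₐ[E] K)
    { g with commutes' := fun x => (RingHom.congr_fun h x).symm } fun _ _ => Commute.all _ _).toRingHom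

theorem liftBase_left {E F K : Type u} [CommRing E] [CommRing F] [CommRing K] [Algebra E F] (f g : F →+* K)
    (h : f.comp (algebraMap E F) = g.comp (algebraMap E F)) (x : F) :
    liftBase f g h (x ⊗ₜ 1) = f x := by
  simp [liftBase]

theorem liftBase_right {E F K : Type u} [CommRing E] [CommRing F] [CommRing K] [Algebra E F] (f g : F →+* K)
    (h : f.comp (algebraMap E F) = g.comp (algebraMap E F)) (x : F) :
    liftBase f g h (1 ⊗ₜ x) = g x := by
  simp [liftBase]

/-- The map out of `F ⊗_E F` given by two algebra maps agreeing on `E`. -/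
noncomputable def liftBaseA {E F K : Type u} [CommRing E] [CommRing F] [CommRing K] [Algebra R E] [Algebra R F]
    [Algebra R K] [Algebra E F] [IsScalarTower R E F] (f g : F →ₐ[R] K)
    (h : ∀ x, f (algebraMap E F x) = g (algebraMap E F x)) : F ⊗[E] F →ₐ[R] K :=
  { liftBase f.toRingHom g.toRingHom (RingHom.ext h) with
    commutes' := fun x => by
      show liftBase _ _ _ (algebraMap R F x ⊗ₜ 1) = _
      rw [liftBase_left]
      exact AlgHom.commutes f x }

theorem liftBaseA_left {E F K : Type u} [CommRing E] [CommRing F] [CommRing K] [Algebra R E] [Algebra R F]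
    [Algebra R K] [Algebra E F] [IsScalarTower R E F] (f g : F →ₐ[R] K)
    (h : ∀ x, f (algebraMap E F x) = g (algebraMap E F x)) :
    (liftBaseA f g h).comp ((Algebra.TensorProduct.includeLeft : F →ₐ[E] F ⊗[E] F).restrictScalars R) = f :=
  AlgHom.ext fun x => liftBase_left f.toRingHom g.toRingHom (RingHom.ext h) x

theorem liftBaseA_right {E F K : Type u} [CommRing E] [CommRing F] [CommRing K] [Algebra R E] [Algebra R F]
    [Algebra R K] [Algebra E F] [IsScalarTower R E F] (f g : F →ₐ[R] K)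
    (h : ∀ x, f (algebraMap E F x) = g (algebraMap E F x)) :
    (liftBaseA f g h).comp ((Algebra.TensorProduct.includeRight : F →ₐ[E] F ⊗[E] F).restrictScalars R) = g :=
  AlgHom.ext fun x => liftBase_right f.toRingHom g.toRingHom (RingHom.ext h) x

variable {G : Over (Spec (CommRingCat.of R))} [GrpObj G] {T : Scheme.{u}} {π : T ⟶ Spec (CommRingCat.of R)}
  {X : Over T} (a : AlgGrp.Action (Red.bc π G) X)

/-- A contractible affine base with a point of the torsor over a faithfully flat algebra. -/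
structure Datum (E R' : Type u) [CommRing E] [Algebra R E] [CommRing R'] [Algebra R R'] where
  ε : E →ₐ[R] R
  cE : E →ₐ[R] E[X]
  cE0 : ∀ x, (cE x).eval 0 = algebraMap R E (ε x)
  cE1 : ∀ x, (cE x).eval 1 = x
  σT : Spec (CommRingCat.of E) ≅ T
  hσT : σT.hom ≫ π = sm (algebraMap R E)
  y0 : pt R R' ⟶ (Over.map π).obj X
  hy0 : y0.left ≫ X.hom = sm ((algebraMap R R').comp ε.toRingHom) ≫ σT.hom
  ha : NonAbH1.IsPseudoTorsorSch a

variable {a} {E R' : Type u} [CommRing E] [Algebra R E] [CommRing R'] [Algebra R R'] (D : Datum a E R')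

/-- The contraction of `E ⊗ R'`. -/
noncomputable def Datum.c : E ⊗[R] R' →ₐ[R] (E ⊗[R] R')[X] :=
  Algebra.TensorProduct.lift ((mapAlgHom Algebra.TensorProduct.includeLeft).comp D.cE)
    ((constA (E ⊗[R] R')).comp Algebra.TensorProduct.includeRight) fun _ _ => Commute.all _ _

theorem Datum.η_inl (x : E) : (ev0A (E ⊗[R] R')).comp D.c (x ⊗ₜ 1) = algebraMap R _ (D.ε x) := by
  have : ((D.cE x).map (Algebra.TensorProduct.includeLeft : E →ₐ[R] E ⊗[R] R').toRingHom).eval 0 =
      Algebra.TensorProduct.includeLeft (R := R) (S := R) (B := R') ((D.cE x).eval 0) := by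
    rw [Polynomial.eval_map, ← map_zero (Algebra.TensorProduct.includeLeft : E →ₐ[R] E ⊗[R] R').toRingHom,
      Polynomial.eval₂_at_apply]
    rfl
  show ((D.c (x ⊗ₜ 1))).eval 0 = _
  simp only [Datum.c, Algebra.TensorProduct.lift_tmul, map_one, _root_.mul_one]
  refine this.trans ?_
  rw [D.cE0, AlgHom.commutes]

theorem Datum.η_inr (x : R') : (ev0A (E ⊗[R] R')).comp D.c (1 ⊗ₜ x) = 1 ⊗ₜ x := by
  simp [Datum.c]

theorem Datum.η_incl :
    ((ev0A (E ⊗[R] R')).comp D.c).toRingHom.comp (algebraMap E (E ⊗[R] R')) =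
      (algebraMap R (E ⊗[R] R')).comp D.ε.toRingHom :=
  RingHom.ext fun x => D.η_inl x

theorem Datum.hη' : D.c.comp ((ev0A (E ⊗[R] R')).comp D.c) = (constA _).comp ((ev0A (E ⊗[R] R')).comp D.c) := by
  refine Algebra.TensorProduct.ext (AlgHom.ext fun x => ?_) (AlgHom.ext fun x => ?_)
  · show D.c ((ev0A (E ⊗[R] R')).comp D.c (x ⊗ₜ 1)) =
      constA (R := R) (E ⊗[R] R') ((ev0A (E ⊗[R] R')).comp D.c (x ⊗ₜ 1))
    rw [D.η_inl, AlgHom.commutes, AlgHom.commutes]
  · show D.c ((ev0A (E ⊗[R] R')).comp D.c (1 ⊗ₜ x)) =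
      constA (R := R) (E ⊗[R] R') ((ev0A (E ⊗[R] R')).comp D.c (1 ⊗ₜ x))
    rw [D.η_inr]
    simp [Datum.c]

/-- The point over `E ⊗ R'`. -/
noncomputable def Datum.y : pt R (E ⊗[R] R') ⟶ (Over.map π).obj X :=
  spA (Algebra.TensorProduct.includeRight : R' →ₐ[R] E ⊗[R] R') ≫ D.y0

theorem Datum.y_base : D.y.left ≫ X.hom =
    sm ((ev0A (E ⊗[R] R')).comp D.c).toRingHom ≫ sm (algebraMap E (E ⊗[R] R')) ≫ D.σT.hom := by
  rw [Datum.y, Over.comp_left, spA_left, Category.assoc, D.hy0, ← Category.assoc, ← Category.assoc, ← sm_comp,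
    ← sm_comp, D.η_incl, ← RingHom.comp_assoc]
  congr 3
  exact (Algebra.TensorProduct.includeRight : R' →ₐ[R] E ⊗[R] R').comp_algebraMap

theorem Datum.hy : spA ((ev0A (E ⊗[R] R')).comp D.c) ≫ D.y = D.y := by
  rw [Datum.y, spA_comp_assoc]
  congr 2
  exact AlgHom.ext fun x => D.η_inr x

/-- The first coprojection. -/
noncomputable def Datum.i (_ : Datum a E R') : E ⊗[R] R' →ₐ[R] (E ⊗[R] R') ⊗[E] (E ⊗[R] R') :=
  (Algebra.TensorProduct.includeLeft : E ⊗[R] R' →ₐ[E] _).restrictScalars R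

/-- The second coprojection. -/
noncomputable def Datum.i' (_ : Datum a E R') : E ⊗[R] R' →ₐ[R] (E ⊗[R] R') ⊗[E] (E ⊗[R] R') :=
  (Algebra.TensorProduct.includeRight : E ⊗[R] R' →ₐ[E] _).restrictScalars R

theorem Datum.i_incl : D.i.toRingHom.comp (algebraMap E (E ⊗[R] R')) =
    D.i'.toRingHom.comp (algebraMap E (E ⊗[R] R')) := by
  exact RingHom.ext fun x =>
    ((Algebra.TensorProduct.includeLeft : E ⊗[R] R' →ₐ[E] (E ⊗[R] R') ⊗[E] (E ⊗[R] R')).commutes x).trans
      ((Algebra.TensorProduct.includeRight : E ⊗[R] R' →ₐ[E] (E ⊗[R] R') ⊗[E] (E ⊗[R] R')).commutes x).symm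

theorem Datum.c_incl (x : E) : mapAlgHom D.i (D.c (algebraMap E _ x)) = mapAlgHom D.i' (D.c (algebraMap E _ x)) := by
  show mapAlgHom D.i (D.c (x ⊗ₜ 1)) = mapAlgHom D.i' (D.c (x ⊗ₜ 1))
  simp only [Datum.c, Algebra.TensorProduct.lift_tmul, map_one, _root_.mul_one, AlgHom.comp_apply]
  rw [← AlgHom.comp_apply (mapAlgHom D.i), ← AlgHom.comp_apply (mapAlgHom D.i'), mapA_comp, mapA_comp]
  congr 2
  exact AlgHom.ext fun y => RingHom.congr_fun D.i_incl y

/-- The contraction of the double overlap. -/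
noncomputable def Datum.c'' :
    (E ⊗[R] R') ⊗[E] (E ⊗[R] R') →ₐ[R] ((E ⊗[R] R') ⊗[E] (E ⊗[R] R'))[X] :=
  liftBaseA (R := R) (E := E) (F := E ⊗[R] R') (K := ((E ⊗[R] R') ⊗[E] (E ⊗[R] R'))[X]) ((mapAlgHom D.i).comp D.c) ((mapAlgHom D.i').comp D.c) D.c_incl

theorem Datum.hi : D.c''.comp D.i = (mapAlgHom D.i).comp D.c :=
  liftBaseA_left (R := R) (E := E) (F := E ⊗[R] R') (K := ((E ⊗[R] R') ⊗[E] (E ⊗[R] R'))[X]) _ _ _

theorem Datum.hi' : D.c''.comp D.i' = (mapAlgHom D.i').comp D.c :=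
  liftBaseA_right (R := R) (E := E) (F := E ⊗[R] R') (K := ((E ⊗[R] R') ⊗[E] (E ⊗[R] R'))[X]) _ _ _

theorem Datum.exists_d : ∃! d : pt R ((E ⊗[R] R') ⊗[E] (E ⊗[R] R')) ⟶ G,
    gact a d (spA D.i' ≫ D.y) = spA D.i ≫ D.y := by
  refine existsUnique_gact a D.ha _ _ ?_
  rw [Over.comp_left, Over.comp_left, spA_left, spA_left, Category.assoc, Category.assoc, D.y_base]
  simp only [← Category.assoc, ← sm_comp]
  congr 2
  simp only [RingHom.comp_assoc, D.η_incl]
  rw [← RingHom.comp_assoc, ← RingHom.comp_assoc]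
  congr 1
  exact D.i'.comp_algebraMap.trans D.i.comp_algebraMap.symm

theorem Datum.hd : spA D.c'' ≫ D.exists_d.choose = spA (constA _) ≫ D.exists_d.choose := by
  have hcy : spA D.c ≫ D.y = spA (constA (E ⊗[R] R')) ≫ D.y := by
    conv_lhs => rw [← D.hy, spA_comp_assoc, D.hη', ← spA_comp_assoc, D.hy]
  have hk : ∀ φ : E ⊗[R] R' →ₐ[R] (E ⊗[R] R') ⊗[E] (E ⊗[R] R'),
      spA ((mapAlgHom φ).comp D.c) ≫ D.y = spA ((constA _).comp φ) ≫ D.y := fun φ => by
    rw [← spA_comp_assoc, hcy, spA_comp_assoc]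
    congr 2
    exact AlgHom.ext fun x => by simp
  refine gact_inj a D.ha (x := spA (constA _) ≫ spA D.i' ≫ D.y) ?_
  conv_rhs => rw [← comp_gact, D.exists_d.choose_spec.1]
  conv_lhs => rw [spA_comp_assoc, ← hk, ← D.hi', ← spA_comp_assoc, ← comp_gact, D.exists_d.choose_spec.1,
    spA_comp_assoc, D.hi, hk, ← spA_comp_assoc]

/-- The level of the torsor. -/
noncomputable def Datum.lev : Lev a (E ⊗[R] R') ((E ⊗[R] R') ⊗[E] (E ⊗[R] R')) where
  i := D.i
  i' := D.i'
  c := D.c
  c'' := D.c''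
  base := sm (algebraMap E (E ⊗[R] R')) ≫ D.σT.hom
  d := D.exists_d.choose
  y := D.y
  base_eq := by rw [← Category.assoc, ← Category.assoc, ← sm_comp, ← sm_comp, D.i_incl]
  y_base := D.y_base
  y_tw := D.exists_d.choose_spec.1.symm
  hy := D.hy
  hi := D.hi
  hi' := D.hi'
  hd := D.hd
  hc1 := fun x => by
    have : (({ evalRingHom (1 : E ⊗[R] R') with commutes' := fun x => eval_C } :
        (E ⊗[R] R')[X] →ₐ[R] E ⊗[R] R').comp D.c) = AlgHom.id R _ := by
      refine Algebra.TensorProduct.ext (AlgHom.ext fun x => ?_) (AlgHom.ext fun x => ?_)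
      · show (D.c (x ⊗ₜ 1)).eval 1 = x ⊗ₜ 1
        have : ((D.cE x).map (Algebra.TensorProduct.includeLeft : E →ₐ[R] E ⊗[R] R').toRingHom).eval 1 =
            Algebra.TensorProduct.includeLeft (R := R) (S := R) (B := R') ((D.cE x).eval 1) := by
          rw [Polynomial.eval_map, ← map_one (Algebra.TensorProduct.includeLeft : E →ₐ[R] E ⊗[R] R').toRingHom,
            Polynomial.eval₂_at_apply]
          rfl
        simp only [Datum.c, Algebra.TensorProduct.lift_tmul, map_one, _root_.mul_one]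
        refine this.trans ?_
        rw [D.cE1]
        rfl
      · show (D.c (1 ⊗ₜ x)).eval 1 = 1 ⊗ₜ x
        simp [Datum.c]
    exact DFunLike.congr_fun this x
  hη := D.hη'

theorem Datum.base_away (r : R) : (D.lev.away r).base =
    sm ((loc r (E ⊗[R] R')).toRingHom.comp (algebraMap E (E ⊗[R] R'))) ≫ D.σT.hom := by
  show _ ≫ _ ≫ _ = _
  rw [← Category.assoc, ← sm_comp]

theorem Datum.hbπ (r : R) : (D.lev.away r).base ≫ π =
    sm (algebraMap R (Localization.Away (algebraMap R (E ⊗[R] R') r))) := by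
  rw [D.base_away, Category.assoc, D.hσT, ← sm_comp]
  exact congrArg sm (RingHom.ext fun x => ((IsScalarTower.toAlgHom R (E ⊗[R] R') _).comp
    ((Algebra.TensorProduct.includeLeft : E →ₐ[R] E ⊗[R] R'))).commutes x)

/-- The zero section. -/
noncomputable def Datum.z : Spec (CommRingCat.of R) ⟶ T := sm D.ε.toRingHom ≫ D.σT.hom

theorem Datum.hz : D.z ≫ π = 𝟙 _ := by
  rw [Datum.z, Category.assoc, D.hσT, ← sm_comp]
  exact (congrArg sm D.ε.comp_algebraMap).trans (Spec.map_id _)

theorem Datum.hyz0 : sm (algebraMap R (E ⊗[R] R')) ≫ D.z = sm D.lev.η.toRingHom ≫ D.lev.base := by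
  show _ = sm ((ev0A (E ⊗[R] R')).comp D.c).toRingHom ≫ sm (algebraMap E (E ⊗[R] R')) ≫ D.σT.hom
  rw [Datum.z, ← Category.assoc, ← sm_comp, ← Category.assoc, ← sm_comp, D.η_incl]

theorem Datum.hyz (r : R) : sm (algebraMap R (Localization.Away (algebraMap R (E ⊗[R] R') r))) ≫ D.z =
    sm (D.lev.away r).η.toRingHom ≫ (D.lev.away r).base := by
  have h := Lev.η_nat (D.lev.toAway r)
  rw [show (D.lev.away r).base = sm (loc r (E ⊗[R] R')).toRingHom ≫ D.lev.base from rfl, ← Category.assoc,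
    sm_spA_comp, show (loc r (E ⊗[R] R')) = (D.lev.toAway r).φ from rfl, h, ← sm_spA_comp, Category.assoc,
    show sm D.lev.η.toRingHom ≫ D.lev.base =
      (sm ((ev0A (E ⊗[R] R')).comp D.c).toRingHom ≫ sm (algebraMap E (E ⊗[R] R'))) ≫ D.σT.hom from
      (Category.assoc _ _ _).symm, ← sm_comp, D.η_incl, Datum.z, ← Category.assoc, ← Category.assoc, ← sm_comp,
    ← sm_comp, ← RingHom.comp_assoc]
  congr 3

theorem Datum.pairs (r : R) (Z : Scheme.{u})
    (m m' : Z ⟶ Spec (CommRingCat.of (Localization.Away (algebraMap R (E ⊗[R] R') r))))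
    (h : m ≫ (D.lev.away r).base = m' ≫ (D.lev.away r).base) :
    ∃ m'' : Z ⟶ Spec (CommRingCat.of (Localization.Away (algebraMap R ((E ⊗[R] R') ⊗[E] (E ⊗[R] R')) r))),
      m'' ≫ sm (D.lev.away r).i.toRingHom = m ∧ m'' ≫ sm (D.lev.away r).i'.toRingHom = m' := by
  obtain ⟨φ, rfl⟩ := exists_toSpec m
  obtain ⟨φ', rfl⟩ := exists_toSpec m'
  rw [D.base_away, ← Category.assoc, ← Category.assoc, cancel_mono, Category.assoc, Category.assoc, ← sm_comp,
    ← sm_comp] at h
  have hE := toSpec_inj h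
  rw [← RingHom.comp_assoc, ← RingHom.comp_assoc] at hE
  let ψ := liftBase _ _ hE
  have hu : IsUnit (ψ (algebraMap R ((E ⊗[R] R') ⊗[E] (E ⊗[R] R')) r)) := by
    show IsUnit (ψ (algebraMap R (E ⊗[R] R') r ⊗ₜ 1))
    rw [liftBase_left]
    exact (IsLocalization.Away.algebraMap_isUnit _).map φ
  let ψ' := IsLocalization.Away.lift (S := Localization.Away (algebraMap R ((E ⊗[R] R') ⊗[E] (E ⊗[R] R')) r))
    (algebraMap R ((E ⊗[R] R') ⊗[E] (E ⊗[R] R')) r) hu
  refine ⟨Z.toSpecΓ ≫ sm ψ', ?_, ?_⟩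
  · rw [Category.assoc, ← sm_comp]
    congr 2
    refine IsLocalization.ringHom_ext (Submonoid.powers (algebraMap R (E ⊗[R] R') r)) (RingHom.ext fun x => ?_)
    show ψ' (((D.lev.away r).i.comp (loc r (E ⊗[R] R'))) x) = φ (algebraMap _ _ x)
    simp only [Lev.away, liftR_loc]
    exact (IsLocalization.Away.lift_eq _ hu _).trans (liftBase_left _ _ hE x)
  · rw [Category.assoc, ← sm_comp]
    congr 2
    refine IsLocalization.ringHom_ext (Submonoid.powers (algebraMap R (E ⊗[R] R') r)) (RingHom.ext fun x => ?_)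
    show ψ' (((D.lev.away r).i'.comp (loc r (E ⊗[R] R'))) x) = φ' (algebraMap _ _ x)
    simp only [Lev.away, liftR_loc]
    exact (IsLocalization.Away.lift_eq _ hu _).trans (liftBase_right _ _ hE x)

theorem Datum.cover [Module.FaithfullyFlat R R'] (r : R) {S' : Scheme.{u}} (j : S' ⟶ Spec (CommRingCat.of R))
    [Mono j] (hjr : ∃ jr : S' ⟶ Spec (CommRingCat.of (Localization.Away r)),
      jr ≫ sm (algebraMap R (Localization.Away r)) = j)
    (k : Spec (CommRingCat.of (Localization.Away (algebraMap R (E ⊗[R] R') r))) ⟶ pullback π j)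
    (hk : k ≫ pullback.fst π j = (D.lev.away r).base) :
    NonAbH1.IsLocallyTrivialFor Scheme.fpqcPrecoverage (Over.mk k) := by
  obtain ⟨jr, hjr⟩ := hjr
  obtain ⟨_, _⟩ := (flat_and_surjective_SpecMap_iff (CommRingCat.ofHom (algebraMap R R'))).mpr
    (RingHom.faithfullyFlat_algebraMap_iff.mpr ‹_›)
  let w := pullback.snd π j ≫ j
  let p := pullback.fst w (sm (algebraMap R R'))
  have : Flat p := inferInstance
  have : Surjective p := inferInstance
  have : QuasiCompact p := inferInstance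
  refine ⟨Presieve.singleton p, Scheme.Hom.singleton_mem_fpqcPrecoverage p, ?_⟩
  rintro _ _ ⟨⟩
  obtain ⟨e, he⟩ := exists_toSpec (p ≫ pullback.fst π j ≫ D.σT.inv)
  obtain ⟨q, hq⟩ := exists_toSpec (pullback.snd w (sm (algebraMap R R')))
  obtain ⟨u, hu⟩ := exists_toSpec (p ≫ pullback.snd π j ≫ jr)
  have hR : (u.comp (algebraMap R (Localization.Away r))) = q.comp (algebraMap R R') := by
    refine toSpec_inj ?_
    rw [sm_comp (algebraMap R _) u, sm_comp (algebraMap R R') q, ← Category.assoc, ← Category.assoc, ← hu, ← hq,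
      Category.assoc, Category.assoc, hjr]
    exact pullback.condition
  have hR' : e.comp (algebraMap R E) = q.comp (algebraMap R R') := by
    rw [← hR]
    refine toSpec_inj ?_
    rw [sm_comp (algebraMap R _) u, sm_comp (algebraMap R E) e, ← Category.assoc, ← Category.assoc, ← hu, ← he,
      Category.assoc, Category.assoc, Category.assoc, Category.assoc, hjr, ← D.hσT, Iso.inv_hom_id_assoc,
      pullback.condition]
  let _ : Algebra R Γ(pullback w (sm (algebraMap R R')), ⊤) := (q.comp (algebraMap R R')).toAlgebra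
  let ψ := (Algebra.TensorProduct.lift (S := R)
    ({ e with commutes' := fun x => RingHom.congr_fun hR' x } : E →ₐ[R] Γ(pullback w (sm (algebraMap R R')), ⊤))
    ({ q with commutes' := fun x => rfl } : R' →ₐ[R] Γ(pullback w (sm (algebraMap R R')), ⊤))
    fun _ _ => Commute.all _ _)
  have hunit : IsUnit (ψ.toRingHom (algebraMap R (E ⊗[R] R') r)) := by
    show IsUnit (ψ (algebraMap R (E ⊗[R] R') r))
    rw [AlgHom.commutes]
    show IsUnit (q (algebraMap R R' r))
    rw [← RingHom.comp_apply q, ← hR]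
    exact (IsLocalization.Away.algebraMap_isUnit r).map u
  let ψ' := IsLocalization.Away.lift (S := Localization.Away (algebraMap R (E ⊗[R] R') r))
    (algebraMap R (E ⊗[R] R') r) hunit
  refine ⟨Scheme.toSpecΓ _ ≫ sm ψ', ?_⟩
  show (_ ≫ _) ≫ k = p
  have hb : (Scheme.toSpecΓ _ ≫ sm ψ') ≫ (D.lev.away r).base = p ≫ pullback.fst π j := by
    rw [D.base_away, Category.assoc, ← Category.assoc (sm ψ'), ← sm_comp, ← Category.assoc]
    rw [show ψ'.comp ((loc r (E ⊗[R] R')).toRingHom.comp (algebraMap E (E ⊗[R] R'))) = e from RingHom.ext fun x =>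
      (IsLocalization.Away.lift_eq _ hunit _).trans (by
        show ψ (x ⊗ₜ 1) = e x
        simp [ψ]), ← he, Category.assoc, Category.assoc, Iso.inv_hom_id, Category.comp_id]
  refine pullback.hom_ext ?_ ?_
  · rw [Category.assoc, hk]; exact hb
  · rw [← cancel_mono j]
    simp only [Category.assoc]
    rw [← pullback.condition, reassoc_of% hk]
    simp only [← Category.assoc] at hb ⊢
    rw [hb]

end Groth.Agent.Tors37
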