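import Groth.Agent.Tors37.QuillenLev
import Groth.Agent.Tors37.GlueAway

/-! Quillen patching for twisted points of a torsor. -/

set_option autoImplicit false
universe u

open AlgebraicGeometry CategoryTheory CategoryTheory.Limits MonoidalCategory CartesianMonoidalCategory
  MonObj GrpObj Polynomial

namespace Groth.Agent.Tors37

open H98QP

variable {R : Type u} [CommRing R] {G : Over (Spec (CommRingCat.of R))} [GrpObj G]
  {T : Scheme.{u}} {π : T ⟶ Spec (CommRingCat.of R)} {X : Over T} {a : AlgGrp.Action (Red.bc π G) X}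

section

variable {A A'' : Type u} [CommRing A] [CommRing A''] [Algebra R A] [Algebra R A''] {L : Lev a A A''}

theorem Lev.η_η (L : Lev a A A'') : L.η.comp L.η = L.η := by
  rw [AlgHom.comp_assoc, L.hη]
  exact AlgHom.ext fun x => by simp

theorem Lev.η_nat {B B'' : Type u} [CommRing B] [CommRing B''] [Algebra R B] [Algebra R B''] {M : Lev a B B''}
    (f : L.Hom M) : M.η.comp f.φ = f.φ.comp L.η := by
  rw [AlgHom.comp_assoc, ← f.hc]
  exact AlgHom.ext fun x => by simp [← coeff_zero_eq_eval_zero, coeff_zero_eq_aeval_zero']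

theorem Lev.η''_i (L : Lev a A A'') :
    ((ev0A A'').comp L.c'').comp L.i = L.i.comp L.η ∧ ((ev0A A'').comp L.c'').comp L.i' = L.i'.comp L.η := by
  constructor
  · rw [AlgHom.comp_assoc, L.hi]
    exact AlgHom.ext fun x => by simp [← coeff_zero_eq_eval_zero, coeff_zero_eq_aeval_zero']
  · rw [AlgHom.comp_assoc, L.hi']
    exact AlgHom.ext fun x => by simp [← coeff_zero_eq_eval_zero, coeff_zero_eq_aeval_zero']

theorem Lev.η''_d (L : Lev a A A'') : spA ((ev0A A'').comp L.c'') ≫ L.d = L.d := by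
  rw [← spA_comp_assoc, L.hd, spA_comp_assoc, show (ev0A (R := R) A'').comp (constA A'') = AlgHom.id R A'' from
    AlgHom.ext fun x => by simp, spA_id, Category.id_comp]

theorem Lev.Twisted.gact {x : pt R A ⟶ (Over.map π).obj X} (hx : L.Twisted x) {g : pt R A ⟶ G}
    (hg : Tw L.i L.i' L.d g) : L.Twisted (gact a g x) := by
  refine ⟨(gact_base a g x).trans hx.base, ?_⟩
  rw [comp_gact, comp_gact, hx.tw, ← gact_mul, ← gact_mul, hg]

theorem tw_inv {C C'' : Type u} [CommRing C] [CommRing C''] [Algebra R C] [Algebra R C''] {i i' : C →ₐ[R] C''}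
    {d : pt R C'' ⟶ G} {g : pt R C ⟶ G} (hg : Tw i i' d g) : Tw i i' d g⁻¹ := by
  have h1 : Tw i i' d (1 : pt R C ⟶ G) := by
    unfold Tw; rw [MonObj.comp_one, MonObj.comp_one, _root_.one_mul, _root_.mul_one]
  simpa using h1.mul_inv hg

theorem tw_of_gact (ha : NonAbH1.IsPseudoTorsorSch a) {g : pt R A ⟶ G} {x x' : pt R A ⟶ (Over.map π).obj X}
    (hx : spA L.i ≫ x = Tors37.gact a L.d (spA L.i' ≫ x)) (hx' : spA L.i ≫ x' = Tors37.gact a L.d (spA L.i' ≫ x'))
    (hg : Tors37.gact a g x = x') : Tw L.i L.i' L.d g := by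
  refine gact_inj a ha (x := spA L.i' ≫ x) ?_
  rw [gact_mul, gact_mul, ← hx, ← comp_gact, ← comp_gact, hg, hx']

/-- A twisted point can be normalised at the origin. -/
theorem Lev.Twisted.exists_normalised (ha : NonAbH1.IsPseudoTorsorSch a) {x : pt R A ⟶ (Over.map π).obj X}
    (hx : L.Twisted x) : ∃ x', L.Twisted x' ∧ spA L.η ≫ x' = L.y := by
  obtain ⟨h, hh, hu⟩ := existsUnique_gact a ha L.y (spA L.η ≫ x) (by
    rw [L.y_base, Over.comp_left, spA_left, Category.assoc, hx.base])
  have hx0 : spA L.i ≫ spA L.η ≫ x = Tors37.gact a L.d (spA L.i' ≫ spA L.η ≫ x) := by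
    rw [spA_comp_assoc, spA_comp_assoc, ← (L.η''_i).1, ← (L.η''_i).2, ← spA_comp_assoc, hx.tw, comp_gact,
      L.η''_d, spA_comp_assoc]
  have ht : Tw L.i L.i' L.d h := tw_of_gact ha L.y_tw hx0 hh
  have hη : spA L.η ≫ h = h := hu _ (by
    show Tors37.gact a (spA L.η ≫ h) L.y = _
    conv_lhs => rw [← L.hy]
    rw [← comp_gact, hh, spA_comp_assoc, L.η_η])
  refine ⟨Tors37.gact a h⁻¹ x, hx.gact (tw_inv ht), ?_⟩
  rw [comp_gact, GrpObj.comp_inv, hη, ← hh, ← gact_mul, inv_mul_cancel, gact_one]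

end

/-- Evaluation at the inverse of an element of the base ring. -/
noncomputable def evb (C : Type u) [CommRing C] [Algebra R C] (b : R) : C[X] →ₐ[R] C :=
  { evalRingHom (Ring.inverse (algebraMap R C b)) with commutes' := fun x => eval_C }

theorem evb_nat {C D : Type u} [CommRing C] [CommRing D] [Algebra R C] [Algebra R D] (φ : C →ₐ[R] D) (b : R)
    (hb : IsUnit (algebraMap R C b)) : φ.comp (evb C b) = (evb D b).comp (mapAlgHom φ) := by
  refine Polynomial.algHom_ext' (AlgHom.ext fun x => by simp [evb]) ?_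
  simp only [evb, AlgHom.coe_comp, AlgHom.coe_mk, coe_evalRingHom, Function.comp_apply, eval_X, coe_mapAlgHom,
    map_X, Polynomial.coe_mapRingHom]
  have hd : IsUnit (algebraMap R D b) := isUnit_map φ hb
  refine hd.mul_left_cancel ?_
  rw [Ring.mul_inverse_cancel _ hd, ← φ.commutes, ← map_mul, Ring.mul_inverse_cancel _ hb, map_one]

theorem evb_scale {C : Type u} [CommRing C] [Algebra R C] (b : R) (hb : IsUnit (algebraMap R C b)) (p : C[X]) :
    evb (R := R) C b (scaleA (R := R) (algebraMap R C b) p) = p.eval 1 := by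
  show ((scale (algebraMap R C b)) p).eval (Ring.inverse (algebraMap R C b)) = p.eval 1
  rw [scale_apply, eval_comp, eval_mul, eval_C, eval_X, Ring.mul_inverse_cancel _ hb]

theorem away_toAlgebra {A B : Type u} [CommRing A] [CommRing B] [Algebra R A] [Algebra R B] [Algebra A B] {r : A}
    (h : IsLocalization.Away r B) (φ : A →ₐ[R] B) (hφ : ∀ x, φ x = algebraMap A B x) :
    @IsLocalization.Away _ _ r B _ φ.toRingHom.toAlgebra := by
  have e : φ.toRingHom.toAlgebra = ‹Algebra A B› := Algebra.algebra_ext _ _ hφ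
  rw [e]; exact h

theorem away_swap {A : Type u} [CommRing A] [Algebra R A] (r r' : R)
    (φ : Localization.Away (algebraMap R A r') →ₐ[R]
      Localization.Away (algebraMap R (Localization.Away (algebraMap R A r)) r'))
    (hφ : φ.comp (loc r' A) = (loc r' (Localization.Away (algebraMap R A r))).comp (loc r A)) :
    @IsLocalization.Away _ _ (algebraMap R (Localization.Away (algebraMap R A r')) r)
      (Localization.Away (algebraMap R (Localization.Away (algebraMap R A r)) r')) _ φ.toRingHom.toAlgebra := by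
  let _ : Algebra (Localization.Away (algebraMap R A r'))
    (Localization.Away (algebraMap R (Localization.Away (algebraMap R A r)) r')) := φ.toRingHom.toAlgebra
  have : IsScalarTower A (Localization.Away (algebraMap R A r'))
      (Localization.Away (algebraMap R (Localization.Away (algebraMap R A r)) r')) :=
    .of_algebraMap_eq fun x => (DFunLike.congr_fun hφ x).symm
  have : IsLocalization.Away (algebraMap A (Localization.Away (algebraMap R A r)) (algebraMap R A r'))
      (Localization.Away (algebraMap R (Localization.Away (algebraMap R A r)) r')) := by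
    rw [← IsScalarTower.algebraMap_apply]; infer_instance
  rw [IsScalarTower.algebraMap_apply R A (Localization.Away (algebraMap R A r'))]
  exact IsLocalization.Away.commutes (Localization.Away (algebraMap R A r')) (Localization.Away (algebraMap R A r))
    _ (algebraMap R A r') (algebraMap R A r)

set_option maxHeartbeats 1600000 in
/-- Quillen patching: twisted points over two basic opens give one over their union. -/
theorem Lev.exists_twisted_of_cover [LocallyOfFinitePresentation G.hom] (ha : NonAbH1.IsPseudoTorsorSch a)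
    {A A'' : Type u} [CommRing A] [CommRing A''] [Algebra R A] [Algebra R A''] (L : Lev a A A'') (r r' u v : R)
    (hu : IsUnit (algebraMap R A (u * r + v * r')))
    (h₁ : ∃ x, (L.away r).Twisted x) (h₂ : ∃ x, (L.away r').Twisted x) : ∃ x, L.Twisted x := by
  obtain ⟨x₁', hx₁'⟩ := h₁
  obtain ⟨x₁, hx₁, hn₁⟩ := hx₁'.exists_normalised ha
  obtain ⟨x₂', hx₂'⟩ := h₂
  obtain ⟨x₂, hx₂, hn₂⟩ := hx₂'.exists_normalised ha
  let A₁ := L.away r
  let A₂ := L.away r'
  let M := A₁.away r'
  let f₁ : A₁.Hom M := A₁.toAway r'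
  let f₂ : A₂.Hom M := ((L.toAway r).comp f₁).liftAway r' (isUnit_loc r')
  have hy₁ := (hx₁.map f₁)
  have hy₂ := (hx₂.map f₂)
  obtain ⟨g, hg, -⟩ := existsUnique_gact a ha (spA f₂.φ ≫ x₂) (spA f₁.φ ≫ x₁) (hy₂.base.trans hy₁.base.symm)
  have hgt : Tw M.i M.i' M.d g := tw_of_gact ha hy₂.tw hy₁.tw hg
  have hgη : spA M.η ≫ g = 1 := by
    refine gact_inj a ha (x := M.y) ?_
    rw [gact_one]
    have e : ∀ {C C'' : Type u} [CommRing C] [CommRing C''] [Algebra R C] [Algebra R C''] {N : Lev a C C''}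
        (f : N.Hom M) (x : pt R C ⟶ (Over.map π).obj X), spA N.η ≫ x = N.y → spA M.η ≫ spA f.φ ≫ x = M.y := by
      intro C C'' _ _ _ _ N f x hx
      rw [spA_comp_assoc, Lev.η_nat f, ← spA_comp_assoc, hx, f.hy]
    conv_lhs => rw [← e f₂ x₂ hn₂]
    rw [← comp_gact, hg, e f₁ x₁ hn₁]
  have hG : Tw (mapAlgHom M.i) (mapAlgHom M.i') (spA (constA _) ≫ spA f₁.φ'' ≫ A₁.d) (spA M.c ≫ g) := by
    have := hgt.map M.c M.c'' (j := mapAlgHom M.i) (j' := mapAlgHom M.i') M.hi M.hi'
    rwa [M.hd, ← f₁.hd] at this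
  obtain ⟨N, hN⟩ := exists_decomposition_tw (i₁ := A₁.i) (i₁' := A₁.i') (i₂ := A₂.i) (i₂' := A₂.i')
    (j := M.i) (j' := M.i') f₁.φ f₁.φ'' f₂.φ f₂.φ'' f₁.hi f₁.hi' f₂.hi f₂.hi' A₁.d A₂.d
    (f₁.hd.trans f₂.hd.symm) r r'
    (away_toAlgebra inferInstance _ fun x => rfl) (away_toAlgebra inferInstance _ fun x => rfl)
    (away_swap r r' f₂.φ (liftR_loc _ (isUnit_loc r'))) (away_swap r r' f₂.φ'' (liftR_loc _ (isUnit_loc r')))
    (spA M.c ≫ g) (by rw [spA_comp_assoc, hgη]) hG
  obtain ⟨s, s', hb⟩ : ∃ s s' : R, IsUnit (algebraMap R A (r ^ N * s + r' ^ N * s')) := by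
    let I : Ideal R := Ideal.span {r ^ N, r' ^ N}
    have h1 : IsNilpotent (Ideal.Quotient.mk I (u * r + v * r')) := by
      rw [map_add, map_mul, map_mul]
      refine Commute.isNilpotent_add (Commute.all _ _) ⟨N, ?_⟩ ⟨N, ?_⟩ <;>
      · rw [mul_pow, ← map_pow, ← map_pow, ← map_mul, Ideal.Quotient.eq_zero_iff_mem]
        exact I.mul_mem_left _ (Ideal.subset_span (by simp))
    obtain ⟨K, hK⟩ := h1
    rw [← map_pow, Ideal.Quotient.eq_zero_iff_mem, Ideal.mem_span_pair] at hK
    obtain ⟨s, s', hK⟩ := hK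
    refine ⟨s, s', ?_⟩
    rw [show r ^ N * s + r' ^ N * s' = (u * r + v * r') ^ K by rw [← hK]; ring, map_pow]
    exact hu.pow K
  obtain ⟨g₁, g₂, -, -, hg₁, hg₂, hdec⟩ := hN s s'
  set b := r ^ N * s + r' ^ N * s'
  have hb₁ : IsUnit (algebraMap R (Localization.Away (algebraMap R A r)) b) := isUnit_map (loc r A) hb
  have hb₂ : IsUnit (algebraMap R (Localization.Away (algebraMap R A r')) b) := isUnit_map (loc r' A) hb
  have hB : IsUnit (algebraMap R (Localization.Away (algebraMap R (Localization.Away (algebraMap R A r)) r')) b) :=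
    isUnit_map f₁.φ hb₁
  have hdec' : g = (spA f₁.φ ≫ spA (evb _ b) ≫ g₁) * (spA f₂.φ ≫ spA (evb _ b) ≫ g₂) := by
    have := congrArg (spA (evb _ b) ≫ ·) hdec
    simp only [MonObj.comp_mul, spA_comp_assoc] at this
    rw [← evb_nat f₁.φ b hb₁, ← evb_nat f₂.φ b hb₂] at this
    simp only [spA_comp_assoc]
    rw [← this, show (evb _ b).comp ((scaleA (algebraMap R _ b)).comp M.c) = AlgHom.id R _ from
      AlgHom.ext fun x => (evb_scale b hB (M.c x)).trans (M.hc1 x), spA_id, Category.id_comp]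
  have htw : ∀ {C C'' : Type u} [CommRing C] [CommRing C''] [Algebra R C] [Algebra R C''] (N : Lev a C C'')
      (k : pt R C[X] ⟶ G), IsUnit (algebraMap R C b) →
      Tw (mapAlgHom N.i) (mapAlgHom N.i') (spA (constA C'') ≫ N.d) k → Tw N.i N.i' N.d (spA (evb C b) ≫ k) := by
    intro C C'' _ _ _ _ N k hbC hk
    have := hk.map (evb C b) (evb C'' b) (j := N.i) (j' := N.i') (evb_nat N.i b hbC).symm (evb_nat N.i' b hbC).symm
    rwa [spA_comp_assoc, show (evb (R := R) C'' b).comp (constA C'') = AlgHom.id R C'' from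
      AlgHom.ext fun x => by simp [evb], spA_id, Category.id_comp] at this
  let z₁ := Tors37.gact a (spA (evb _ b) ≫ g₁)⁻¹ x₁
  let z₂ := Tors37.gact a (spA (evb _ b) ≫ g₂) x₂
  have hz₁ : A₁.Twisted z₁ := hx₁.gact (tw_inv (htw A₁ g₁ hb₁ hg₁))
  have hz₂ : A₂.Twisted z₂ := hx₂.gact (htw A₂ g₂ hb₂ hg₂)
  have hagree : spA f₁.φ ≫ z₁ = spA f₂.φ ≫ z₂ := by
    simp only [z₁, z₂, comp_gact, GrpObj.comp_inv]
    rw [← hg, hdec', ← gact_mul, inv_mul_cancel_left]
  have hspan : ∀ {C : Type u} [CommRing C] [Algebra R C], IsUnit (algebraMap R C (u * r + v * r')) →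
      Ideal.span {algebraMap R C r, algebraMap R C r'} = ⊤ := by
    intro C _ _ hC
    refine Ideal.eq_top_of_isUnit_mem _ ?_ hC
    rw [map_add, map_mul, map_mul]
    exact add_mem (Ideal.mul_mem_left _ _ (Ideal.subset_span (by simp)))
      (Ideal.mul_mem_left _ _ (Ideal.subset_span (by simp)))
  have hA := hspan hu
  have hA'' := hspan (isUnit_map L.i hu)
  obtain ⟨z, hzr, hzr'⟩ := exists_glue_away hA
    (B := Localization.Away (algebraMap R (Localization.Away (algebraMap R A r)) r'))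
    (φ := f₂.φ.toRingHom) (RingHom.ext fun x => DFunLike.congr_fun
      (show f₂.φ.comp (loc r' A) = (loc r' (Localization.Away (algebraMap R A r))).comp (loc r A) from liftR_loc _ (isUnit_loc r')) x)
    z₁.left z₂.left (congrArg CommaMorphism.left hagree)
  let x : pt R A ⟶ (Over.map π).obj X := Over.homMk z (glue_ext hA
    (by
      show _ ≫ z ≫ X.hom ≫ π = _ ≫ sm (algebraMap R A)
      rw [reassoc_of% hzr, show z₁.left ≫ X.hom ≫ π = _ from Over.w z₁, ← sm_comp,
        ← IsScalarTower.algebraMap_eq]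
      rfl)
    (by
      show _ ≫ z ≫ X.hom ≫ π = _ ≫ sm (algebraMap R A)
      rw [reassoc_of% hzr', show z₂.left ≫ X.hom ≫ π = _ from Over.w z₂, ← sm_comp,
        ← IsScalarTower.algebraMap_eq]
      rfl))
  have e₁ : spA (loc r A) ≫ x = z₁ := Over.OverMorphism.ext hzr
  have e₂ : spA (loc r' A) ≫ x = z₂ := Over.OverMorphism.ext hzr'
  refine ⟨x, glue_ext hA ?_ ?_, Over.OverMorphism.ext (glue_ext hA'' ?_ ?_)⟩
  · show _ ≫ z ≫ X.hom = _
    rw [reassoc_of% hzr]; exact hz₁.base
  · show _ ≫ z ≫ X.hom = _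
    rw [reassoc_of% hzr']; exact hz₂.base
  · refine congrArg CommaMorphism.left (a₁ := spA (loc r A'') ≫ spA L.i ≫ x)
      (a₂ := spA (loc r A'') ≫ Tors37.gact a L.d (spA L.i' ≫ x)) ?_
    rw [comp_gact, spA_comp_assoc, spA_comp_assoc,
      show (loc r A'').comp L.i = _ from (L.toAway r).hi,
      show (loc r A'').comp L.i' = _ from (L.toAway r).hi']
    rw [← spA_comp_assoc, ← spA_comp_assoc]
    erw [e₁]
    exact hz₁.tw
  · refine congrArg CommaMorphism.left (a₁ := spA (loc r' A'') ≫ spA L.i ≫ x)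
      (a₂ := spA (loc r' A'') ≫ Tors37.gact a L.d (spA L.i' ≫ x)) ?_
    rw [comp_gact, spA_comp_assoc, spA_comp_assoc,
      show (loc r' A'').comp L.i = _ from (L.toAway r').hi,
      show (loc r' A'').comp L.i' = _ from (L.toAway r').hi']
    rw [← spA_comp_assoc, ← spA_comp_assoc]
    erw [e₂]
    exact hz₂.tw

end Groth.Agent.Tors37
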