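import Groth.Agent.H98QP.Milnor
import Mathlib.AlgebraicGeometry.AffineTransitionLimit
import Mathlib.RingTheory.Localization.Away.Basic
import Mathlib.CategoryTheory.Filtered.Basic

/-! Points over a localisation come from points over a basic open. -/

set_option autoImplicit false
universe u

open AlgebraicGeometry CategoryTheory CategoryTheory.Limits

namespace Groth.Agent.Tors37

open H98QP

namespace Spread

variable {E : Type u} [CommRing E] (M : Submonoid E)

/-- The denominators, ordered by divisibility. -/
structure Idx where
  t : E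
  mem : t ∈ M

instance : Preorder (Idx M) where
  le i j := i.t ∣ j.t
  le_refl i := dvd_rfl
  le_trans i j k h h' := h.trans h'

instance : IsDirectedOrder (Idx M) :=
  ⟨fun i j => ⟨⟨i.t * j.t, M.mul_mem i.mem j.mem⟩, dvd_mul_right _ _, dvd_mul_left _ _⟩⟩

instance : Nonempty (Idx M) := ⟨⟨1, M.one_mem⟩⟩

theorem isUnit_of_le {i j : Idx M} (h : i ≤ j) : IsUnit (algebraMap E (Localization.Away j.t) i.t) :=
  isUnit_of_dvd_unit (map_dvd _ h) (IsLocalization.Away.algebraMap_isUnit j.t)

/-- The transition maps. -/
noncomputable def step {i j : Idx M} (h : i ≤ j) : Localization.Away i.t →+* Localization.Away j.t :=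
  IsLocalization.Away.lift i.t (isUnit_of_le M h)

theorem step_comp {i j : Idx M} (h : i ≤ j) :
    (step M h).comp (algebraMap E (Localization.Away i.t)) = algebraMap E (Localization.Away j.t) :=
  IsLocalization.Away.lift_comp _ _

theorem hom_ext' {i : Idx M} {L : Type u} [CommRing L] {f g : Localization.Away i.t →+* L}
    (h : f.comp (algebraMap E _) = g.comp (algebraMap E _)) : f = g :=
  IsLocalization.ringHom_ext (Submonoid.powers i.t) h

/-- The diagram of basic localisations. -/
noncomputable abbrev diag : Idx M ⥤ CommRingCat.{u} where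
  obj i := CommRingCat.of (Localization.Away i.t)
  map f := CommRingCat.ofHom (step M (leOfHom f))
  map_id i := CommRingCat.hom_ext (hom_ext' M (step_comp M (le_refl i)))
  map_comp {i j k} f g := CommRingCat.hom_ext (hom_ext' M (by
    rw [CommRingCat.hom_comp, CommRingCat.hom_ofHom, CommRingCat.hom_ofHom, CommRingCat.hom_ofHom,
      RingHom.comp_assoc, step_comp, step_comp, step_comp]))

variable (L : Type u) [CommRing L] [Algebra E L] [IsLocalization M L]

/-- The map to the localisation. -/
noncomputable def toL (i : Idx M) : Localization.Away i.t →+* L :=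
  IsLocalization.Away.lift i.t (IsLocalization.map_units L (⟨i.t, i.mem⟩ : M))

theorem toL_comp (i : Idx M) : (toL M L i).comp (algebraMap E _) = algebraMap E L :=
  IsLocalization.Away.lift_comp _ _

/-- The cocone on the localisation. -/
noncomputable def cocone : Cocone (diag M) where
  pt := CommRingCat.of L
  ι :=
    { app := fun i => CommRingCat.ofHom (toL M L i)
      naturality := fun i j f => CommRingCat.hom_ext (hom_ext' M (by
        show ((toL M L j).comp (step M (leOfHom f))).comp (algebraMap E _) = (toL M L i).comp (algebraMap E _)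
        rw [RingHom.comp_assoc, step_comp, toL_comp, toL_comp])) }

/-- The localisation is the colimit. -/
noncomputable def isColimit : IsColimit (cocone M L) := by
  have : ReflectsColimit (diag M) (forget CommRingCat.{u}) :=
    reflectsColimit_of_reflectsIsomorphisms _ _
  refine isColimitOfReflects (forget CommRingCat.{u}) ?_
  refine Types.FilteredColimit.isColimitOf' _ _ ?_ ?_
  · intro x
    change L at x
    obtain ⟨⟨a, s⟩, hs⟩ := IsLocalization.surj M x
    let w : Localization.Away (s.1 : E) :=
      algebraMap E (Localization.Away (s.1 : E)) a * IsLocalization.Away.invSelf (s.1 : E)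
    refine ⟨⟨s.1, s.2⟩, w, ?_⟩
    show x = toL M L ⟨s.1, s.2⟩ w
    have hu := IsLocalization.map_units L s
    refine hu.mul_left_injective ?_
    show (x : L) * algebraMap E L s = toL M L _ _ * algebraMap E L s
    rw [hs, ← RingHom.congr_fun (toL_comp M L ⟨s.1, s.2⟩) s.1, RingHom.comp_apply, ← map_mul, mul_assoc,
      mul_comm (IsLocalization.Away.invSelf (s.1 : E)), IsLocalization.Away.mul_invSelf, mul_one,
      ← RingHom.comp_apply, toL_comp]
  · intro i x y h
    change Localization.Away i.t at x y
    obtain ⟨n, a, ha⟩ := IsLocalization.Away.surj i.t x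
    obtain ⟨m, b, hb⟩ := IsLocalization.Away.surj i.t y
    have h' : algebraMap E L (a * i.t ^ m) = algebraMap E L (b * i.t ^ n) := by
      rw [← toL_comp M L i, RingHom.comp_apply, RingHom.comp_apply, map_mul (algebraMap E (Localization.Away i.t)),
        map_mul (algebraMap E (Localization.Away i.t)), ← ha, ← hb]
      simp only [map_mul, map_pow]
      rw [show toL M L i x = toL M L i y from h]
      ring
    obtain ⟨c, hc⟩ := IsLocalization.exists_of_eq (M := M) h'
    let j : Idx M := ⟨i.t * c.1, M.mul_mem i.mem c.2⟩
    have hij : i ≤ j := dvd_mul_right _ _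
    refine ⟨j, homOfLE hij, ?_⟩
    show step M hij x = step M hij y
    have hui := isUnit_of_le M hij
    have huc : IsUnit (algebraMap E (Localization.Away j.t) c.1) :=
      isUnit_of_dvd_unit (map_dvd _ (dvd_mul_left c.1 i.t)) (IsLocalization.Away.algebraMap_isUnit j.t)
    refine ((huc.mul ((hui.pow n).mul (hui.pow m))).mul_left_injective ?_)
    show step M hij x * _ = step M hij y * _
    have e := congrArg (algebraMap E (Localization.Away j.t)) hc
    have ea := congrArg (step M hij) ha
    have eb := congrArg (step M hij) hb
    simp only [map_mul, map_pow] at e ea eb ⊢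
    simp only [← RingHom.comp_apply, step_comp] at ea eb
    linear_combination (algebraMap E (Localization.Away j.t) c.1 * algebraMap E (Localization.Away j.t) i.t ^ m) * ea -
      (algebraMap E (Localization.Away j.t) c.1 * algebraMap E (Localization.Away j.t) i.t ^ n) * eb + e

end Spread

/-- A point over a localisation extends to a basic open. -/
theorem exists_spread_point {E : Type u} [CommRing E] (M : Submonoid E) (L : Type u) [CommRing L] [Algebra E L]
    [IsLocalization M L] {Z : Scheme.{u}} (f : Z ⟶ Spec (CommRingCat.of E)) [LocallyOfFinitePresentation f]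
    (s : Spec (CommRingCat.of L) ⟶ Z) (hs : s ≫ f = sm (algebraMap E L)) :
    ∃ g ∈ M, ∃ k : Spec (CommRingCat.of (Localization.Away g)) ⟶ Z,
      k ≫ f = sm (algebraMap E (Localization.Away g)) := by
  let D : (Spread.Idx M)ᵒᵖ ⥤ Scheme.{u} := (Spread.diag M).op ⋙ Scheme.Spec
  let t : D ⟶ (Functor.const _).obj (Spec (CommRingCat.of E)) :=
    { app := fun n => sm (algebraMap E (Localization.Away n.unop.t))
      naturality := fun i j φ => by
        show Spec.map _ ≫ sm _ = _ ≫ 𝟙 _
        rw [Category.comp_id, sm, ← Spec.map_comp]
        exact congrArg Spec.map (CommRingCat.hom_ext (Spread.step_comp M (leOfHom φ.unop))) }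
  let c : Cone D := Scheme.Spec.mapCone (Spread.cocone M L).op
  have hc : IsLimit c := isLimitOfPreserves Scheme.Spec (Spread.isColimit M L).op
  have : ∀ {i j} (φ : i ⟶ j), IsAffineHom (D.map φ) := fun φ => by
    show IsAffineHom (Spec.map _); infer_instance
  have : ∀ i, CompactSpace (D.obj i) := fun i =>
    inferInstanceAs (CompactSpace (Spec (CommRingCat.of (Localization.Away i.unop.t))))
  have : ∀ i, QuasiSeparatedSpace (D.obj i) := fun i =>
    inferInstanceAs (QuasiSeparatedSpace (Spec (CommRingCat.of (Localization.Away i.unop.t))))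
  obtain ⟨i, g, -, hg⟩ := Scheme.exists_π_app_comp_eq_of_locallyOfFinitePresentation D t f c hc
    (show c.pt ⟶ Z from s) (by
      ext n
      show sm (Spread.toL M L n.unop) ≫ sm _ = s ≫ f
      rw [hs, ← sm_comp, Spread.toL_comp])
  exact ⟨i.unop.t, i.unop.mem, g, hg⟩

end Groth.Agent.Tors37
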