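import Groth.Agent.Tors37.QuillenIdeal
import Groth.Agent.Tors37.SpreadPoint
import Groth.Agent.Sga84.TorsorDesc
import Groth.Agent.Unr55.DescProps

/-! A torsor on a contractible affine base with a section at the origin and sections locally has a section. -/

set_option autoImplicit false
universe u

open AlgebraicGeometry CategoryTheory CategoryTheory.Limits MonoidalCategory CartesianMonoidalCategory
  MonObj GrpObj
open scoped TensorProduct

namespace Groth.Agent.Tors37

open H98QP

theorem locallyOfFinitePresentation_of_isTorsorFor {S : Scheme.{u}} {G X : Over S} [GrpObj G]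
    [LocallyOfFinitePresentation G.hom] {a : AlgGrp.Action G X}
    (h : NonAbH1.IsTorsorFor Scheme.fppfPrecoverage a) : LocallyOfFinitePresentation X.hom := by
  have : MorphismProperty.DescendsAlong @LocallyOfFinitePresentation Groth.Agent.Unr55.fpqc.{u} := by infer_instance
  obtain ⟨hps, C, hC, hsec⟩ := h
  exact Sga84.hom_of_isTorsorFor @LocallyOfFinitePresentation ‹LocallyOfFinitePresentation G.hom›
    ⟨hps, C, Scheme.fppfPrecoverage_le_fpqcPrecoverage _ hC, hsec⟩

variable {R : Type u} [CommRing R] {G : Over (Spec (CommRingCat.of R))} [GrpObj G]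

theorem exists_section_of_local [LocallyOfFinitePresentation G.hom] {E : Type u} [CommRing E] [Algebra R E]
    (ε : E →ₐ[R] R) (cE : E →ₐ[R] Polynomial E) (cE0 : ∀ x, (cE x).eval 0 = algebraMap R E (ε x))
    (cE1 : ∀ x, (cE x).eval 1 = x) {X : Over (Spec (CommRingCat.of E))}
    {a : AlgGrp.Action (Red.bc (sm (algebraMap R E)) G) X}
    (ha : NonAbH1.IsTorsorFor Scheme.fppfPrecoverage a)
    (ρ : Spec (CommRingCat.of R) ⟶ X.left) (hρ : ρ ≫ X.hom = sm ε.toRingHom)
    (hloc : ∀ m : Ideal R, m.IsMaximal → ∃ (M : Submonoid E) (L : Type u) (_ : CommRing L) (_ : Algebra E L),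
      IsLocalization M L ∧ (∀ g ∈ M, ∃ r : R, r ∉ m ∧ algebraMap R E r = g) ∧
      ∃ s : Spec (CommRingCat.of L) ⟶ X.left, s ≫ X.hom = sm (algebraMap E L)) :
    NonAbH1.HasSectionOver X (𝟙 (Spec (CommRingCat.of E))) := by
  let D : Datum a E R :=
    { ε := ε
      cE := cE
      cE0 := cE0
      cE1 := cE1
      σT := Iso.refl _
      hσT := Category.id_comp _
      y0 := Over.homMk ρ (by
        show ρ ≫ X.hom ≫ sm (algebraMap R E) = sm (algebraMap R R)
        rw [reassoc_of% hρ, ← sm_comp]; exact congrArg sm ε.comp_algebraMap)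
      hy0 := by
        show ρ ≫ X.hom = sm ((algebraMap R R).comp ε.toRingHom) ≫ 𝟙 _
        rw [Category.comp_id, hρ]
      ha := ha.1 }
  have hii : D.lev.i = D.lev.i' :=
    Algebra.TensorProduct.ext (AlgHom.ext fun x => RingHom.congr_fun D.i_incl x)
      (AlgHom.ext fun x => ((D.lev.i.comp Algebra.TensorProduct.includeRight).commutes x).trans
        ((D.lev.i'.comp Algebra.TensorProduct.includeRight).commutes x).symm)
  have hd : D.lev.d = 1 := by
    refine gact_inj a ha.1 (x := spA D.lev.i' ≫ D.lev.y) ?_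
    rw [gact_one, ← D.lev.y_tw, hii]
  have : LocallyOfFinitePresentation (Red.bc (sm (algebraMap R E)) G).hom :=
    inferInstanceAs (LocallyOfFinitePresentation (pullback.snd G.hom (sm (algebraMap R E))))
  have := locallyOfFinitePresentation_of_isTorsorFor
    (G := Red.bc (sm (algebraMap R E)) G) (a := a) (by
      exact ha) (S := Spec (CommRingCat.of E))
  have hI : D.ideal = ⊤ := by
    by_contra hne
    obtain ⟨m, hm, hle⟩ := Ideal.exists_le_maximal _ hne
    obtain ⟨M, L, _, _, _, hM, s, hs⟩ := hloc m hm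
    obtain ⟨g, hg, k, hk⟩ := exists_spread_point M L X.hom s hs
    obtain ⟨r, hr, rfl⟩ := hM g hg
    refine hr (hle (show r ∈ D.ideal from ?_))
    let q : Localization.Away (algebraMap R E r) →+* Localization.Away (algebraMap R (E ⊗[R] R) r) :=
      IsLocalization.Away.lift (algebraMap R E r)
        (g := (loc r (E ⊗[R] R)).toRingHom.comp (algebraMap E (E ⊗[R] R))) (by
          show IsUnit (((loc r (E ⊗[R] R)).comp Algebra.TensorProduct.includeLeft) (algebraMap R E r))
          rw [AlgHom.commutes]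
          exact isUnit_loc r)
    have hb : (sm q ≫ k) ≫ X.hom = (D.lev.away r).base := by
      rw [Category.assoc, hk, ← sm_comp, IsLocalization.Away.lift_comp, D.base_away]
      exact (Category.comp_id _).symm
    refine ⟨Over.homMk (sm q ≫ k) (by
      show (sm q ≫ k) ≫ X.hom ≫ sm (algebraMap R E) = sm _
      rw [← Category.assoc, hb]; exact D.hbπ r), hb, ?_⟩
    have hir : (D.lev.away r).i = (D.lev.away r).i' := loc_ext (by simp only [Lev.away, liftR_loc, hii])
    have hdr : (D.lev.away r).d = 1 := by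
      show spA (loc r _) ≫ D.lev.d = 1
      rw [hd, MonObj.comp_one]
    rw [hir, hdr, gact_one]
  obtain ⟨x, hx⟩ : D.Desc 1 := show (1 : R) ∈ D.ideal by rw [hI]; exact Submodule.mem_top
  have hu : IsUnit (algebraMap R (E ⊗[R] R) 1) := by rw [map_one]; exact isUnit_one
  let φ := liftR (AlgHom.id R (E ⊗[R] R)) hu
  let l : E ⊗[R] R →ₐ[R] E := (Algebra.TensorProduct.rid R R E).toAlgHom
  refine ⟨sm l.toRingHom ≫ sm φ.toRingHom ≫ x.left, ?_⟩
  rw [Category.assoc, Category.assoc, hx.base, D.base_away,
    show sm ((loc 1 (E ⊗[R] R)).toRingHom.comp (algebraMap E (E ⊗[R] R))) ≫ D.σT.hom =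
      sm ((loc 1 (E ⊗[R] R)).toRingHom.comp (algebraMap E (E ⊗[R] R))) from Category.comp_id _,
    ← sm_comp, ← sm_comp]
  refine Eq.trans (congrArg sm (RingHom.ext fun e => ?_)) (Spec.map_id _)
  show l (φ.comp (loc 1 (E ⊗[R] R)) (e ⊗ₜ 1)) = e
  rw [liftR_loc]
  simp [l]

end Groth.Agent.Tors37
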