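import Groth.Agent.Tors37.QuillenPatch
import Groth.Agent.Tors37.BC
import Groth.Agent.Sga84.TorsorExact
import Groth.Agent.Torsor99.Basic

/-! Twisted points are the same as descents of a torsor. -/

set_option autoImplicit false
universe u

open AlgebraicGeometry CategoryTheory CategoryTheory.Limits MonoidalCategory CartesianMonoidalCategory
  MonObj GrpObj

namespace Groth.Agent.Tors37

open H98QP

theorem equivIso_inv_comm {S : Scheme.{u}} {G X Y : Over S} [GrpObj G] {a : AlgGrp.Action G X}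
    {a' : AlgGrp.Action G Y} (e : NonAbH1.EquivIso a a') : AlgGrp.Action.IsEquivariant a' a e.iso.inv := by
  show a'.act ≫ e.iso.inv = (G ◁ e.iso.inv) ≫ a.act
  rw [Iso.comp_inv_eq, Category.assoc, e.comm, ← MonoidalCategory.whiskerLeft_comp_assoc, Iso.inv_hom_id,
    MonoidalCategory.whiskerLeft_id, Category.id_comp]

theorem pullPr_gact {S T T' : Scheme.{u}} {h : T ⟶ S} {G : Over S} [GrpObj G] {X : Over T}
    (a : AlgGrp.Action (Red.bc h G) X) (w : T' ⟶ T) {k : T' ⟶ S} (hw : w ≫ h = k) {V : Over T'}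
    (ξ : V ⟶ Red.bc k G) (x : V ⟶ Red.bc w X) :
    (Over.map k).map (Sga84.actPt ((a.bc w).restrict (ActBC.bcCompIso w h G hw).inv) ξ x) ≫ pullPr w hw X =
      gact a (((Over.mapPullbackAdj k).homEquiv V G).symm ξ) ((Over.map k).map x ≫ pullPr w hw X) := by
  rw [← gact_pullPr, gact_map, Equiv.apply_symm_apply]

variable {R : Type u} [CommRing R] {G : Over (Spec (CommRingCat.of R))} [GrpObj G]
  {T : Scheme.{u}} {π : T ⟶ Spec (CommRingCat.of R)} {X : Over T} {a : AlgGrp.Action (Red.bc π G) X}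
  {A A'' : Type u} [CommRing A] [CommRing A''] [Algebra R A] [Algebra R A''] (L : Lev a A A'')
  {S' : Scheme.{u}} (j : S' ⟶ Spec (CommRingCat.of R)) (k : Spec (CommRingCat.of A) ⟶ pullback π j)

theorem sm_algHom {B : Type u} [CommRing B] [Algebra R B] (φ : A →ₐ[R] B) :
    sm φ.toRingHom ≫ sm (algebraMap R A) = sm (algebraMap R B) := by
  rw [← sm_comp]; exact congrArg sm φ.comp_algebraMap

/-- A descent of the torsor gives a twisted point. -/
theorem Lev.exists_twisted_of_descent [Mono j] (hk : k ≫ pullback.fst π j = L.base)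
    (hbπ : L.base ≫ π = sm (algebraMap R A)) {P : Over S'} (aP : AlgGrp.Action (Red.bc j G) P)
    (e : NonAbH1.EquivIso
      ((aP.bc (pullback.snd π j)).restrict (ActBC.bcCompIso (pullback.snd π j) j G rfl).inv)
      ((a.bc (pullback.fst π j)).restrict (ActBC.bcCompIso (pullback.fst π j) π G pullback.condition).inv)) :
    ∃ x, L.Twisted x := by
  let f1 := pullback.fst π j
  let f2 := pullback.snd π j
  have hj : k ≫ f2 ≫ j = sm (algebraMap R A) := by
    rw [← pullback.condition, reassoc_of% hk, hbπ]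
  have hη : sm L.η.toRingHom ≫ k ≫ f2 = k ≫ f2 := by
    rw [← cancel_mono j]
    simp only [Category.assoc]
    rw [hj, sm_algHom]
  have hkk : sm L.i.toRingHom ≫ k = sm L.i'.toRingHom ≫ k := by
    refine pullback.hom_ext ?_ ?_
    · simp only [Category.assoc, hk]
      exact L.base_eq
    · rw [← cancel_mono j]
      simp only [Category.assoc]
      rw [hj, sm_algHom, sm_algHom]
  have hb0 : L.y.left ≫ X.hom = (sm L.η.toRingHom ≫ k) ≫ f1 := by
    rw [Category.assoc, hk]; exact L.y_base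
  let x0 := pullLift f1 (k := f2 ≫ j) pullback.condition L.y (sm L.η.toRingHom ≫ k) hb0
  have hx0 : spA L.i ≫ x0 =
      Tors37.gact ((a.bc f1).restrict (ActBC.bcCompIso f1 π G pullback.condition).inv) L.d (spA L.i' ≫ x0) := by
    refine pull_ext f1 (k := f2 ≫ j) pullback.condition ?_ ?_
    · rw [gact_pullPr, Category.assoc, Category.assoc, pullLift_pullPr]
      exact L.y_tw
    · rw [gact_base, Over.comp_left, Over.comp_left, spA_left, spA_left, Category.assoc, Category.assoc,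
        pullLift_base, ← Category.assoc, ← Category.assoc, sm_spA_comp, sm_spA_comp,
        ← (L.η''_i).1, ← (L.η''_i).2, ← sm_spA_comp, ← sm_spA_comp, Category.assoc, Category.assoc, hkk]
      simp only [← sm_spA_comp, Category.assoc]
  let σ : pt R A ⟶ (Over.map j).obj P := (x0 ≫ (Over.map (f2 ≫ j)).map e.iso.inv) ≫ pullPr f2 rfl P
  have hσ : spA L.i ≫ σ = Tors37.gact aP L.d (spA L.i' ≫ σ) := by
    simp only [σ]
    rw [← Category.assoc (spA L.i), ← Category.assoc (spA L.i), hx0, gact_equivariant _ (equivIso_inv_comm e),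
      gact_pullPr, Category.assoc, Category.assoc, Category.assoc]
  have hσb : σ.left ≫ P.hom = k ≫ f2 := by
    refine (pullPr_base f2 rfl (x0 ≫ (Over.map (f2 ≫ j)).map e.iso.inv)).trans ?_
    rw [Over.comp_left, Over.map_map_left, Category.assoc, Category.assoc, Over.w_assoc, ← Category.assoc,
      pullLift_base, Category.assoc, hη]
  let x := (pullLift f2 (k := f2 ≫ j) rfl σ k hσb ≫ (Over.map (f2 ≫ j)).map e.iso.hom) ≫
    pullPr f1 (k := f2 ≫ j) pullback.condition X
  refine ⟨x, ?_, ?_⟩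
  · refine (pullPr_base f1 pullback.condition (pullLift f2 (k := f2 ≫ j) rfl σ k hσb ≫
      (Over.map (f2 ≫ j)).map e.iso.hom)).trans ?_
    rw [Over.comp_left, Over.map_map_left, Category.assoc, Category.assoc, Over.w_assoc, ← Category.assoc,
      pullLift_base, hk]
  · have hlift : spA L.i ≫ pullLift f2 (k := f2 ≫ j) rfl σ k hσb =
        Tors37.gact ((aP.bc f2).restrict (ActBC.bcCompIso f2 j G rfl).inv) L.d
          (spA L.i' ≫ pullLift f2 (k := f2 ≫ j) rfl σ k hσb) := by
      refine pull_ext f2 (k := f2 ≫ j) rfl ?_ ?_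
      · rw [gact_pullPr, Category.assoc, Category.assoc, pullLift_pullPr]
        exact hσ
      · rw [gact_base, Over.comp_left, Over.comp_left, spA_left, spA_left, Category.assoc, Category.assoc,
          pullLift_base, hkk]
    simp only [x]
    rw [← Category.assoc (spA L.i), ← Category.assoc (spA L.i), hlift, gact_equivariant _ e.comm, gact_pullPr,
      Category.assoc, Category.assoc, Category.assoc]

/-- A twisted point gives a descent of the torsor. -/
theorem Lev.exists_descent_of_twisted (ha : NonAbH1.IsTorsorFor Scheme.fppfPrecoverage a)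
    {x : pt R A ⟶ (Over.map π).obj X} (hx : L.Twisted x) (hk : k ≫ pullback.fst π j = L.base)
    (z : Spec (CommRingCat.of R) ⟶ T) (hz : z ≫ π = 𝟙 _)
    (hyz : sm (algebraMap R A) ≫ z = sm L.η.toRingHom ≫ L.base)
    (hcov : NonAbH1.IsLocallyTrivialFor Scheme.fpqcPrecoverage (Over.mk k))
    (hpairs : ∀ (Z : Scheme.{u}) (m m' : Z ⟶ Spec (CommRingCat.of A)), m ≫ k = m' ≫ k →
      ∃ m'' : Z ⟶ Spec (CommRingCat.of A''), m'' ≫ sm L.i.toRingHom = m ∧ m'' ≫ sm L.i'.toRingHom = m') :
    ∃ P : NonAbH1.TorsorSch (Red.bc j G) Scheme.fppfPrecoverage,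
      Nonempty (NonAbH1.EquivIso
        ((P.act.bc (pullback.snd π j)).restrict (ActBC.bcCompIso (pullback.snd π j) j G rfl).inv)
        ((a.bc (pullback.fst π j)).restrict
          (ActBC.bcCompIso (pullback.fst π j) π G pullback.condition).inv)) := by
  have hzj : (j ≫ z) ≫ π = j := by rw [Category.assoc, hz, Category.comp_id]
  let f1 := pullback.fst π j
  let f2 := pullback.snd π j
  let k0 := f2 ≫ j
  let aS := (a.bc (j ≫ z)).restrict (ActBC.bcCompIso (j ≫ z) π G hzj).inv
  have haS : NonAbH1.IsTorsorFor Scheme.fppfPrecoverage aS :=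
    isTorsorFor_restrict _ (NonAbH1.isTorsorFor_bc _ _ ha)
  refine ⟨⟨_, aS, haS⟩, ?_⟩
  let aP := (aS.bc f2).restrict (ActBC.bcCompIso f2 j G rfl).inv
  let aX := (a.bc f1).restrict (ActBC.bcCompIso f1 π G pullback.condition).inv
  show Nonempty (NonAbH1.EquivIso aP aX)
  have haP : NonAbH1.IsTorsorFor Scheme.fppfPrecoverage aP :=
    isTorsorFor_restrict _ (NonAbH1.isTorsorFor_bc _ _ haS)
  have haX : NonAbH1.IsTorsorFor Scheme.fppfPrecoverage aX :=
    isTorsorFor_restrict _ (NonAbH1.isTorsorFor_bc _ _ ha)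
  have hbπ : L.base ≫ π = sm (algebraMap R A) := by
    rw [← hx.base, Category.assoc]; exact Over.w x
  have hkj : k ≫ f2 ≫ j = sm (algebraMap R A) := by
    rw [← pullback.condition, reassoc_of% hk, hbπ]
  let PW : Over (pullback π j) := Red.bc f2 (Red.bc (j ≫ z) X)
  let XW : Over (pullback π j) := Red.bc f1 X
  let prP : ∀ {Z : Over (pullback π j)}, (Z ⟶ PW) → ((Over.map k0).obj Z ⟶ (Over.map π).obj X) := fun {Z} t =>
    ((Over.map k0).map t ≫ pullPr f2 (k := k0) rfl (Red.bc (j ≫ z) X)) ≫ pullPr (j ≫ z) hzj X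
  let prX : ∀ {Z : Over (pullback π j)}, (Z ⟶ XW) → ((Over.map k0).obj Z ⟶ (Over.map π).obj X) := fun {Z} t =>
    (Over.map k0).map t ≫ pullPr f1 (k := k0) pullback.condition X
  let mq : ∀ {Z : Over (pullback π j)}, (Z ⟶ Over.mk k) → ((Over.map k0).obj Z ⟶ pt R A) := fun {Z} q =>
    Over.homMk q.left (by
      show q.left ≫ sm (algebraMap R A) = Z.hom ≫ f2 ≫ j
      rw [← hkj, ← Category.assoc, show q.left ≫ k = Z.hom from Over.w q])
  let rel : ∀ Z : Over (pullback π j), (Z ⟶ PW) → (Z ⟶ XW) → Prop := fun Z t y =>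
    ∀ (Z' : Over (pullback π j)) (c : Z' ⟶ Z) (q : Z' ⟶ Over.mk k) (g : (Over.map k0).obj Z' ⟶ G),
      Tors37.gact a g (mq q ≫ L.y) = prP (c ≫ t) → prX (c ≫ y) = Tors37.gact a g (mq q ≫ x)
  have prP_comp : ∀ {Z Z' : Over (pullback π j)} (c : Z' ⟶ Z) (t : Z ⟶ PW),
      prP (c ≫ t) = (Over.map k0).map c ≫ prP t := fun c t => by
    simp only [prP, Functor.map_comp, Category.assoc]
  have prX_comp : ∀ {Z Z' : Over (pullback π j)} (c : Z' ⟶ Z) (t : Z ⟶ XW),
      prX (c ≫ t) = (Over.map k0).map c ≫ prX t := fun c t => by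
    simp only [prX, Functor.map_comp, Category.assoc]
  have mq_comp : ∀ {Z Z' : Over (pullback π j)} (c : Z' ⟶ Z) (q : Z ⟶ Over.mk k),
      mq (c ≫ q) = (Over.map k0).map c ≫ mq q := fun c q => Over.OverMorphism.ext rfl
  have hnat : ∀ (Z Z' : Over (pullback π j)) (c : Z' ⟶ Z) (t : Z ⟶ PW) (y : Z ⟶ XW),
      rel Z t y → rel Z' (c ≫ t) (c ≫ y) := by
    intro Z Z' c t y h Z'' c' q g hg
    rw [← Category.assoc]
    exact h Z'' (c' ≫ c) q g (by rw [Category.assoc]; exact hg)
  have hexY : ∀ {Z : Over (pullback π j)} (t : Z ⟶ PW) (q : Z ⟶ Over.mk k),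
      (mq q ≫ L.y).left ≫ X.hom = (prP t).left ≫ X.hom := by
    intro Z t q
    rw [Over.comp_left, Category.assoc, L.y_base, ← hyz]
    refine Eq.trans ?_ (pullPr_base (j ≫ z) hzj ((Over.map k0).map t ≫ pullPr f2 rfl (Red.bc (j ≫ z) X))).symm
    refine Eq.trans ?_ (congrArg (· ≫ (j ≫ z)) (pullPr_base f2 rfl ((Over.map k0).map t)).symm)
    rw [Over.map_map_left, show t.left ≫ (Red.bc f2 (Red.bc (j ≫ z) X)).hom = Z.hom from Over.w t,
      ← hkj, show (mq q).left = q.left from rfl, ← show q.left ≫ k = Z.hom from Over.w q]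
    simp only [Category.assoc]
  have huniq : ∀ (Z : Over (pullback π j)) (t : Z ⟶ PW), (Z ⟶ Over.mk k) → ∃! y, rel Z t y := by
    intro Z t q₀
    obtain ⟨g₀, hg₀, -⟩ := existsUnique_gact a ha.1 _ _ (hexY t q₀)
    let v := Tors37.gact a g₀ (mq q₀ ≫ x)
    have hv : v.left ≫ X.hom = Z.hom ≫ f1 := by
      rw [gact_base, Over.comp_left, Category.assoc, hx.base, ← hk, ← Category.assoc]
      exact congrArg (· ≫ f1) (Over.w q₀)
    let y₀ : Z ⟶ XW := Over.homMk (pullback.lift v.left Z.hom hv) (pullback.lift_snd _ _ _)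
    have hy₀ : prX y₀ = v := Over.OverMorphism.ext (pullback.lift_fst _ _ _)
    refine ⟨y₀, ?_, fun y hy => ?_⟩
    · intro Z' c q g hg
      obtain ⟨m'', h1, h2⟩ := hpairs Z'.left (c ≫ q₀).left q.left ((Over.w (c ≫ q₀)).trans (Over.w q).symm)
      let M : (Over.map k0).obj Z' ⟶ pt R A'' := Over.homMk m'' (by
        show m'' ≫ sm (algebraMap R A'') = Z'.hom ≫ f2 ≫ j
        rw [← sm_algHom L.i, reassoc_of% h1, ← hkj, ← Category.assoc]
        exact congrArg (· ≫ f2 ≫ j) (Over.w (c ≫ q₀)))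
      have M1 : M ≫ spA L.i = mq (c ≫ q₀) := Over.OverMorphism.ext h1
      have M2 : M ≫ spA L.i' = mq q := Over.OverMorphism.ext h2
      have hY : (Over.map k0).map c ≫ mq q₀ ≫ L.y = Tors37.gact a (M ≫ L.d) (mq q ≫ L.y) := by
        rw [← Category.assoc, ← mq_comp, ← M1, ← M2, Category.assoc, L.y_tw, comp_gact, Category.assoc]
      have hX : (Over.map k0).map c ≫ mq q₀ ≫ x = Tors37.gact a (M ≫ L.d) (mq q ≫ x) := by
        rw [← Category.assoc, ← mq_comp, ← M1, ← M2, Category.assoc, hx.tw, comp_gact, Category.assoc]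
      have hg' : g = ((Over.map k0).map c ≫ g₀) * (M ≫ L.d) := by
        refine gact_inj a ha.1 (x := mq q ≫ L.y) ?_
        rw [hg, gact_mul, ← hY, ← comp_gact, hg₀, prP_comp]
      rw [prX_comp, hy₀, comp_gact, hX, ← gact_mul, hg']
    · have h := hy Z (𝟙 Z) q₀ g₀ (by rw [Category.id_comp]; exact hg₀)
      rw [Category.id_comp] at h
      refine Over.OverMorphism.ext (pullback.hom_ext ?_ ?_)
      · exact (congrArg CommaMorphism.left h).trans (pullback.lift_fst _ _ _).symm
      · exact (Over.w y).trans (Over.w y₀).symm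
  obtain ⟨F, hF⟩ := Sga84.exists_glue hcov rel hnat huniq
  have hFe : AlgGrp.Action.IsEquivariant aP aX F := by
    refine Sga84.hom_ext_of_point hcov fun Z c q => ?_
    let t : Z ⟶ PW := c ≫ snd _ _
    let ξ : Z ⟶ Red.bc k0 G := c ≫ fst _ _
    have ht : ∀ u : Z ⟶ PW, ∀ g, Tors37.gact a g (mq q ≫ L.y) = prP u →
        prX (u ≫ F) = Tors37.gact a g (mq q ≫ x) := fun u g h => by
      simpa only [Category.id_comp] using hF Z u q Z (𝟙 Z) q g (by simpa only [Category.id_comp] using h)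
    obtain ⟨g₀, hg₀, -⟩ := existsUnique_gact a ha.1 _ _ (hexY t q)
    let ξ' := ((Over.mapPullbackAdj k0).homEquiv Z G).symm ξ
    have e1 : c ≫ aP.act = Sga84.actPt aP ξ t := by
      simp [Sga84.actPt, t, ξ, ← comp_lift_assoc]
    have e2 : c ≫ (Red.bc k0 G ◁ F) ≫ aX.act = Sga84.actPt aX ξ (t ≫ F) := by
      rw [← Category.assoc]
      congr 1
      refine CartesianMonoidalCategory.hom_ext _ _ ?_ ?_
      · simp only [Category.assoc, whiskerLeft_fst, ξ]
        exact (lift_fst _ _).symm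
      · simp only [Category.assoc, whiskerLeft_snd, t]
        exact (lift_snd _ _).symm
    rw [← Category.assoc, e1, e2]
    have hPa : prP (Sga84.actPt aP ξ t) = Tors37.gact a ξ' (prP t) := by
      simp only [prP]
      rw [pullPr_gact, gact_pullPr]
    have hXa : prX (Sga84.actPt aX ξ (t ≫ F)) = Tors37.gact a ξ' (prX (t ≫ F)) := pullPr_gact a f1 _ ξ (t ≫ F)
    refine Over.OverMorphism.ext (pullback.hom_ext ?_ ((Over.w _).trans (Over.w _).symm))
    refine congrArg CommaMorphism.left (a₁ := prX (Sga84.actPt aP ξ t ≫ F))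
      (a₂ := prX (Sga84.actPt aX ξ (t ≫ F))) ?_
    rw [ht _ (ξ' * g₀) (by rw [gact_mul, hg₀, hPa]), hXa, ht t g₀ hg₀, gact_mul]
  have haP' : NonAbH1.IsTorsorFor Scheme.fpqcPrecoverage aP :=
    ⟨haP.1, by
      obtain ⟨C, hC, hsec⟩ := haP.2
      exact ⟨C, Scheme.fppfPrecoverage_le_fpqcPrecoverage _ hC, hsec⟩⟩
  have := Torsor99.isIso_of_equivariant haP' haX.1 F hFe
  exact ⟨⟨asIso F, hFe⟩⟩

end Groth.Agent.Tors37
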