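import Mathlib.RingTheory.Valuation.ValuationRing
import Mathlib.RingTheory.Localization.FractionRing
import Mathlib.RingTheory.Spectrum.Maximal.Basic
import Mathlib.FieldTheory.Galois.Basic
import Mathlib.LinearAlgebra.FreeModule.PID
import Mathlib.LinearAlgebra.Dimension.RankNullity
import Mathlib.RingTheory.Ideal.Operations
import Mathlib.GroupTheory.QuotientGroup.Basic

/-! Divisors of an unramified semi-local extension of a valuation ring, and the lifting of equivariant
homomorphisms into divisors to equivariant homomorphisms into units of the fraction field. -/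

set_option autoImplicit false
set_option linter.style.haveILetI false

namespace Groth.Agent.Tors37.ValLift

universe u

variable (V K : Type u) [CommRing V] [IsDomain V] [ValuationRing V] [Field K] [Algebra V K]

/-- The image of the units of the valuation ring. -/
def unitsV : Subgroup Kˣ := (Units.map (algebraMap V K).toMonoidHom).range

/-- The value group, multiplicatively. -/
def Val := Kˣ ⧸ unitsV V K

noncomputable instance : CommGroup (Val V K) := inferInstanceAs (CommGroup (Kˣ ⧸ unitsV V K))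

/-- The quotient map to the value group. -/
noncomputable def mk : Kˣ →* Val V K := QuotientGroup.mk' (unitsV V K)

theorem mk_eq_one_iff {x : Kˣ} : mk V K x = 1 ↔ x ∈ unitsV V K := QuotientGroup.eq_one_iff x

theorem mk_eq_mk_iff {x y : Kˣ} : mk V K x = mk V K y ↔ x⁻¹ * y ∈ unitsV V K := QuotientGroup.eq

theorem mk_surjective : Function.Surjective (mk V K) := QuotientGroup.mk'_surjective _

variable {V K} [IsFractionRing V K]

omit [IsDomain V] in
theorem algebraMap_inj : Function.Injective (algebraMap V K) := IsFractionRing.injective V K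

/-- An element or its inverse lies in the valuation ring. -/
theorem mem_or_inv (x : Kˣ) : ∃ c : V, c ≠ 0 ∧ (algebraMap V K c = x ∨ algebraMap V K c = (x⁻¹ : Kˣ)) := by
  obtain ⟨a, b, hb, h⟩ := IsFractionRing.div_surjective V (x : K)
  have hb' : algebraMap V K b ≠ 0 := (map_ne_zero_iff _ algebraMap_inj).2 (nonZeroDivisors.ne_zero hb)
  have ha' : algebraMap V K a ≠ 0 := fun h0 => x.ne_zero (by rw [← h, h0, zero_div])
  rcases ValuationRing.dvd_total a b with ⟨d, rfl⟩ | ⟨d, rfl⟩
  · refine ⟨d, fun h0 => hb' (by rw [h0, mul_zero, map_zero]), Or.inr ?_⟩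
    rw [Units.val_inv_eq_inv_val, ← h, map_mul, inv_div, mul_div_cancel_left₀ _ ha']
  · refine ⟨d, fun h0 => ha' (by rw [h0, mul_zero, map_zero]), Or.inl ?_⟩
    rw [← h, map_mul, mul_div_cancel_left₀ _ hb']

/-- The class of a non-zero element of the valuation ring. -/
noncomputable def cls (c : V) (hc : c ≠ 0) : Val V K :=
  mk V K (Units.mk0 (algebraMap V K c) ((map_ne_zero_iff _ algebraMap_inj).2 hc))

theorem exists_cls (δ : Val V K) : ∃ (c : V) (hc : c ≠ 0), δ = cls c hc ∨ δ = (cls c hc)⁻¹ := by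
  obtain ⟨x, rfl⟩ := mk_surjective V K δ
  obtain ⟨c, hc, h | h⟩ := mem_or_inv (V := V) x
  · exact ⟨c, hc, Or.inl (congrArg (mk V K) (Units.ext h.symm))⟩
  · refine ⟨c, hc, Or.inr ?_⟩
    rw [cls, ← map_inv]
    refine congrArg (mk V K) ?_
    rw [← inv_inv x]
    exact congrArg Inv.inv (Units.ext h.symm)

theorem cls_mul (a b : V) (ha : a ≠ 0) (hb : b ≠ 0) :
    cls (K := K) (a * b) (mul_ne_zero ha hb) = cls a ha * cls b hb := by
  rw [cls, cls, cls, ← map_mul]
  exact congrArg (mk V K) (Units.ext (map_mul _ _ _))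

theorem cls_eq_one_iff (c : V) (hc : c ≠ 0) : cls (K := K) c hc = 1 ↔ IsUnit c := by
  rw [cls, mk_eq_one_iff]
  constructor
  · rintro ⟨u, hu⟩
    exact algebraMap_inj (congrArg Units.val hu) ▸ u.isUnit
  · intro h
    exact ⟨h.unit, Units.ext rfl⟩

/-- The classes of the units of the localisation at a prime. -/
noncomputable def unitsAt (p : Ideal V) [p.IsPrime] : Subgroup (Val V K) where
  carrier := {δ | ∃ a b : V, a ∉ p ∧ b ∉ p ∧ ∃ ha hb, δ = cls a ha / cls b hb}
  one_mem' := ⟨1, 1, p.one_notMem, p.one_notMem, one_ne_zero, one_ne_zero, (div_self' _).symm⟩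
  mul_mem' := by
    rintro _ _ ⟨a, b, ha, hb, ha0, hb0, rfl⟩ ⟨a', b', ha', hb', ha0', hb0', rfl⟩
    refine ⟨a * a', b * b', fun h => ?_, fun h => ?_, mul_ne_zero ha0 ha0', mul_ne_zero hb0 hb0', ?_⟩
    · exact (‹p.IsPrime›.mem_or_mem h).elim ha ha'
    · exact (‹p.IsPrime›.mem_or_mem h).elim hb hb'
    · rw [cls_mul, cls_mul, div_mul_div_comm]
  inv_mem' := by
    rintro _ ⟨a, b, ha, hb, ha0, hb0, rfl⟩
    exact ⟨b, a, hb, ha, hb0, ha0, inv_div _ _⟩

theorem cls_mem_unitsAt_iff (p : Ideal V) [p.IsPrime] (c : V) (hc : c ≠ 0) :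
    cls (K := K) c hc ∈ unitsAt p ↔ c ∉ p := by
  constructor
  · rintro ⟨a, b, ha, hb, ha0, hb0, h⟩ hcp
    rw [eq_div_iff_mul_eq', ← cls_mul, cls, cls, mk_eq_mk_iff] at h
    obtain ⟨u, hu⟩ := h
    have h1 : algebraMap V K (c * b) * algebraMap V K (u : V) = algebraMap V K a := by
      have := congrArg Units.val hu
      simp only [Units.val_mul, Units.val_inv_eq_inv_val, Units.val_mk0] at this
      have hne : algebraMap V K (c * b) ≠ 0 := (map_ne_zero_iff _ algebraMap_inj).2 (mul_ne_zero hc hb0)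
      rw [eq_comm, inv_mul_eq_iff_eq_mul₀ hne] at this
      exact this.symm
    rw [← map_mul] at h1
    exact ha (algebraMap_inj h1 ▸ p.mul_mem_right _ (p.mul_mem_right _ hcp))
  · intro h
    refine ⟨c, 1, h, p.one_notMem, hc, one_ne_zero, ?_⟩
    rw [(cls_eq_one_iff (K := K) 1 one_ne_zero).2 isUnit_one, div_one]

theorem pow_mem_unitsAt (p : Ideal V) [p.IsPrime] {δ : Val V K} {n : ℕ} (hn : n ≠ 0) (h : δ ^ n ∈ unitsAt p) :
    δ ∈ unitsAt p := by
  have hpow : ∀ (c : V) (hc : c ≠ 0) (m : ℕ), cls (K := K) c hc ^ m = cls (c ^ m) (pow_ne_zero _ hc) := by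
    intro c hc m
    induction m with
    | zero => simp only [pow_zero]; exact ((cls_eq_one_iff 1 one_ne_zero).2 isUnit_one).symm
    | succ m ih => simp only [pow_succ]; rw [ih, ← cls_mul]
  obtain ⟨c, hc, rfl | rfl⟩ := exists_cls δ
  · rw [hpow, cls_mem_unitsAt_iff] at h
    rw [cls_mem_unitsAt_iff]
    exact fun hc' => h (Ideal.pow_mem_of_mem p hc' n (Nat.pos_of_ne_zero hn))
  · have h' : cls (K := K) c hc ^ n ∈ unitsAt p := (inv_pow (cls (K := K) c hc) n ▸ h : _) |> fun h1 => by
      have := (unitsAt p).inv_mem h1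
      rwa [inv_inv] at this
    rw [hpow, cls_mem_unitsAt_iff] at h'
    refine (unitsAt p).inv_mem ?_
    rw [cls_mem_unitsAt_iff]
    revert h'; intro h
    exact fun hc' => h (Ideal.pow_mem_of_mem p hc' n (Nat.pos_of_ne_zero hn))

omit [Algebra V K] [IsFractionRing V K] in
/-- Radical ideals of a valuation ring are prime. -/
theorem isPrime_radical (I : Ideal V) (hI : I ≠ ⊤) : I.radical.IsPrime := by
  refine ⟨fun h => hI (Ideal.radical_eq_top.1 h), fun {a b} hab => ?_⟩
  obtain ⟨n, hn⟩ := hab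
  rw [mul_pow] at hn
  rcases ValuationRing.dvd_total (a ^ n) (b ^ n) with ⟨d, hd⟩ | ⟨d, hd⟩
  · refine Or.inr ⟨n + n, ?_⟩
    rw [pow_add]
    nth_rw 1 [hd]
    rw [mul_right_comm]
    exact I.mul_mem_right _ hn
  · refine Or.inl ⟨n + n, ?_⟩
    rw [pow_add]
    nth_rw 2 [hd]
    rw [← mul_assoc]
    exact I.mul_mem_right _ hn

section ext

variable {L : Type u} [Field L] [Algebra K L] [Algebra V L] [IsScalarTower V K L]

/-- An unramified semi-local extension inside a finite extension field. -/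
structure Unram (S : Subalgebra V L) : Prop where
  finite_max : Finite (MaximalSpectrum S)
  mem_max : ∀ (m : MaximalSpectrum S) (a : V), ¬ IsUnit a → algebraMap V S a ∈ m.asIdeal
  local_form : ∀ (m : MaximalSpectrum S) (x : Lˣ), ∃ (c : Kˣ) (a b : S), a ∉ m.asIdeal ∧ b ∉ m.asIdeal ∧
    (x : L) * b = algebraMap K L c * a

variable {S : Subalgebra V L} (hS : Unram (K := K) S)

include hS

theorem eq_of_local_form {m : MaximalSpectrum S} {c c' : Kˣ} {x : Lˣ} {a b a' b' : S}
    (ha : a ∉ m.asIdeal) (hb : b ∉ m.asIdeal) (ha' : a' ∉ m.asIdeal) (hb' : b' ∉ m.asIdeal)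
    (h : (x : L) * b = algebraMap K L c * a) (h' : (x : L) * b' = algebraMap K L c' * a') :
    mk V K c = mk V K c' := by
  have key : algebraMap K L (c * c'⁻¹ : Kˣ) * (a * b' : S) = ((a' * b : S) : L) := by
    rw [Subalgebra.coe_mul, Subalgebra.coe_mul, Units.val_mul, map_mul, Units.val_inv_eq_inv_val, map_inv₀]
    have hc' : algebraMap K L c' ≠ 0 := (map_ne_zero _).2 c'.ne_zero
    field_simp
    linear_combination (-(b' : L)) * h + (b : L) * h'
  suffices hu : ∀ (r : Kˣ) (d : V) (s t : S), s ∉ m.asIdeal → t ∉ m.asIdeal → algebraMap V K d = r →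
      algebraMap K L r * (s : L) = t → IsUnit d by
    obtain ⟨d, hd0, hd | hd⟩ := mem_or_inv (V := V) (c * c'⁻¹)
    · have := hu _ d _ _ (fun hm => (m.isMaximal.isPrime.mem_or_mem hm).elim ha hb')
        (fun hm => (m.isMaximal.isPrime.mem_or_mem hm).elim ha' hb) hd key
      rw [mk_eq_mk_iff]
      refine ⟨this.unit⁻¹, Units.ext ?_⟩
      have h1 : Units.map (algebraMap V K).toMonoidHom this.unit = c * c'⁻¹ := Units.ext hd
      rw [map_inv, h1, mul_inv_rev, inv_inv, mul_comm]
    · have key' : algebraMap K L ((c * c'⁻¹)⁻¹ : Kˣ) * ((a' * b : S) : L) = ((a * b' : S) : L) := by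
        rw [← key, ← mul_assoc, ← map_mul, Units.inv_mul, map_one, one_mul]
      have := hu _ d _ _ (fun hm => (m.isMaximal.isPrime.mem_or_mem hm).elim ha' hb)
        (fun hm => (m.isMaximal.isPrime.mem_or_mem hm).elim ha hb') hd key'
      rw [mk_eq_mk_iff]
      refine ⟨this.unit, Units.ext ?_⟩
      have h1 : Units.map (algebraMap V K).toMonoidHom this.unit = (c * c'⁻¹)⁻¹ := Units.ext hd
      rw [h1, mul_inv_rev, inv_inv, mul_comm]
  intro r d s t hs ht hd he
  by_contra hdu
  refine ht ?_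
  have : t = algebraMap V S d * s := Subtype.ext (by
    rw [← he, ← hd, ← IsScalarTower.algebraMap_apply]
    rfl)
  rw [this]
  exact m.asIdeal.mul_mem_right _ (hS.mem_max m d hdu)

/-- The value at a maximal ideal. -/
noncomputable def val (m : MaximalSpectrum S) : Lˣ →* Val V K :=
  MonoidHom.mk' (fun x => mk V K (hS.local_form m x).choose) fun x y => by
    obtain ⟨a, b, ha, hb, h⟩ := (hS.local_form m x).choose_spec
    obtain ⟨a', b', ha', hb', h'⟩ := (hS.local_form m y).choose_spec
    obtain ⟨a'', b'', ha'', hb'', h''⟩ := (hS.local_form m (x * y)).choose_spec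
    rw [← map_mul]
    refine eq_of_local_form hS ha'' hb'' (fun hm => (m.isMaximal.isPrime.mem_or_mem hm).elim ha ha')
      (fun hm => (m.isMaximal.isPrime.mem_or_mem hm).elim hb hb') h'' ?_
    rw [Subalgebra.coe_mul, Subalgebra.coe_mul, Units.val_mul, Units.val_mul, map_mul]
    linear_combination ((y : L) * b') * h + (algebraMap K L (hS.local_form m x).choose * (a : L)) * h'

theorem val_eq {m : MaximalSpectrum S} {x : Lˣ} {c : Kˣ} {a b : S} (ha : a ∉ m.asIdeal) (hb : b ∉ m.asIdeal)
    (h : (x : L) * b = algebraMap K L c * a) : val hS m x = mk V K c := by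
  obtain ⟨a', b', ha', hb', h'⟩ := (hS.local_form m x).choose_spec
  exact eq_of_local_form hS ha' hb' ha hb h' h

theorem exists_local_form (m : MaximalSpectrum S) (x : Lˣ) : ∃ (c : Kˣ) (a b : S),
    a ∉ m.asIdeal ∧ b ∉ m.asIdeal ∧ (x : L) * b = algebraMap K L c * a ∧ val hS m x = mk V K c := by
  obtain ⟨c, a, b, ha, hb, h⟩ := hS.local_form m x
  exact ⟨c, a, b, ha, hb, h, val_eq hS ha hb h⟩

/-- An element of value one everywhere is a unit of the extension. -/
theorem mem_of_val_eq_one {x : Lˣ} (hx : ∀ m, val hS m x = 1) : (x : L) ∈ S ∧ ((x⁻¹ : Lˣ) : L) ∈ S := by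
  suffices key : ∀ x : Lˣ, (∀ m, val hS m x = 1) → (x : L) ∈ S from
    ⟨key x hx, key x⁻¹ fun m => by rw [map_inv, hx m, inv_one]⟩
  intro x hx
  by_contra hxS
  let I : Ideal S :=
    { carrier := {s | (x : L) * (s : L) ∈ S}
      add_mem' := fun {a b} (ha : _ ∈ S) (hb : _ ∈ S) => show _ ∈ S by
        rw [Subalgebra.coe_add, mul_add]; exact S.add_mem ha hb
      zero_mem' := show _ ∈ S by rw [Subalgebra.coe_zero, mul_zero]; exact S.zero_mem
      smul_mem' := fun r s (hs : _ ∈ S) => show _ ∈ S by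
        rw [smul_eq_mul, Subalgebra.coe_mul, mul_left_comm]; exact S.mul_mem r.2 hs }
  have hI : I ≠ ⊤ := fun h => hxS (by
    have h1 : (x : L) * ((1 : S) : L) ∈ S := (h ▸ Submodule.mem_top : (1 : S) ∈ I)
    rwa [OneMemClass.coe_one, mul_one] at h1)
  obtain ⟨M, hM, hIM⟩ := Ideal.exists_le_maximal I hI
  obtain ⟨c, a, b, ha, hb, h, hv⟩ := exists_local_form hS ⟨M, hM⟩ x
  rw [hx] at hv
  obtain ⟨u, hu⟩ := (mk_eq_one_iff V K).1 hv.symm
  refine hb (hIM ?_)
  show (x : L) * (b : L) ∈ S
  rw [h, ← hu]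
  have : algebraMap K L (Units.map (algebraMap V K).toMonoidHom u : Kˣ) = algebraMap V L u :=
    (IsScalarTower.algebraMap_apply V K L _).symm
  rw [this]
  exact S.mul_mem (S.algebraMap_mem _) a.2

theorem val_algebraMap (m : MaximalSpectrum S) (c : Kˣ) :
    val hS m (Units.map (algebraMap K L).toMonoidHom c) = mk V K c :=
  val_eq hS (a := 1) (b := 1) m.isMaximal.isPrime.one_notMem m.isMaximal.isPrime.one_notMem (by simp)

theorem val_eq_one {m : MaximalSpectrum S} {x : Lˣ} {a b : S} (ha : a ∉ m.asIdeal) (hb : b ∉ m.asIdeal)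
    (h : (x : L) * b = a) : val hS m x = 1 := by
  rw [val_eq hS (c := 1) ha hb (by rw [Units.val_one, map_one, one_mul]; exact h), map_one]

/-! ### The prime over a given prime below a maximal ideal -/

omit hS in
/-- The elements which at `m` lie in `p`. -/
def primeBelow (m : MaximalSpectrum S) (p : Ideal V) : Ideal S where
  carrier := {s | ∃ v, v ∉ m.asIdeal ∧ v * s ∈ p.map (algebraMap V S)}
  add_mem' := by
    rintro a b ⟨v, hv, ha⟩ ⟨w, hw, hb⟩
    refine ⟨v * w, fun h => (m.isMaximal.isPrime.mem_or_mem h).elim hv hw, ?_⟩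
    rw [mul_add]
    refine Ideal.add_mem _ ?_ ?_
    · rw [mul_right_comm]; exact Ideal.mul_mem_right _ _ ha
    · rw [mul_assoc]; exact Ideal.mul_mem_left _ _ hb
  zero_mem' := ⟨1, m.isMaximal.isPrime.one_notMem, by rw [mul_zero]; exact Ideal.zero_mem _⟩
  smul_mem' := by
    rintro r s ⟨v, hv, hs⟩
    exact ⟨v, hv, by rw [smul_eq_mul, mul_left_comm]; exact Ideal.mul_mem_left _ _ hs⟩

omit hS [Algebra K L] [IsScalarTower V K L] [IsFractionRing V K] in
theorem exists_eq_mul_of_mem_map {p : Ideal V} {x : S} (hx : x ∈ p.map (algebraMap V S)) :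
    ∃ r ∈ p, ∃ t : S, x = algebraMap V S r * t := by
  induction hx using Submodule.span_induction with
  | mem z hz => obtain ⟨r, hr, rfl⟩ := hz; exact ⟨r, hr, 1, (mul_one _).symm⟩
  | zero => exact ⟨0, p.zero_mem, 0, by rw [mul_zero]⟩
  | add z w _ _ hz hw =>
    obtain ⟨r, hr, t, rfl⟩ := hz
    obtain ⟨r', hr', t', rfl⟩ := hw
    rcases ValuationRing.dvd_total r r' with ⟨d, rfl⟩ | ⟨d, rfl⟩
    · exact ⟨r, hr, t + algebraMap V S d * t', by rw [map_mul]; ring⟩
    · exact ⟨r', hr', algebraMap V S d * t + t', by rw [map_mul]; ring⟩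
  | smul a z _ hz =>
    obtain ⟨r, hr, t, rfl⟩ := hz
    exact ⟨r, hr, a * t, by rw [smul_eq_mul]; ring⟩

/-- The integral form of an element at `m`. -/
theorem exists_integral_form (m : MaximalSpectrum S) (s : S) (hs : s ≠ 0) : ∃ (d : V) (a b : S),
    d ≠ 0 ∧ a ∉ m.asIdeal ∧ b ∉ m.asIdeal ∧ s * b = algebraMap V S d * a := by
  have hs' : (s : L) ≠ 0 := fun h => hs (Subtype.ext h)
  obtain ⟨c, a, b, ha, hb, h⟩ := hS.local_form m (Units.mk0 _ hs')
  obtain ⟨d, hd0, hd | hd⟩ := mem_or_inv (V := V) c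
  · refine ⟨d, a, b, hd0, ha, hb, Subtype.ext ?_⟩
    rw [Subalgebra.coe_mul, Subalgebra.coe_mul, ← Units.val_mk0 hs', h, ← hd, ← IsScalarTower.algebraMap_apply]
    rfl
  · by_cases hdu : IsUnit d
    · refine ⟨(hdu.unit⁻¹ : Vˣ), a, b, Units.ne_zero _, ha, hb, Subtype.ext ?_⟩
      rw [Subalgebra.coe_mul, Subalgebra.coe_mul, ← Units.val_mk0 hs', h]
      congr 1
      show algebraMap K L c = algebraMap V L _
      rw [IsScalarTower.algebraMap_apply V K L, map_units_inv, IsUnit.unit_spec, hd, Units.val_inv_eq_inv_val, inv_inv]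
    · refine absurd ?_ ha
      have : a = algebraMap V S d * (s * b) := Subtype.ext (by
        rw [Subalgebra.coe_mul, Subalgebra.coe_mul, ← Units.val_mk0 hs', h,
          show ((algebraMap V S d : S) : L) = algebraMap V L d from rfl, IsScalarTower.algebraMap_apply V K L, hd,
          ← mul_assoc, ← map_mul, Units.inv_mul, map_one, one_mul])
      rw [this]
      exact m.asIdeal.mul_mem_right _ (hS.mem_max m d hdu)

theorem mem_primeBelow_iff (m : MaximalSpectrum S) (p : Ideal V) [p.IsPrime] {s a b : S} {d : V}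
    (hd : d ≠ 0) (ha : a ∉ m.asIdeal) (hb : b ∉ m.asIdeal) (h : s * b = algebraMap V S d * a) :
    s ∈ primeBelow m p ↔ d ∈ p := by
  constructor
  · rintro ⟨v, hv, hvs⟩
    obtain ⟨r, hr, t, ht⟩ := exists_eq_mul_of_mem_map hvs
    by_contra hdp
    rcases ValuationRing.dvd_total d r with ⟨e, rfl⟩ | ⟨e, rfl⟩
    · have hep : e ∈ p := (‹p.IsPrime›.mem_or_mem hr).resolve_left hdp
      have : algebraMap V S d * (v * a) = algebraMap V S d * (algebraMap V S e * (t * b)) := by
        rw [map_mul] at ht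
        linear_combination (-v) * h + b * ht
      have hd' : algebraMap V S d ≠ 0 := fun h0 => hd (algebraMap_inj (K := K) (by
        apply (algebraMap K L).injective
        rw [← IsScalarTower.algebraMap_apply, map_zero, map_zero]
        exact congrArg Subtype.val h0))
      have h3 := mul_left_cancel₀ hd' this
      refine (fun hm => (m.isMaximal.isPrime.mem_or_mem hm).elim hv ha) (h3 ▸ ?_)
      exact m.asIdeal.mul_mem_right _ (hS.mem_max m e fun hu => ‹p.IsPrime›.ne_top (p.eq_top_of_isUnit_mem hep hu))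
    · exact hdp (p.mul_mem_right _ hr)
  · intro hdp
    refine ⟨b, hb, ?_⟩
    rw [mul_comm, h]
    exact Ideal.mul_mem_right _ _ (Ideal.mem_map_of_mem _ hdp)

theorem primeBelow_isPrime (m : MaximalSpectrum S) (p : Ideal V) [p.IsPrime] : (primeBelow m p).IsPrime := by
  refine ⟨fun h => ?_, fun {s t} hst => ?_⟩
  · have h1 : (1 : S) ∈ primeBelow m p := h ▸ Submodule.mem_top
    rw [mem_primeBelow_iff hS m p one_ne_zero m.isMaximal.isPrime.one_notMem m.isMaximal.isPrime.one_notMem
      (by rw [map_one])] at h1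
    exact p.one_notMem h1
  · by_cases hs : s = 0
    · exact Or.inl (hs ▸ Ideal.zero_mem _)
    by_cases ht : t = 0
    · exact Or.inr (ht ▸ Ideal.zero_mem _)
    obtain ⟨d, a, b, hd, ha, hb, h⟩ := exists_integral_form hS m s hs
    obtain ⟨d', a', b', hd', ha', hb', h'⟩ := exists_integral_form hS m t ht
    rw [mem_primeBelow_iff hS m p (mul_ne_zero hd hd') (a := a * a') (b := b * b')
      (fun hm => (m.isMaximal.isPrime.mem_or_mem hm).elim ha ha')
      (fun hm => (m.isMaximal.isPrime.mem_or_mem hm).elim hb hb')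
      (by rw [map_mul]; linear_combination (t * b') * h + (algebraMap V S d * a) * h')] at hst
    rw [mem_primeBelow_iff hS m p hd ha hb h, mem_primeBelow_iff hS m p hd' ha' hb' h']
    exact ‹p.IsPrime›.mem_or_mem hst

theorem primeBelow_le (m : MaximalSpectrum S) (p : Ideal V) [p.IsPrime] : primeBelow m p ≤ m.asIdeal := by
  rintro s ⟨v, hv, hvs⟩
  refine (m.isMaximal.isPrime.mem_or_mem ?_).resolve_left hv
  refine Ideal.map_le_iff_le_comap.2 (fun r hr => ?_) hvs
  exact hS.mem_max m r fun hu => ‹p.IsPrime›.ne_top (p.eq_top_of_isUnit_mem hr hu)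

theorem comap_primeBelow (m : MaximalSpectrum S) (p : Ideal V) [p.IsPrime] :
    (primeBelow m p).comap (algebraMap V S) = p := by
  ext r
  rw [Ideal.mem_comap]
  by_cases hr : r = 0
  · simp [hr]
  · rw [mem_primeBelow_iff hS m p hr m.isMaximal.isPrime.one_notMem m.isMaximal.isPrime.one_notMem rfl]

theorem eq_primeBelow (m : MaximalSpectrum S) (p : Ideal V) [p.IsPrime] (Q : Ideal S) [Q.IsPrime]
    (hQ : Q ≤ m.asIdeal) (hQp : Q.comap (algebraMap V S) = p) : Q = primeBelow m p := by
  refine le_antisymm (fun s hs => ?_) ?_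
  · by_cases hs0 : s = 0
    · exact hs0 ▸ Ideal.zero_mem _
    obtain ⟨d, a, b, hd, ha, hb, h⟩ := exists_integral_form hS m s hs0
    rw [mem_primeBelow_iff hS m p hd ha hb h, ← hQp, Ideal.mem_comap]
    exact (‹Q.IsPrime›.mem_or_mem (h ▸ Q.mul_mem_right b hs)).resolve_right fun h1 => ha (hQ h1)
  · rintro s ⟨v, hv, hvs⟩
    exact (‹Q.IsPrime›.mem_or_mem (Ideal.map_le_iff_le_comap.2 (hQp ▸ le_rfl) hvs)).resolve_left
      fun h => hv (hQ h)

/-- Values at two maximal ideals over the same prime differ by units at that prime. -/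
theorem val_div_mem (m m' : MaximalSpectrum S) (p : Ideal V) [p.IsPrime] (h : primeBelow m p = primeBelow m' p)
    (x : Lˣ) : val hS m x / val hS m' x ∈ unitsAt p := by
  obtain ⟨c, a, b, ha, hb, he, hv⟩ := exists_local_form hS m x
  obtain ⟨c', a', b', ha', hb', he', hv'⟩ := exists_local_form hS m' x
  have key : algebraMap K L (c / c' : Kˣ) * ((a * b' : S) : L) = ((a' * b : S) : L) := by
    rw [Subalgebra.coe_mul, Subalgebra.coe_mul, Units.val_div_eq_div_val, map_div₀]
    have hc' : algebraMap K L c' ≠ 0 := (map_ne_zero _).2 c'.ne_zero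
    field_simp
    linear_combination (-(b' : L)) * he + (b : L) * he'
  haveI := primeBelow_isPrime hS m p
  have hq : ∀ s, s ∉ m.asIdeal → s ∉ primeBelow m p := fun s hs h1 => hs (primeBelow_le hS m p h1)
  have hq' : ∀ s, s ∉ m'.asIdeal → s ∉ primeBelow m p := fun s hs h1 => hs (primeBelow_le hS m' p (h ▸ h1))
  suffices hu : ∀ (r : Kˣ) (d : V) (s t : S), s ∉ primeBelow m p → t ∉ primeBelow m p → algebraMap V K d = r →
      algebraMap K L r * (s : L) = t → d ∉ p by
    rw [hv, hv', ← map_div]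
    obtain ⟨d, hd0, hd | hd⟩ := mem_or_inv (V := V) (c / c')
    · have := hu _ d _ _ (fun hm => (‹(primeBelow m p).IsPrime›.mem_or_mem hm).elim (hq _ ha) (hq' _ hb'))
        (fun hm => (‹(primeBelow m p).IsPrime›.mem_or_mem hm).elim (hq' _ ha') (hq _ hb)) hd key
      rw [← cls_mem_unitsAt_iff (K := K) p d hd0] at this
      convert! this using 1
      exact congrArg (mk V K) (Units.ext hd.symm)
    · have key' : algebraMap K L ((c / c')⁻¹ : Kˣ) * ((a' * b : S) : L) = ((a * b' : S) : L) := by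
        rw [← key, ← mul_assoc, ← map_mul, Units.inv_mul, map_one, one_mul]
      have := hu _ d _ _ (fun hm => (‹(primeBelow m p).IsPrime›.mem_or_mem hm).elim (hq' _ ha') (hq _ hb))
        (fun hm => (‹(primeBelow m p).IsPrime›.mem_or_mem hm).elim (hq _ ha) (hq' _ hb')) hd key'
      rw [← cls_mem_unitsAt_iff (K := K) p d hd0] at this
      rw [← inv_mem_iff]
      convert! this using 1
      rw [← map_inv]
      exact congrArg (mk V K) (Units.ext hd.symm)
  intro r d s t hs ht hd he
  intro hdp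
  refine ht ?_
  have : t = algebraMap V S d * s := Subtype.ext (by
    rw [← he, ← hd, ← IsScalarTower.algebraMap_apply]
    rfl)
  rw [this]
  refine Ideal.mul_mem_right _ _ ?_
  rw [← Ideal.mem_comap, comap_primeBelow hS m p]
  exact hdp

end ext

end Groth.Agent.Tors37.ValLift
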