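import Groth.Agent.Tors37.ValLift
import Mathlib.RingTheory.LocalRing.MaximalIdeal.Basic

/-! The lifting theorem for equivariant homomorphisms into divisors. -/

set_option autoImplicit false
set_option linter.style.haveILetI false
set_option linter.unusedSectionVars false

namespace Groth.Agent.Tors37.ValLift

universe u

variable {V K : Type u} [CommRing V] [IsDomain V] [ValuationRing V] [Field K] [Algebra V K] [IsFractionRing V K]
variable {L : Type u} [Field L] [Algebra K L] [Algebra V L] [IsScalarTower V K L]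
variable {S : Subalgebra V L} (hS : Unram (K := K) S)
variable {Γ : Type*} [Group Γ] [Fintype Γ] (ρ : Γ →* (L ≃ₐ[K] L)) (hρ : ∀ γ, ∀ x ∈ S, ρ γ x ∈ S)

/-- The action on the extension. -/
def rS (γ : Γ) : S →ₐ[V] S :=
  (((ρ γ).toAlgHom.restrictScalars V).comp S.val).codRestrict S fun x => hρ γ x x.2

@[simp] theorem coe_rS (γ : Γ) (x : S) : (rS ρ hρ γ x : L) = ρ γ x := rfl

theorem rS_one (x : S) : rS ρ hρ 1 x = x := Subtype.ext (by rw [coe_rS, map_one]; rfl)

theorem rS_mul (γ δ : Γ) (x : S) : rS ρ hρ (γ * δ) x = rS ρ hρ γ (rS ρ hρ δ x) :=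
  Subtype.ext (by rw [coe_rS, map_mul]; rfl)

theorem rS_surjective (γ : Γ) : Function.Surjective (rS ρ hρ γ) := fun x =>
  ⟨rS ρ hρ γ⁻¹ x, by rw [← rS_mul, mul_inv_cancel, rS_one]⟩

/-- The action on maximal ideals. -/
def act (γ : Γ) (m : MaximalSpectrum S) : MaximalSpectrum S :=
  ⟨m.asIdeal.comap (rS ρ hρ γ⁻¹),
    haveI := m.isMaximal
    Ideal.comap_isMaximal_of_surjective _ (rS_surjective ρ hρ γ⁻¹)⟩

theorem rS_mem_act (γ : Γ) (m : MaximalSpectrum S) (s : S) :
    rS ρ hρ γ s ∈ (act ρ hρ γ m).asIdeal ↔ s ∈ m.asIdeal := by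
  show rS ρ hρ γ⁻¹ (rS ρ hρ γ s) ∈ m.asIdeal ↔ _
  rw [← rS_mul, inv_mul_cancel, rS_one]

theorem act_mul (γ δ : Γ) (m : MaximalSpectrum S) : act ρ hρ (γ * δ) m = act ρ hρ γ (act ρ hρ δ m) := by
  refine MaximalSpectrum.ext (Ideal.ext fun x => ?_)
  show rS ρ hρ (γ * δ)⁻¹ x ∈ m.asIdeal ↔ rS ρ hρ δ⁻¹ (rS ρ hρ γ⁻¹ x) ∈ m.asIdeal
  rw [← rS_mul, mul_inv_rev]

theorem act_inv_act (γ : Γ) (m : MaximalSpectrum S) : act ρ hρ γ⁻¹ (act ρ hρ γ m) = m := by
  rw [← act_mul, inv_mul_cancel]
  exact MaximalSpectrum.ext (Ideal.ext fun x => by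
    show rS ρ hρ 1⁻¹ x ∈ m.asIdeal ↔ _
    rw [inv_one, rS_one])

/-- The action on units of the field. -/
def actL (γ : Γ) : Lˣ →* Lˣ := Units.map (ρ γ).toAlgHom.toRingHom.toMonoidHom

include hS in
theorem val_act (γ : Γ) (m : MaximalSpectrum S) (x : Lˣ) :
    val hS (act ρ hρ γ m) (actL ρ γ x) = val hS m x := by
  obtain ⟨c, a, b, ha, hb, h, hv⟩ := exists_local_form hS m x
  rw [hv]
  refine val_eq hS (a := rS ρ hρ γ a) (b := rS ρ hρ γ b) (fun h1 => ha ((rS_mem_act ρ hρ γ m a).1 h1))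
    (fun h1 => hb ((rS_mem_act ρ hρ γ m b).1 h1)) ?_
  show ρ γ x * ρ γ b = algebraMap K L c * ρ γ a
  rw [← map_mul, h, map_mul, AlgEquiv.commutes]

include hS in
theorem primeBelow_act (γ : Γ) (m : MaximalSpectrum S) (p : Ideal V) [p.IsPrime] :
    primeBelow (act ρ hρ γ m) p = (primeBelow m p).comap (rS ρ hρ γ⁻¹) := by
  haveI := primeBelow_isPrime hS m p
  haveI : ((primeBelow m p).comap (rS ρ hρ γ⁻¹)).IsPrime := Ideal.IsPrime.comap _
  refine (eq_primeBelow hS (act ρ hρ γ m) p ((primeBelow m p).comap (rS ρ hρ γ⁻¹))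
    (fun x hx => primeBelow_le hS m p hx) ?_).symm
  ext r
  show rS ρ hρ γ⁻¹ (algebraMap V S r) ∈ primeBelow m p ↔ r ∈ p
  rw [AlgHom.commutes, ← Ideal.mem_comap, comap_primeBelow hS m p]

include hS in
/-- Elements separating the primes over the least prime containing `c`. -/
theorem exists_separating (p : Ideal V) [p.IsPrime] (c : V) (hcp : c ∈ p)
    (hmin : ∀ p' : Ideal V, p'.IsPrime → c ∈ p' → p ≤ p') (m₀ : MaximalSpectrum S) :
    ∃ y : S, (∀ m : MaximalSpectrum S, primeBelow m p = primeBelow m₀ p →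
        ∃ u, u ∉ m.asIdeal ∧ y * u ∈ Ideal.span {algebraMap V S c ^ 2}) ∧
      ∀ m : MaximalSpectrum S, primeBelow m p ≠ primeBelow m₀ p → y ∉ m.asIdeal := by
  classical
  haveI := hS.finite_max
  cases nonempty_fintype (MaximalSpectrum S)
  let Q := primeBelow m₀ p
  let others := (Finset.univ : Finset (MaximalSpectrum S)).filter fun m => primeBelow m p ≠ Q
  have hcop : ∀ m ∈ others, Q ⊔ primeBelow m p = ⊤ := by
    intro m hm
    by_contra hne
    obtain ⟨M, hM, hle⟩ := Ideal.exists_le_maximal _ hne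
    haveI := primeBelow_isPrime hS m₀ p
    haveI := primeBelow_isPrime hS m p
    refine (Finset.mem_filter.1 hm).2 ?_
    exact (eq_primeBelow hS ⟨M, hM⟩ p _ (le_sup_right.trans hle) (comap_primeBelow hS m p)).trans
      (eq_primeBelow hS ⟨M, hM⟩ p Q (le_sup_left.trans hle) (comap_primeBelow hS m₀ p)).symm
  have htop := Ideal.sup_iInf_eq_top (s := others) (I := Q) (J := fun m => primeBelow m p) hcop
  obtain ⟨a, ha, b, hb, hab⟩ := Submodule.mem_sup.1 (htop ▸ Submodule.mem_top : (1 : S) ∈ Q ⊔ _)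
  simp only [Submodule.mem_iInf] at hb
  have hbm : ∀ m : MaximalSpectrum S, primeBelow m p ≠ Q → b ∈ primeBelow m p := fun m hm =>
    hb m (Finset.mem_filter.2 ⟨Finset.mem_univ _, hm⟩)
  have hab' : a * b ∈ (Ideal.span {algebraMap V S c ^ 2}).radical := by
    rw [Ideal.radical_eq_sInf]
    refine Ideal.mem_sInf.2 fun {P} hP => ?_
    obtain ⟨hcP, hPp⟩ := hP
    haveI := hPp
    obtain ⟨M, hM, hPM⟩ := Ideal.exists_le_maximal P hPp.ne_top
    have hc : algebraMap V S c ∈ P := hPp.mem_of_pow_mem 2 (hcP (Ideal.mem_span_singleton_self _))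
    have hle : p ≤ P.comap (algebraMap V S) := hmin _ (Ideal.IsPrime.comap _) hc
    have hq : primeBelow ⟨M, hM⟩ p ≤ P := by
      rintro s ⟨v, hv, hvs⟩
      exact (hPp.mem_or_mem (Ideal.map_le_iff_le_comap.2 hle hvs)).resolve_left fun h => hv (hPM h)
    by_cases hMQ : primeBelow ⟨M, hM⟩ p = Q
    · exact P.mul_mem_right _ (hq (hMQ ▸ ha))
    · exact P.mul_mem_left _ (hq (hbm _ hMQ))
  obtain ⟨N, hN⟩ := hab'
  have hN' : (a * b) ^ (N + 1) ∈ Ideal.span {algebraMap V S c ^ 2} := by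
    rw [pow_succ (a * b)]; exact Ideal.mul_mem_right _ _ hN
  have hco : IsCoprime (a ^ (N + 1)) (b ^ (N + 1)) :=
    IsCoprime.pow ⟨1, 1, by rw [one_mul, one_mul, hab]⟩
  obtain ⟨u, v, huv⟩ := hco
  refine ⟨u * a ^ (N + 1), fun m hm => ⟨v * b ^ (N + 1), fun hmem => ?_, ?_⟩, fun m hm hmem => ?_⟩
  · refine m.isMaximal.isPrime.one_notMem (huv ▸ m.asIdeal.add_mem ?_ hmem)
    refine m.asIdeal.mul_mem_left _ (Ideal.pow_mem_of_mem _ ?_ _ N.succ_pos)
    exact primeBelow_le hS m p (hm ▸ ha)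
  · rw [mul_mul_mul_comm, ← mul_pow]
    exact Ideal.mul_mem_left _ _ hN'
  · refine m.isMaximal.isPrime.one_notMem (huv ▸ m.asIdeal.add_mem hmem ?_)
    exact m.asIdeal.mul_mem_left _ (Ideal.pow_mem_of_mem _ (primeBelow_le hS m p (hbm m hm)) _ N.succ_pos)

include hS hρ in
/-- The equivariant family of elementary divisors. -/
theorem exists_elementary (p : Ideal V) [p.IsPrime] (c : V) (hc : c ≠ 0) (hcp : c ∈ p)
    (hmin : ∀ p' : Ideal V, p'.IsPrime → c ∈ p' → p ≤ p') :
    ∃ z : MaximalSpectrum S → Lˣ,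
      (∀ m m', primeBelow m p = primeBelow m' p → z m = z m') ∧
      (∀ m m', primeBelow m' p = primeBelow m p → val hS m' (z m) = cls c hc) ∧
      (∀ m m', primeBelow m' p ≠ primeBelow m p → val hS m' (z m) = 1) ∧
      ∀ γ m, z (act ρ hρ γ m) = actL ρ γ (z m) := by
  classical
  haveI := hS.finite_max
  choose y hy₁ hy₂ using fun m₀ => exists_separating hS p c hcp hmin m₀
  -- make the choice depend only on the prime
  let rep : Ideal S → S := fun Q => if h : ∃ m₀, primeBelow m₀ p = Q then y h.choose else 1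
  have hrep₁ : ∀ m₀ m, primeBelow m p = primeBelow m₀ p →
      ∃ u, u ∉ m.asIdeal ∧ rep (primeBelow m₀ p) * u ∈ Ideal.span {algebraMap V S c ^ 2} := fun m₀ m h => by
    have hex : ∃ m₁, primeBelow m₁ p = primeBelow m₀ p := ⟨m₀, rfl⟩
    simp only [rep, dif_pos hex]
    exact hy₁ _ m (h.trans hex.choose_spec.symm)
  have hrep₂ : ∀ m₀ m, primeBelow m p ≠ primeBelow m₀ p → rep (primeBelow m₀ p) ∉ m.asIdeal := fun m₀ m h => by
    have hex : ∃ m₁, primeBelow m₁ p = primeBelow m₀ p := ⟨m₀, rfl⟩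
    simp only [rep, dif_pos hex]
    exact hy₂ _ m fun h' => h (h'.trans hex.choose_spec)
  let Y : MaximalSpectrum S → S := fun m => ∏ γ : Γ, rS ρ hρ γ (rep (primeBelow (act ρ hρ γ⁻¹ m) p))
  have hsame : ∀ (γ : Γ) m m', primeBelow m p = primeBelow m' p →
      primeBelow (act ρ hρ γ m) p = primeBelow (act ρ hρ γ m') p := fun γ m m' h => by
    rw [primeBelow_act hS, primeBelow_act hS, h]
  have hY₀ : ∀ m m', primeBelow m p = primeBelow m' p → Y m = Y m' := fun m m' h =>
    Finset.prod_congr rfl fun γ _ => by rw [hsame γ⁻¹ m m' h]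
  have hY₁ : ∀ m m', primeBelow m' p = primeBelow m p →
      ∃ u, u ∉ m'.asIdeal ∧ Y m * u ∈ Ideal.span {algebraMap V S c ^ 2} := fun m m' h => by
    obtain ⟨u, hu, hyu⟩ := hrep₁ m m' h
    refine ⟨u, hu, ?_⟩
    obtain ⟨r, hr⟩ : rep (primeBelow m p) ∣ Y m := by
      have := Finset.dvd_prod_of_mem (fun γ => rS ρ hρ γ (rep (primeBelow (act ρ hρ γ⁻¹ m) p)))
        (Finset.mem_univ (1 : Γ))
      have he : act ρ hρ 1⁻¹ m = m := by
        refine MaximalSpectrum.ext (Ideal.ext fun x => ?_)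
        show rS ρ hρ 1⁻¹⁻¹ x ∈ m.asIdeal ↔ _
        rw [inv_one, inv_one, rS_one]
      rwa [rS_one, he] at this
    rw [hr, mul_right_comm]
    exact Ideal.mul_mem_right _ _ hyu
  have hY₂ : ∀ m m', primeBelow m' p ≠ primeBelow m p → Y m ∉ m'.asIdeal := fun m m' h hmem => by
    obtain ⟨γ, -, hγ⟩ := (m'.isMaximal.isPrime.prod_mem_iff).1 hmem
    have h2 : rep (primeBelow (act ρ hρ γ⁻¹ m) p) ∈ (act ρ hρ γ⁻¹ m').asIdeal := by
      rw [show (act ρ hρ γ⁻¹ m').asIdeal = m'.asIdeal.comap (rS ρ hρ γ⁻¹⁻¹) from rfl, Ideal.mem_comap, inv_inv]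
      exact hγ
    refine hrep₂ _ _ (fun heq => h ?_) h2
    have := hsame γ _ _ heq
    rwa [← act_mul, ← act_mul, mul_inv_cancel, ← inv_mul_cancel γ, act_mul, act_inv_act, act_mul, act_inv_act] at this
  have hY₃ : ∀ δ m, Y (act ρ hρ δ m) = rS ρ hρ δ (Y m) := fun δ m => by
    show ∏ γ : Γ, _ = rS ρ hρ δ (∏ γ : Γ, _)
    rw [map_prod]
    refine (Fintype.prod_equiv (Equiv.mulLeft δ) _ _ fun γ => ?_).symm
    rw [Equiv.coe_mulLeft, rS_mul, ← act_mul, mul_inv_rev, inv_mul_cancel_right]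
  let C : S := algebraMap V S c
  have hCm : ∀ m : MaximalSpectrum S, C ∈ m.asIdeal := fun m =>
    hS.mem_max m c fun hu => ‹p.IsPrime›.ne_top (p.eq_top_of_isUnit_mem hcp hu)
  have hne : ∀ m, ((Y m + C : S) : L) ≠ 0 := fun m h0 => by
    have h0' : Y m + C = 0 := Subtype.ext h0
    obtain ⟨u, hu, hyu⟩ := hY₁ m m rfl
    obtain ⟨r, hr⟩ := Ideal.mem_span_singleton.1 hyu
    change Y m * u = C ^ 2 * r at hr
    have : C * (C * r + u) = 0 := by rw [← zero_mul u, ← h0']; linear_combination (norm := ring_nf) -hr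
    rcases mul_eq_zero.1 this with h1 | h1
    · exact hc (algebraMap_inj (K := K) ((algebraMap K L).injective (by
        rw [← IsScalarTower.algebraMap_apply, map_zero, map_zero]; exact congrArg Subtype.val h1)))
    · exact hu ((m.asIdeal.add_mem_iff_right (m.asIdeal.mul_mem_right _ (hCm m))).1 (h1 ▸ m.asIdeal.zero_mem))
  refine ⟨fun m => Units.mk0 _ (hne m), fun m m' h => Units.ext ?_, fun m m' h => ?_, fun m m' h => ?_, fun γ m => Units.ext ?_⟩
  · show ((Y m + C : S) : L) = ((Y m' + C : S) : L)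
    rw [hY₀ m m' h]
  · obtain ⟨u, hu, hyu⟩ := hY₁ m m' h
    obtain ⟨r, hr⟩ := Ideal.mem_span_singleton.1 hyu
    change Y m * u = C ^ 2 * r at hr
    refine (val_eq hS (a := C * r + u) (b := u) (fun h1 => hu ?_) hu ?_)
    · exact (m'.asIdeal.add_mem_iff_right (m'.asIdeal.mul_mem_right _ (hCm m'))).1 h1
    · show ((Y m + C : S) : L) * (u : L) = algebraMap K L (algebraMap V K c) * _
      rw [← IsScalarTower.algebraMap_apply, ← Subalgebra.coe_mul,
        show algebraMap V L c = (C : L) from rfl, ← Subalgebra.coe_mul]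
      congr 1
      linear_combination (norm := ring_nf) hr
  · refine val_eq_one hS (a := Y m + C) (b := 1) (fun h1 => hY₂ m m' h ?_) m'.isMaximal.isPrime.one_notMem
      (by rw [OneMemClass.coe_one, mul_one]; rfl)
    exact (m'.asIdeal.add_mem_iff_left (hCm m')).1 h1
  · show ((Y (act ρ hρ γ m) + C : S) : L) = ρ γ ((Y m + C : S) : L)
    rw [hY₃, ← coe_rS ρ hρ γ (Y m + C), map_add, AlgHom.commutes]

variable {G : Type*} [CommGroup G] (φ : Γ → G → G)

include hS hρ in
/-- Equivariant families of homomorphisms into the value group, compatible along common generalisations,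
lift to equivariant homomorphisms into the units of the field. -/
theorem exists_lift_aux (n : ℕ) : ∀ (Δ : Submodule ℤ (Additive (Val V K))), Module.Finite ℤ Δ →
    Module.finrank ℤ Δ ≤ n → ∀ f : MaximalSpectrum S → G →* Val V K,
    (∀ m g, Additive.ofMul (f m g) ∈ Δ) →
    (∀ (p : Ideal V) [p.IsPrime] m m', primeBelow m p = primeBelow m' p → ∀ g, f m g / f m' g ∈ unitsAt p) →
    (∀ γ m g, f (act ρ hρ γ m) (φ γ g) = f m g) →
    ∃ F : G →* Lˣ, (∀ m g, val hS m (F g) = f m g) ∧ ∀ γ g, F (φ γ g) = actL ρ γ (F g) := by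
  classical
  induction n using Nat.strong_induction_on with
  | _ n ih =>
  intro Δ hΔ hn f hf hcompat hequiv
  haveI := hΔ
  haveI := hS.finite_max
  cases nonempty_fintype (MaximalSpectrum S)
  -- torsion freeness
  haveI htf : Module.IsTorsionFree ℤ Δ := by
    have key : ∀ (δ : Val V K) (j : ℕ), j ≠ 0 → δ ^ j = 1 → δ = 1 := by
      intro δ j hj h
      obtain ⟨a, ha, rfl | rfl⟩ := exists_cls δ
      · rw [cls_eq_one_iff]
        have hm : cls (K := K) a ha ^ j ∈ unitsAt (IsLocalRing.maximalIdeal V) := h ▸ Subgroup.one_mem _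
        have := pow_mem_unitsAt _ hj hm
        rw [cls_mem_unitsAt_iff] at this
        simpa using this
      · rw [inv_eq_one, cls_eq_one_iff]
        have hm : (cls (K := K) a ha)⁻¹ ^ j ∈ unitsAt (IsLocalRing.maximalIdeal V) := h ▸ Subgroup.one_mem _
        have h3 := Subgroup.inv_mem _ (pow_mem_unitsAt _ hj hm)
        rw [inv_inv, cls_mem_unitsAt_iff] at h3
        simpa using h3
    refine Module.IsTorsionFree.of_smul_eq_zero fun r x hrx => ?_
    by_cases hr : r = 0
    · exact Or.inl hr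
    refine Or.inr (Subtype.ext ?_)
    have h1 : Additive.toMul (x : Additive (Val V K)) ^ r = 1 := congrArg (fun t : Δ => Additive.toMul (t : Additive (Val V K))) hrx
    obtain ⟨j, rfl | rfl⟩ := Int.eq_nat_or_neg r
    · exact Additive.toMul.injective (key _ j (by simpa using hr) (by simpa using h1))
    · exact Additive.toMul.injective (key _ j (by simpa using hr) (by simpa using h1))
  by_cases hbot : Δ = ⊥
  · refine ⟨1, fun m g => ?_, fun γ g => by rw [MonoidHom.one_apply, MonoidHom.one_apply, map_one]⟩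
    have := hf m g
    rw [hbot, Submodule.mem_bot] at this
    rw [MonoidHom.one_apply, map_one]
    exact (Additive.ofMul.injective (this.trans ofMul_one.symm)).symm
  obtain ⟨gen, hgen⟩ := (Module.Finite.iff_fg (N := Δ)).1 hΔ
  have hgen' : ∀ δ : Additive (Val V K), ∃ a : V, ∃ ha, Additive.toMul δ = cls a ha ∨ Additive.toMul δ = (cls a ha)⁻¹ :=
    fun δ => exists_cls _
  choose cg hcg0 hcg using hgen'
  let c := ∏ δ ∈ gen, cg δ
  have hc : c ≠ 0 := Finset.prod_ne_zero_iff.2 fun δ _ => hcg0 δ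
  have hmem_of : ∀ (p : Ideal V) [p.IsPrime] (δ : Additive (Val V K)), cg δ ∉ p → Additive.toMul δ ∈ unitsAt p := by
    intro p _ δ h
    have h2 := (cls_mem_unitsAt_iff (K := K) p _ (hcg0 δ)).2 h
    rcases hcg δ with h1 | h1 <;> rw [h1]
    exacts [h2, Subgroup.inv_mem _ h2]
  have hnotMem_of : ∀ (p : Ideal V) [p.IsPrime] (δ : Additive (Val V K)), cg δ ∈ p → Additive.toMul δ ∉ unitsAt p := by
    intro p _ δ h hu
    have h2 : cls (K := K) (cg δ) (hcg0 δ) ∈ unitsAt p := by
      rcases hcg δ with h1 | h1 <;> rw [h1] at hu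
      · exact hu
      · rwa [inv_mem_iff] at hu
    exact (cls_mem_unitsAt_iff (K := K) p _ _).1 h2 h
  have hcu : ¬ IsUnit c := by
    intro hu
    refine hbot (eq_bot_iff.2 ?_)
    rw [← hgen, Submodule.span_le]
    intro δ hδ
    have h1 : IsUnit (cg δ) := isUnit_of_dvd_unit (Finset.dvd_prod_of_mem cg hδ) hu
    have h2 := (cls_eq_one_iff (K := K) _ (hcg0 δ)).2 h1
    rw [SetLike.mem_coe, Submodule.mem_bot]
    rcases hcg δ with h | h <;> rw [h2] at h
    · exact Additive.toMul.injective h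
    · exact Additive.toMul.injective (h.trans inv_one)
  let p : Ideal V := (Ideal.span {c}).radical
  haveI hp : p.IsPrime := isPrime_radical _ fun h => hcu (Ideal.span_singleton_eq_top.1 h)
  have hcp : c ∈ p := Ideal.le_radical (Ideal.mem_span_singleton_self c)
  have hmin : ∀ p' : Ideal V, p'.IsPrime → c ∈ p' → p ≤ p' := fun p' hp' h =>
    (Ideal.IsPrime.radical_le_iff hp').2 ((Ideal.span_singleton_le_iff_mem _).2 h)
  -- the part of `Δ` supported above `p`
  let Up : Submodule ℤ (Additive (Val V K)) := AddSubgroup.toIntSubmodule (Subgroup.toAddSubgroup (unitsAt p))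
  have hUp : ∀ δ, δ ∈ Up ↔ Additive.toMul δ ∈ unitsAt p := fun δ => Iff.rfl
  have hsmall : ∀ (a : V) (ha : a ≠ 0), Additive.ofMul (cls (K := K) a ha) ∈ Δ → ∀ p' : Ideal V, p'.IsPrime → a ∈ p' → p ≤ p' := by
    intro a ha hδ p' hp' hap
    refine hmin p' hp' ?_
    by_contra hcp'
    have hsub : Δ ≤ AddSubgroup.toIntSubmodule (Subgroup.toAddSubgroup (unitsAt p')) := by
      rw [← hgen, Submodule.span_le]
      intro δ hδ'
      exact hmem_of p' δ fun h => hcp' (Ideal.mem_of_dvd _ (Finset.dvd_prod_of_mem cg hδ') h)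
    exact (cls_mem_unitsAt_iff (K := K) p' a ha).1 (hsub hδ) hap
  let W : Submodule ℤ Δ := Up.comap Δ.subtype
  haveI : IsNoetherian ℤ Δ := inferInstance
  haveI : Module.IsTorsionFree ℤ (Δ ⧸ W) := by
    refine Module.IsTorsionFree.of_smul_eq_zero fun r x hrx => ?_
    by_cases hr : r = 0
    · exact Or.inl hr
    refine Or.inr ?_
    obtain ⟨x, rfl⟩ := W.mkQ_surjective x
    rw [← map_smul, Submodule.mkQ_apply, Submodule.Quotient.mk_eq_zero] at hrx
    rw [Submodule.mkQ_apply, Submodule.Quotient.mk_eq_zero]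
    show Additive.toMul (x : Additive (Val V K)) ∈ unitsAt p
    have h1 : Additive.toMul (x : Additive (Val V K)) ^ r ∈ unitsAt p := hrx
    obtain ⟨j, rfl | rfl⟩ := Int.eq_nat_or_neg r
    · rw [zpow_natCast] at h1
      exact pow_mem_unitsAt p (by simpa using hr) h1
    · rw [zpow_neg, zpow_natCast, inv_mem_iff] at h1
      exact pow_mem_unitsAt p (by simpa using hr) h1
  haveI : Module.Free ℤ (Δ ⧸ W) := Module.free_of_finite_type_torsion_free'
  let bQ := Module.Free.chooseBasis ℤ (Δ ⧸ W)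
  choose b hb using fun j => W.mkQ_surjective (bQ j)
  -- elementary families for the basis
  have hZ : ∀ j, ∃ z : MaximalSpectrum S → Lˣ,
      (∀ m m', primeBelow m p = primeBelow m' p → z m = z m') ∧
      (∀ m m', primeBelow m' p = primeBelow m p → val hS m' (z m) = Additive.toMul (b j : Additive (Val V K))) ∧
      (∀ m m', primeBelow m' p ≠ primeBelow m p → val hS m' (z m) = 1) ∧
      ∀ γ m, z (act ρ hρ γ m) = actL ρ γ (z m) := by
    intro j
    obtain ⟨a, ha, h⟩ := exists_cls (Additive.toMul (b j : Additive (Val V K)))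
    have hbj : Additive.toMul (b j : Additive (Val V K)) ∉ unitsAt p := fun hmem => by
      have h0 : W.mkQ (b j) = 0 := (Submodule.Quotient.mk_eq_zero _).2 hmem
      exact bQ.ne_zero j ((hb j).symm.trans h0)
    have hap : a ∈ p := by
      by_contra hap
      refine hbj ?_
      have h2 := (cls_mem_unitsAt_iff (K := K) p a ha).2 hap
      rcases h with h | h <;> rw [h]
      exacts [h2, Subgroup.inv_mem _ h2]
    have hδ : Additive.ofMul (cls (K := K) a ha) ∈ Δ := by
      rcases h with h | h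
      · rw [← h]; exact (b j).2
      · rw [← inv_inv (cls (K := K) a ha), ← h]; exact Δ.neg_mem (b j).2
    obtain ⟨z, hz₀, hz₁, hz₂, hz₃⟩ := exists_elementary hS ρ hρ p a ha hap (hsmall a ha hδ)
    rcases h with h | h
    · exact ⟨z, hz₀, fun m m' hm => (hz₁ m m' hm).trans h.symm, hz₂, hz₃⟩
    · exact ⟨fun m => (z m)⁻¹, fun m m' hm => congrArg (fun t => t⁻¹) (hz₀ m m' hm),
        fun m m' hm => by rw [map_inv, hz₁ m m' hm, h], fun m m' hm => by rw [map_inv, hz₂ m m' hm, inv_one],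
        fun γ m => by simp only [hz₃, map_inv]⟩
  choose Z hZ₀ hZ₁ hZ₂ hZ₃ using hZ
  -- coefficients
  let co : MaximalSpectrum S → G → Module.Free.ChooseBasisIndex ℤ (Δ ⧸ W) → ℤ := fun m g j =>
    bQ.repr (W.mkQ ⟨Additive.ofMul (f m g), hf m g⟩) j
  have hco₀ : ∀ m m' g, primeBelow m p = primeBelow m' p → co m g = co m' g := by
    intro m m' g h
    funext j
    refine congrArg (fun x => bQ.repr x j) ((Submodule.Quotient.eq W).2 ?_)
    exact hcompat p m m' h g
  have hco₁ : ∀ m g g', co m (g * g') = co m g + co m g' := by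
    intro m g g'
    funext j
    simp only [co, Pi.add_apply, ← Finsupp.add_apply, ← map_add]
    congr 3
    exact Subtype.ext (congrArg Additive.ofMul (map_mul (f m) g g'))
  have hco₂ : ∀ γ m g, co (act ρ hρ γ m) (φ γ g) = co m g := by
    intro γ m g
    funext j
    refine congrArg (fun x => bQ.repr (W.mkQ x) j) (Subtype.ext ?_)
    exact congrArg Additive.ofMul (hequiv γ m g)
  -- one representative in each class
  let cl : MaximalSpectrum S → Ideal S := fun m => primeBelow m p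
  let R := (Finset.univ : Finset (MaximalSpectrum S)).image cl
  have hR : ∀ Q : R, ∃ m, cl m = Q.1 := fun Q => by
    obtain ⟨m, -, hm⟩ := Finset.mem_image.1 Q.2; exact ⟨m, hm⟩
  choose rep hrep using hR
  let F₀ : G →* Lˣ := MonoidHom.mk' (fun g => ∏ Q : R, ∏ j, Z j (rep Q) ^ co (rep Q) g j) fun g g' => by
    simp only [hco₁, Pi.add_apply, zpow_add, Finset.prod_mul_distrib]
  have hF₀v : ∀ m g, val hS m (F₀ g) = ∏ j, Additive.toMul (b j : Additive (Val V K)) ^ co m g j := by
    intro m g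
    let Q₀ : R := ⟨cl m, Finset.mem_image_of_mem _ (Finset.mem_univ m)⟩
    simp only [F₀, MonoidHom.mk'_apply, map_prod, map_zpow]
    rw [Fintype.prod_eq_single Q₀ fun Q hQ => Finset.prod_eq_one fun j _ => by
      rw [hZ₂ j (rep Q) m fun h => hQ (Subtype.ext ((hrep Q).symm.trans h.symm)), one_zpow]]
    refine Finset.prod_congr rfl fun j _ => ?_
    rw [hZ₁ j (rep Q₀) m (hrep Q₀).symm, hco₀ (rep Q₀) m g (hrep Q₀)]
  have hF₀e : ∀ γ g, F₀ (φ γ g) = actL ρ γ (F₀ g) := by
    intro γ g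
    have hmap : ∀ m m', cl m = cl m' → cl (act ρ hρ γ m) = cl (act ρ hρ γ m') := fun m m' h => by
      show primeBelow _ p = primeBelow _ p
      rw [primeBelow_act hS, primeBelow_act hS]; exact congrArg _ h
    let σ : R → R := fun Q => ⟨cl (act ρ hρ γ (rep Q)), Finset.mem_image_of_mem _ (Finset.mem_univ _)⟩
    have hσ : Function.Bijective σ := by
      refine Finite.injective_iff_bijective.1 fun Q Q' h => Subtype.ext ?_
      have h1 : cl (act ρ hρ γ (rep Q)) = cl (act ρ hρ γ (rep Q')) := congrArg Subtype.val h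
      rw [← hrep Q, ← hrep Q']
      have h2 : cl (act ρ hρ γ⁻¹ (act ρ hρ γ (rep Q))) = cl (act ρ hρ γ⁻¹ (act ρ hρ γ (rep Q'))) := by
        show primeBelow _ p = primeBelow _ p
        rw [primeBelow_act hS, primeBelow_act hS ρ hρ γ⁻¹ (act ρ hρ γ (rep Q'))]; exact congrArg _ h1
      rwa [act_inv_act, act_inv_act] at h2
    simp only [F₀, MonoidHom.mk'_apply, map_prod, map_zpow]
    refine (Fintype.prod_bijective σ hσ _ _ fun Q => Finset.prod_congr rfl fun j _ => ?_).symm
    have h1 : cl (rep (σ Q)) = cl (act ρ hρ γ (rep Q)) := hrep (σ Q)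
    rw [hZ₀ j _ _ h1, hco₀ _ _ (φ γ g) h1, hco₂, hZ₃]
  -- recursion
  let f' : MaximalSpectrum S → G →* Val V K := fun m => f m / (val hS m).comp F₀
  let Δ' : Submodule ℤ (Additive (Val V K)) := Δ ⊓ Up
  haveI : Module.Finite ℤ Δ' := Module.Finite.iff_fg.2
    (Submodule.FG.of_le (Module.Finite.iff_fg.1 hΔ) inf_le_left)
  have hrank : Module.finrank ℤ Δ' < n := by
    have e : W ≃ₗ[ℤ] Δ' := (Submodule.equivMapOfInjective Δ.subtype Subtype.val_injective W).trans
      (LinearEquiv.ofEq _ _ (by rw [Submodule.map_comap_eq, Submodule.range_subtype]))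
    rw [← e.finrank_eq]
    have h1 := Submodule.finrank_quotient_add_finrank W
    have h2 : 0 < Module.finrank ℤ (Δ ⧸ W) := by
      rw [Module.finrank_eq_card_chooseBasisIndex]
      rcases isEmpty_or_nonempty (Module.Free.ChooseBasisIndex ℤ (Δ ⧸ W)) with h | h
      swap
      · exact Fintype.card_pos
      exfalso
      obtain ⟨δ, hδ, hδp⟩ := (Ideal.IsPrime.prod_mem_iff (hp := hp)).1 hcp
      refine hnotMem_of p δ hδp ?_
      have hδΔ : δ ∈ Δ := hgen ▸ Submodule.subset_span hδ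
      haveI : Subsingleton (Δ ⧸ W) := bQ.repr.toEquiv.subsingleton
      exact (Submodule.Quotient.mk_eq_zero W).1 (Subsingleton.elim (W.mkQ ⟨δ, hδΔ⟩) 0)
    omega
  obtain ⟨F₁, hF₁v, hF₁e⟩ := ih (Module.finrank ℤ Δ') hrank Δ' ‹_› le_rfl f'
    (fun m g => by
      have hsum : (∑ j, co m g j • (b j : Additive (Val V K))) = Additive.ofMul (val hS m (F₀ g)) := by
        rw [hF₀v]; simp [ofMul_prod, ofMul_zpow]
      have he : Additive.ofMul (f' m g) = Additive.ofMul (f m g) - ∑ j, co m g j • (b j : Additive (Val V K)) := by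
        rw [hsum]; rfl
      let x : Δ := ⟨Additive.ofMul (f m g), hf m g⟩
      have hx : (x - ∑ j, co m g j • b j) ∈ W := by
        rw [← Submodule.Quotient.mk_eq_zero, ← Submodule.mkQ_apply, map_sub, map_sum]
        simp only [map_zsmul, hb]
        rw [sub_eq_zero]
        exact (bQ.sum_repr _).symm
      refine ⟨?_, ?_⟩
      · rw [he]
        exact Δ.sub_mem (hf m g) (Δ.sum_mem fun j _ => Δ.smul_mem _ (b j).2)
      · rw [he]
        simpa [W, x] using hx)
    (fun p' _ m m' h g => by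
      show f m g / val hS m (F₀ g) / (f m' g / val hS m' (F₀ g)) ∈ unitsAt p'
      rw [div_div_div_comm]
      exact Subgroup.div_mem _ (hcompat p' m m' h g) (val_div_mem hS m m' p' h _))
    (fun γ m g => by
      show f (act ρ hρ γ m) (φ γ g) / val hS (act ρ hρ γ m) (F₀ (φ γ g)) = f m g / val hS m (F₀ g)
      rw [hequiv, hF₀e, val_act hS ρ hρ])
  refine ⟨F₀ * F₁, fun m g => ?_, fun γ g => ?_⟩
  · rw [MonoidHom.mul_apply, map_mul, hF₁v]
    show val hS m (F₀ g) * (f m g / val hS m (F₀ g)) = _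
    rw [mul_div_cancel]
  · rw [MonoidHom.mul_apply, MonoidHom.mul_apply, map_mul, hF₀e, hF₁e]

include hS hρ in
/-- Lifting of equivariant homomorphisms into divisors. -/
theorem exists_lift [Group.FG G] (x : G → Lˣ) (hx : ∀ m g g', val hS m (x (g * g')) = val hS m (x g) * val hS m (x g'))
    (hxe : ∀ γ m g, val hS m (x (φ γ g)) = val hS m (actL ρ γ (x g))) :
    ∃ F : G →* Lˣ, (∀ m g, val hS m (F g) = val hS m (x g)) ∧ ∀ γ g, F (φ γ g) = actL ρ γ (F g) := by
  classical
  haveI := hS.finite_max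
  let f : MaximalSpectrum S → G →* Val V K := fun m => MonoidHom.mk' (fun g => val hS m (x g)) (hx m)
  obtain ⟨T, hT⟩ := (Group.fg_def).1 ‹Group.FG G›
  let s : Set (Additive (Val V K)) := (fun q : MaximalSpectrum S × G => Additive.ofMul (f q.1 q.2)) '' (Set.univ ×ˢ (T : Set G))
  let Δ : Submodule ℤ (Additive (Val V K)) := Submodule.span ℤ s
  have hs : s.Finite := ((Set.finite_univ).prod T.finite_toSet).image _
  refine exists_lift_aux hS ρ hρ φ (Module.finrank ℤ Δ) Δ (Module.Finite.iff_fg.2 ⟨hs.toFinset, by simp [Δ]⟩) le_rfl f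
    (fun m g => ?_) (fun p _ m m' h g => val_div_mem hS m m' p h _) fun γ m g => ?_
  · have hg : g ∈ Subgroup.closure (T : Set G) := hT ▸ Subgroup.mem_top g
    induction hg using Subgroup.closure_induction with
    | mem y hy => exact Submodule.subset_span ⟨(m, y), ⟨trivial, hy⟩, rfl⟩
    | one => rw [map_one, ofMul_one]; exact Δ.zero_mem
    | mul y y' _ _ hy hy' => rw [map_mul, ofMul_mul]; exact Δ.add_mem hy hy'
    | inv y _ hy => rw [map_inv, ofMul_inv]; exact Δ.neg_mem hy
  · show val hS (act ρ hρ γ m) (x (φ γ g)) = val hS m (x g)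
    rw [hxe, val_act hS ρ hρ]

end Groth.Agent.Tors37.ValLift
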